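import Groth.Agent.EGA43.InjFibre.Tuple
import Groth.Agent.EGA43.QcohFlat
import Groth.Agent.EGA43.Cons.FibFlatScheme
import Groth.Agent.Flatn12.PullbackSections
import Groth.Agent.Coherent.QcohOps
import Mathlib.AlgebraicGeometry.Fiber
import Mathlib.AlgebraicGeometry.Morphisms.Flat

/-!
# Universal injectivity of restriction to an open set (EGA IV 11.10.9)
-/

set_option autoImplicit false
set_option backward.isDefEq.respectTransparency false

universe u

open CategoryTheory CategoryTheory.Limits AlgebraicGeometry Opposite TopologicalSpace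
open Groth.Agent.Coherent

namespace Groth.Agent.EGA43.InjFibre

variable {X S X' S' : Scheme.{u}}

/-- Pullbacks of quasi-coherent modules are quasi-coherent. -/
theorem isQCoh_pullback (f : X' ⟶ X) (M : X.Modules) [Coh.IsQCoh M] :
    Coh.IsQCoh ((Scheme.Modules.pullback f).obj M) := by
  refine isQCoh_of_openImmersion_cover _
    (ι := {p : X'.affineOpens × X.affineOpens // (p.1 : X'.Opens) ≤ f ⁻¹ᵁ (p.2 : X.Opens)})
    (fun p => p.1.1.2.fromSpec) (fun x => ?_) fun ⟨⟨⟨U', hU'⟩, ⟨U, hU⟩⟩, e⟩ => ?_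
  · obtain ⟨V, hV, hfx, -⟩ := Opens.isBasis_iff_nbhd.mp X.isBasis_affineOpens (Opens.mem_top (f x))
    obtain ⟨U, hU, hxU, e⟩ := Opens.isBasis_iff_nbhd.mp X'.isBasis_affineOpens
      (show x ∈ f ⁻¹ᵁ V from hfx)
    exact ⟨⟨(⟨U, hU⟩, ⟨V, hV⟩), e⟩, by rwa [hU.opensRange_fromSpec]⟩
  · have := Flatn12.isQCoh_restrict_fromSpec' M hU
    let φ := f.appLE U U' e
    let N := moduleSpecΓFunctor.obj (M.restrict hU.fromSpec)
    have hc : hU'.fromSpec ≫ f = Spec.map φ ≫ hU.fromSpec :=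
      (hU.SpecMap_appLE_fromSpec f hU' e).symm
    let i : ((Scheme.Modules.pullback f).obj M).restrict hU'.fromSpec ≅
        (ModuleCat.extendScalars φ.hom ⋙ tilde.functor _).obj N :=
      (Scheme.Modules.restrictFunctorIsoPullback hU'.fromSpec).app _ ≪≫
        (Scheme.Modules.pullbackComp hU'.fromSpec f).app M ≪≫
        (Scheme.Modules.pullbackCongr hc).app M ≪≫
        ((Scheme.Modules.pullbackComp (Spec.map φ) hU.fromSpec).app M).symm ≪≫
        (Scheme.Modules.pullback (Spec.map φ)).mapIso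
          ((Scheme.Modules.restrictFunctorIsoPullback hU.fromSpec).app M).symm ≪≫
        (Scheme.Modules.pullback (Spec.map φ)).mapIso
          (asIso (M.restrict hU.fromSpec).fromTildeΓ).symm ≪≫
        (Flatn12.tildePullbackIso φ).app N
    exact (SheafOfModules.isQuasicoherent.{u} (Spec Γ(X', U')).ringCatSheaf).prop_of_iso i.symm
      (inferInstance : ((tilde.functor _).obj
        ((ModuleCat.extendScalars φ.hom).obj N)).IsQuasicoherent)

theorem mem_basicOpen_iff_notMem {U : X.Opens} (hU : IsAffineOpen U) {x : X} (hx : x ∈ U)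
    (c : Γ(X, U)) : x ∈ X.basicOpen c ↔ c ∉ (hU.primeIdealOf ⟨x, hx⟩).asIdeal := by
  let _ := (X.presheaf.germ U x hx).hom.toAlgebra
  have := hU.isLocalization_stalk ⟨x, hx⟩
  rw [Scheme.mem_basicOpen _ _ _ hx]
  exact IsLocalization.AtPrime.isUnit_to_map_iff (X.presheaf.stalk x)
    (hU.primeIdealOf ⟨x, hx⟩).asIdeal c

theorem comap_primeIdealOf (f : X' ⟶ X) {U : X.Opens} (hU : IsAffineOpen U) {U' : X'.Opens}
    (hU' : IsAffineOpen U') (e : U' ≤ f ⁻¹ᵁ U) {x : X'} (hx : x ∈ U') :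
    PrimeSpectrum.comap (f.appLE U U' e).hom (hU'.primeIdealOf ⟨x, hx⟩) =
      hU.primeIdealOf ⟨f x, e hx⟩ :=
  hU.fromSpec.isOpenEmbedding.injective (by
    rw [← Cons.fromSpec_comp_eq hU hU' e, hU'.fromSpec_primeIdealOf, hU.fromSpec_primeIdealOf])

theorem isAffineOpen_inf_preimage {fst : X' ⟶ X} {snd : X' ⟶ S'} {f : X ⟶ S} {g : S' ⟶ S}
    (H : IsPullback fst snd f g) {T : S.Opens} (hT : IsAffineOpen T) {U : X.Opens}
    (hU : IsAffineOpen U) {T' : S'.Opens} (hT' : IsAffineOpen T') (eU : U ≤ f ⁻¹ᵁ T)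
    (eT' : T' ≤ g ⁻¹ᵁ T) : IsAffineOpen (fst ⁻¹ᵁ U ⊓ snd ⁻¹ᵁ T') := by
  have : IsAffine _ := hT
  have : IsAffine _ := hU
  have : IsAffine _ := hT'
  exact .of_isIso (Scheme.Hom.isPullback_resLE H eT' eU rfl).isoPullback.hom

set_option maxHeartbeats 800000 in
/-- Comparing multiplication by a family on an affine base change. -/
theorem mulTuple_transfer {fst : X' ⟶ X} {snd : X' ⟶ S'} {f : X ⟶ S} {g : S' ⟶ S}
    (H : IsPullback fst snd f g) (F : X.Modules) [Coh.IsQCoh F] {T : S.Opens} (hT : IsAffineOpen T)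
    {U : X.Opens} (hU : IsAffineOpen U) {T' : S'.Opens} (hT' : IsAffineOpen T')
    (eU : U ≤ f ⁻¹ᵁ T) (eT' : T' ≤ g ⁻¹ᵁ T) {W : X'.Opens}
    (hW : W = fst ⁻¹ᵁ U ⊓ snd ⁻¹ᵁ T') (hWa : IsAffineOpen W) {ι : Type u} [Fintype ι]
    (a : ι → Γ(X, U)) {x' : X'} (hx' : x' ∈ W) :
    letI := (f.appLE T U eU).hom.toAlgebra
    letI := QcohFlat.overModule f F T U eU
    haveI : IsScalarTower Γ(S, T) Γ(X, U) Γ(F, U) := IsScalarTower.of_algebraMap_smul fun _ _ => rfl
    let Vanish : Prop := ∀ m : Γ((Scheme.Modules.pullback fst).obj F, W),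
      (∀ i, (fst.appLE U W (hW.trans_le inf_le_left)).hom (a i) • m = 0) →
        ∃ c : Γ(X', W), x' ∈ X'.basicOpen c ∧ c • m = 0
    (UInjAt Γ(S, T) Γ(X, U) (mulTuple Γ(F, U) a)
        (hU.primeIdealOf ⟨fst x', (hW.trans_le inf_le_left) hx'⟩) → Vanish) ∧
      (IsField Γ(S', T') → Vanish → FibInjAt Γ(S, T) Γ(X, U) (mulTuple Γ(F, U) a)
        (hU.primeIdealOf ⟨fst x', (hW.trans_le inf_le_left) hx'⟩)) := by
  have eW : W ≤ fst ⁻¹ᵁ U := hW.trans_le inf_le_left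
  have eW' : W ≤ snd ⁻¹ᵁ T' := hW.trans_le inf_le_right
  obtain ⟨E⟩ := Flatn12.nonempty_pullback_sections_equiv fst F hU hWa eW
  have hp := (isIso_pushoutSection_iff H eT' eU hW).1
    (isIso_pushoutSection_of_isAffineOpen H eT' eU hW hT hT' hU)
  let _ := (f.appLE T U eU).hom.toAlgebra
  let _ := (g.appLE T T' eT').hom.toAlgebra
  let _ := (fst.appLE U W eW).hom.toAlgebra
  let _ := (snd.appLE T' W eW').hom.toAlgebra
  let _ : Algebra Γ(S, T) Γ(X', W) :=
    ((fst.appLE U W eW).hom.comp (f.appLE T U eU).hom).toAlgebra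
  have : IsScalarTower Γ(S, T) Γ(X, U) Γ(X', W) := .of_algebraMap_eq fun _ => rfl
  have : IsScalarTower Γ(S, T) Γ(S', T') Γ(X', W) :=
    .of_algebraMap_eq fun r => ConcreteCategory.congr_hom hp.w r
  have : Algebra.IsPushout Γ(S, T) Γ(X, U) Γ(S', T') Γ(X', W) :=
    CommRingCat.isPushout_iff_isPushout.1 hp
  have : Algebra.IsPushout Γ(S, T) Γ(S', T') Γ(X, U) Γ(X', W) := Algebra.IsPushout.symm inferInstance
  let _ := QcohFlat.overModule f F T U eU
  have : IsScalarTower Γ(S, T) Γ(X, U) Γ(F, U) := IsScalarTower.of_algebraMap_smul fun _ _ => rfl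
  let P := (Scheme.Modules.pullback fst).obj F
  let _ : Module Γ(X, U) Γ(P, W) := Module.compHom Γ(P, W) (fst.appLE U W eW).hom
  let _ : Module Γ(S', T') Γ(P, W) := QcohFlat.overModule snd P T' W eW'
  let _ : Module Γ(S, T) Γ(P, W) :=
    Module.compHom Γ(P, W) ((fst.appLE U W eW).hom.comp (f.appLE T U eU).hom)
  have : IsScalarTower Γ(X, U) Γ(X', W) Γ(P, W) := IsScalarTower.of_algebraMap_smul fun _ _ => rfl
  have : IsScalarTower Γ(S', T') Γ(X', W) Γ(P, W) :=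
    IsScalarTower.of_algebraMap_smul fun _ _ => rfl
  have : IsScalarTower Γ(S, T) Γ(X, U) Γ(P, W) := IsScalarTower.of_algebraMap_smul fun _ _ => rfl
  have : IsScalarTower Γ(S, T) Γ(X', W) Γ(P, W) := IsScalarTower.of_algebraMap_smul fun _ _ => rfl
  have : IsScalarTower Γ(S, T) Γ(S', T') Γ(P, W) := IsScalarTower.of_algebraMap_smul fun r m => by
    show (snd.appLE T' W eW').hom ((g.appLE T T' eT').hom r) • m = _
    exact congrArg (· • m) (ConcreteCategory.congr_hom hp.w r).symm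
  let μ₀ : Γ(F, U) →ₗ[Γ(X, U)] Γ(P, W) :=
    (E.toLinearMap.restrictScalars Γ(X, U)) ∘ₗ (TensorProduct.mk Γ(X, U) Γ(X', W) Γ(F, U) 1)
  have hμ₀ : IsBaseChange Γ(X', W) μ₀ :=
    IsBaseChange.of_equiv E fun _ => rfl
  let μ := μ₀.restrictScalars Γ(S, T)
  have hμ : IsBaseChange Γ(S', T') μ :=
    (Cons.isBaseChange_iff_of_isPushout (R := Γ(S, T)) (T := Γ(S', T')) (R' := Γ(X, U))
      (T' := Γ(X', W)) μ₀).1 hμ₀
  have hμB : ∀ (b : Γ(X, U)) m, μ (b • m) = algebraMap Γ(X, U) Γ(X', W) b • μ m := fun b m =>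
    (μ₀.map_smul b m).trans (algebraMap_smul _ b _).symm
  let v : Γ(P, W) →ₗ[Γ(X', W)] (ι → Γ(P, W)) :=
    mulTuple Γ(P, W) fun i => (fst.appLE U W eW).hom (a i)
  have hμι : IsBaseChange Γ(S', T') (μ.compLeft ι) := IsBaseChange.finitePow ι hμ
  have huv : ∀ m, v (μ m) = μ.compLeft ι (mulTuple Γ(F, U) a m) := fun m => funext fun i =>
    (hμB (a i) m).symm
  have hμιB : ∀ (b : Γ(X, U)) m, μ.compLeft ι (b • m) =
      algebraMap Γ(X, U) Γ(X', W) b • μ.compLeft ι m := fun b m => funext fun i => hμB b (m i)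
  have hq : PrimeSpectrum.comap (algebraMap Γ(X, U) Γ(X', W)) (hWa.primeIdealOf ⟨x', hx'⟩) =
      hU.primeIdealOf ⟨fst x', eW hx'⟩ := comap_primeIdealOf fst hU hWa eW hx'
  constructor
  · intro h m hm
    obtain ⟨c, hc, hcm⟩ := ((hq.symm ▸ h :).baseChange hμ hμB huv
      (q' := hWa.primeIdealOf ⟨x', hx'⟩) hμι).exists_smul_eq_zero
        ((mulTuple_eq_zero_iff _ m).2 hm)
    exact ⟨c, (mem_basicOpen_iff_notMem hWa hx' c).2 hc, hcm⟩
  · intro hA' hV
    rw [← hq]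
    refine FibInjAt.of_baseChange hμ hμB huv (q' := hWa.primeIdealOf ⟨x', hx'⟩) hμιB
      (fibInjAt_of_comap_eq_bot ?_ fun m hm => ?_)
    · rw [eq_bot_iff]
      intro b hb
      by_contra hb0
      obtain ⟨d, hd⟩ := hA'.mul_inv_cancel (a := b) (fun h => hb0 (h ▸ zero_mem _))
      exact ((hWa.primeIdealOf ⟨x', hx'⟩).isPrime.comap _).ne_top
        (Ideal.eq_top_of_isUnit_mem _ hb (IsUnit.of_mul_eq_one _ hd))
    · obtain ⟨c, hc, hcm⟩ := hV m ((mulTuple_eq_zero_iff _ m).1 hm)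
      exact ⟨c, (mem_basicOpen_iff_notMem hWa hx' c).1 hc, hcm⟩

end Groth.Agent.EGA43.InjFibre
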