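import Groth.Agent.EGA43.InjFibre.Scheme
import Groth.Agent.EGA43.InjCokerFlat

/-!
# EGA IV 11.3.7 on stalks
-/

set_option autoImplicit false
set_option backward.isDefEq.respectTransparency false

universe u

open CategoryTheory CategoryTheory.Limits AlgebraicGeometry Opposite TopologicalSpace
open Groth.Agent.Coherent Groth.Agent.EGA43.InjCokerFlat

namespace Groth.Agent.EGA43.InjFibre

section Algebra

variable {A B M : Type u} [CommRing A] [CommRing B] [Algebra A B] [AddCommGroup M] [Module B M]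
  [Module A M] [IsScalarTower A B M]

theorem mem_map_smul_top_iff (p : Ideal A) (m : M) :
    m ∈ p.map (algebraMap A B) • (⊤ : Submodule B M) ↔ m ∈ p • (⊤ : Submodule A M) := by
  rw [← Submodule.restrictScalars_mem A, Ideal.smul_restrictScalars, Submodule.restrictScalars_top]

theorem mem_map_smul_top_localized {L Fx : Type u} [CommRing L] [Algebra B L] [AddCommGroup Fx]
    [Module B Fx] [Module L Fx] [IsScalarTower B L Fx] (T : Submonoid B) [IsLocalization T L]
    (φ : M →ₗ[B] Fx) [IsLocalizedModule T φ] (I : Ideal B) (m : M) :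
    φ m ∈ I.map (algebraMap B L) • (⊤ : Submodule L Fx) ↔
      ∃ c ∈ T, c • m ∈ I • (⊤ : Submodule B M) := by
  have h : I.map (algebraMap B L) • (⊤ : Submodule L Fx) =
      (I • (⊤ : Submodule B M)).localized' L T φ := by
    rw [Submodule.localized'_smul, Submodule.localized'_top, Submodule.localized'_eq_span]
    rfl
  rw [h, Submodule.mem_localized']
  constructor
  · rintro ⟨n, hn, s, hs⟩
    rw [IsLocalizedModule.mk'_eq_iff, Submonoid.smul_def, ← map_smul] at hs
    obtain ⟨c, hc⟩ := IsLocalizedModule.exists_of_eq (S := T) (f := φ) hs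
    refine ⟨c.1 * s.1, T.mul_mem c.2 s.2, ?_⟩
    rw [mul_smul, show c.1 • s.1 • m = c.1 • n from hc.symm]
    exact Submodule.smul_mem _ _ hn
  · rintro ⟨c, hc, hcm⟩
    exact ⟨_, hcm, ⟨c, hc⟩, by rw [IsLocalizedModule.mk'_eq_iff, Submonoid.smul_def, map_smul]⟩

end Algebra

variable {X Y : Scheme.{u}} {F F' : X.Modules}

/-- Sections of the cokernel on an affine open. -/
theorem sections_cokernel [Coh.IsQCoh F] [Coh.IsQCoh F'] (u : F' ⟶ F) {W : X.Opens}
    (hW : IsAffineOpen W) : Function.Surjective (appLin (cokernel.π u) W) ∧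
      Function.Exact (appLin u W) (appLin (cokernel.π u) W) := by
  have hC : Coh.IsQCoh (cokernel u) := isQCoh_cokernel u
  let S : ShortComplex X.Modules :=
    ShortComplex.mk (kernel.ι (cokernel.π u)) (cokernel.π u) (kernel.condition _)
  have hS : S.ShortExact := { exact := S.exact_of_f_is_kernel (kernelIsKernel _) }
  have : Coh.IsQCoh S.X₁ := isQCoh_kernel (cokernel.π u)
  refine ⟨sections_surjective hS hW, LinearMap.exact_iff.2 (le_antisymm (fun a ha => ?_) ?_)⟩
  · obtain ⟨k, hk⟩ := kernel_sections_exact (cokernel.π u) a ha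
    let p := Abelian.factorThruImage u
    let T : ShortComplex X.Modules := ShortComplex.mk (kernel.ι p) p (kernel.condition p)
    have hT : T.ShortExact := { exact := T.exact_of_f_is_kernel (kernelIsKernel p) }
    have : Coh.IsQCoh T.X₁ := isQCoh_kernel p
    obtain ⟨b, hb⟩ := sections_surjective hT hW k
    refine ⟨b, ?_⟩
    rw [← hk, ← hb]
    exact (ConcreteCategory.congr_hom (congrArg (fun φ : F' ⟶ F => φ.app W)
      (Abelian.image.fac u)) b).symm
  · rintro _ ⟨b, rfl⟩
    exact ConcreteCategory.congr_hom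
      (congrArg (fun φ : F' ⟶ cokernel u => φ.app W) (cokernel.condition u)) b

/-- The stalk condition of EGA IV 11.3.7 on an affine open. -/
theorem fibStalk_iff (f : X ⟶ Y) [Coh.IsQCoh F] [Coh.IsQCoh F'] (u : F' ⟶ F) {V : Y.Opens}
    (hV : IsAffineOpen V) {U : X.Opens} (hU : IsAffineOpen U) (e : U ≤ f ⁻¹ᵁ V) {x : X}
    (hx : x ∈ U) :
    letI := (f.appLE V U e).hom.toAlgebra
    letI := QcohFlat.overModule f F V U e
    letI := QcohFlat.overModule f F' V U e
    haveI : IsScalarTower Γ(Y, V) Γ(X, U) Γ(F, U) := IsScalarTower.of_algebraMap_smul fun _ _ => rfl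
    haveI : IsScalarTower Γ(Y, V) Γ(X, U) Γ(F', U) := IsScalarTower.of_algebraMap_smul fun _ _ => rfl
    let J : Ideal ↑(X.presheaf.stalk x) :=
      Ideal.map (f.stalkMap x).hom (IsLocalRing.maximalIdeal ↑(Y.presheaf.stalk (f x)))
    (∀ m : ↑(F'.presheaf.stalk x),
        stalkMapOf u x m ∈ (J • (⊤ : Submodule ↑(X.presheaf.stalk x) ↑(F.presheaf.stalk x))) →
          m ∈ (J • (⊤ : Submodule ↑(X.presheaf.stalk x) ↑(F'.presheaf.stalk x)))) ↔
      FibInjAt Γ(Y, V) Γ(X, U) (appLin u U) (hU.primeIdealOf ⟨x, hx⟩) := by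
  let _ := (f.appLE V U e).hom.toAlgebra
  let _ := QcohFlat.overModule f F V U e
  let _ := QcohFlat.overModule f F' V U e
  have : IsScalarTower Γ(Y, V) Γ(X, U) Γ(F, U) := IsScalarTower.of_algebraMap_smul fun _ _ => rfl
  have : IsScalarTower Γ(Y, V) Γ(X, U) Γ(F', U) := IsScalarTower.of_algebraMap_smul fun _ _ => rfl
  intro J
  let _ := (X.presheaf.germ U x hx).hom.toAlgebra
  let _ := Module.compHom (F.presheaf.stalk x) (X.presheaf.germ U x hx).hom
  let _ := Module.compHom (F'.presheaf.stalk x) (X.presheaf.germ U x hx).hom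
  have : IsScalarTower Γ(X, U) (X.presheaf.stalk x) (F.presheaf.stalk x) :=
    IsScalarTower.of_algebraMap_smul fun _ _ => rfl
  have : IsScalarTower Γ(X, U) (X.presheaf.stalk x) (F'.presheaf.stalk x) :=
    IsScalarTower.of_algebraMap_smul fun _ _ => rfl
  let φ : Γ(F, U) →ₗ[Γ(X, U)] F.presheaf.stalk x :=
    { toFun := fun m => F.presheaf.germ U x hx m
      map_add' := fun a b => map_add _ a b
      map_smul' := fun r m => QCohLoc.germ_smul' F hx r m }
  let φ' : Γ(F', U) →ₗ[Γ(X, U)] F'.presheaf.stalk x :=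
    { toFun := fun m => F'.presheaf.germ U x hx m
      map_add' := fun a b => map_add _ a b
      map_smul' := fun r m => QCohLoc.germ_smul' F' hx r m }
  have := QcohFP.isLocalizedModule_germ F hU hx φ fun _ => rfl
  have := QcohFP.isLocalizedModule_germ F' hU hx φ' fun _ => rfl
  have := hU.isLocalization_stalk ⟨x, hx⟩
  let q := hU.primeIdealOf ⟨x, hx⟩
  let p := q.asIdeal.comap (algebraMap Γ(Y, V) Γ(X, U))
  have hJ : J = (p.map (algebraMap Γ(Y, V) Γ(X, U))).map
      (algebraMap Γ(X, U) (X.presheaf.stalk x)) := Cons.map_maximalIdeal_eq f hV hU e hx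
  have hu : ∀ m, stalkMapOf u x (φ' m) = φ (appLin u U m) := fun m => stalkMapOf_germ u hx m
  have key : ∀ m, φ m ∈ J • (⊤ : Submodule (X.presheaf.stalk x) (F.presheaf.stalk x)) ↔
      ∃ c ∉ q.asIdeal, c • m ∈ p • (⊤ : Submodule Γ(Y, V) Γ(F, U)) := fun m => by
    rw [hJ, mem_map_smul_top_localized q.asIdeal.primeCompl φ]
    simp only [mem_map_smul_top_iff]
    rfl
  have key' : ∀ m, φ' m ∈ J • (⊤ : Submodule (X.presheaf.stalk x) (F'.presheaf.stalk x)) ↔
      ∃ c ∉ q.asIdeal, c • m ∈ p • (⊤ : Submodule Γ(Y, V) Γ(F', U)) := fun m => by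
    rw [hJ, mem_map_smul_top_localized q.asIdeal.primeCompl φ']
    simp only [mem_map_smul_top_iff]
    rfl
  constructor
  · intro h m hm
    exact (key' m).1 (h _ (by rw [hu]; exact (key _).2 hm))
  · intro h z hz
    obtain ⟨c, m, hc, e'⟩ := QCohLoc.exists_smul_stalk_eq_germ F' hU hx z
    have hunit : IsUnit (X.presheaf.germ U x hx c) := (X.mem_basicOpen c x hx).1 hc
    rw [← Submodule.smul_mem_iff_of_isUnit _ hunit] at hz ⊢
    rw [← stalkMapOf_smul] at hz
    rw [e'] at hz ⊢
    exact (key' m).2 (h m ((key _).1 (hu m ▸ hz)))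

/-- **EGA IV 11.3.7** at a point. -/
theorem inj_and_coker_flat_iff (f : X ⟶ Y) [LocallyOfFinitePresentation f] [Coh.IsQCoh F]
    [Coh.IsQCoh F'] (hF : CohB1.IsFP F) (hF' : CohB1.IsFP F') (u : F' ⟶ F) (x : X)
    (hflat : FlatMod.IsFlatOverAt f F x) :
    let J : Ideal ↑(X.presheaf.stalk x) :=
      Ideal.map (f.stalkMap x).hom (IsLocalRing.maximalIdeal ↑(Y.presheaf.stalk (f x)))
    (Function.Injective (stalkMapOf u x) ∧ FlatMod.IsFlatOverAt f (cokernel u) x) ↔
      ∀ m : ↑(F'.presheaf.stalk x),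
        stalkMapOf u x m ∈ (J • (⊤ : Submodule ↑(X.presheaf.stalk x) ↑(F.presheaf.stalk x))) →
          m ∈ (J • (⊤ : Submodule ↑(X.presheaf.stalk x) ↑(F'.presheaf.stalk x))) := by
  intro J
  obtain ⟨V, hV, hfx, -⟩ := exists_isAffineOpen_mem_and_subset (x := f x) (U := ⊤) trivial
  obtain ⟨U, hU, hxU, e⟩ := exists_isAffineOpen_mem_and_subset (U := f ⁻¹ᵁ V) hfx
  have hC : Coh.IsQCoh (cokernel u) := isQCoh_cokernel u
  let _ := (f.appLE V U e).hom.toAlgebra
  let _ := QcohFlat.overModule f F V U e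
  let _ := QcohFlat.overModule f F' V U e
  let _ := QcohFlat.overModule f (cokernel u) V U e
  have : IsScalarTower Γ(Y, V) Γ(X, U) Γ(F, U) := IsScalarTower.of_algebraMap_smul fun _ _ => rfl
  have : IsScalarTower Γ(Y, V) Γ(X, U) Γ(F', U) := IsScalarTower.of_algebraMap_smul fun _ _ => rfl
  have : IsScalarTower Γ(Y, V) Γ(X, U) Γ(cokernel u, U) :=
    IsScalarTower.of_algebraMap_smul fun _ _ => rfl
  have : Algebra.FinitePresentation Γ(Y, V) Γ(X, U) := f.finitePresentation_appLE hV hU e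
  have := QcohFP.finitePresentation_sections F hF hU
  have := QcohFP.finitePresentation_sections F' hF' hU
  obtain ⟨hsurj, hex⟩ := sections_cokernel u hU
  have hA := (QcohFlat.isFlatOverAt_iff f F hV hU e hxU).1 hflat
  refine Iff.trans ?_ (fibStalk_iff f u hV hU e hxU).symm
  constructor
  · rintro ⟨hinj, hcok⟩
    refine (uInjAt_of_flat_coker ?_ _ hsurj hex
      ((QcohFlat.isFlatOverAt_iff f _ hV hU e hxU).1 hcok)).fibInjAt
    rw [injective_iff_map_eq_zero]
    intro z hz
    induction z using LocalizedModule.induction_on with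
    | h m s =>
      rw [LocalizedModule.map_mk] at hz
      obtain ⟨t, ht⟩ := LocalizedModule.mk_eq.1 (hz.trans (LocalizedModule.zero_mk 1).symm)
      simp only [one_smul, smul_zero] at ht
      obtain ⟨g, hg, hgm⟩ := exists_smul_eq_zero_of_injective u hU hxU hinj (t.1 • m)
        (by rw [Scheme.Modules.Hom.app_smul]; exact ht)
      rw [← LocalizedModule.zero_mk 1, LocalizedModule.mk_eq]
      refine ⟨⟨g, (mem_basicOpen_iff_notMem hU hxU g).1 hg⟩ * t, ?_⟩
      simp only [one_smul, smul_zero, mul_smul]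
      exact hgm
  · intro h
    have hu := uInjAt_of_fibInjAt hA h
    refine ⟨injective_stalkMapOf_of_smul_eq_zero u hU hxU fun m hm => ?_,
      (QcohFlat.isFlatOverAt_iff f _ hV hU e hxU).2 (hu.flat_coker hA _ hsurj hex)⟩
    obtain ⟨c, hc, hcm⟩ := hu.exists_smul_eq_zero (m := m) hm
    exact ⟨c, (mem_basicOpen_iff_notMem hU hxU c).2 hc, hcm⟩

end Groth.Agent.EGA43.InjFibre
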