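import Groth.Agent.EGA43.InjFibre.Scheme

/-!
# Natural base change maps on sections of pullbacks
-/

set_option autoImplicit false
set_option backward.isDefEq.respectTransparency false

universe u

open CategoryTheory CategoryTheory.Limits AlgebraicGeometry Opposite TopologicalSpace
open Groth.Agent.Coherent Groth.Agent.Flatn12

namespace Groth.Agent.EGA43.InjFibre

variable {X X' : Scheme.{u}} (f : X' ⟶ X) {U : X.Opens} (hU : IsAffineOpen U) {U' : X'.Opens}
  (hU' : IsAffineOpen U') (e : U' ≤ f ⁻¹ᵁ U)

/-- The pullback on an affine open as a tilde. -/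
noncomputable def pullSpecIso (M : X.Modules) [Coh.IsQCoh M] :
    ((Scheme.Modules.pullback f).obj M).restrict hU'.fromSpec ≅
      (ModuleCat.extendScalars (f.appLE U U' e).hom ⋙ tilde.functor _).obj
        (moduleSpecΓFunctor.obj (M.restrict hU.fromSpec)) :=
  haveI := isQCoh_restrict_fromSpec' M hU
  (Scheme.Modules.restrictFunctorIsoPullback hU'.fromSpec).app _ ≪≫
    (Scheme.Modules.pullbackComp hU'.fromSpec f).app M ≪≫
    (Scheme.Modules.pullbackCongr (hU.SpecMap_appLE_fromSpec f hU' e).symm).app M ≪≫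
    ((Scheme.Modules.pullbackComp (Spec.map (f.appLE U U' e)) hU.fromSpec).app M).symm ≪≫
    (Scheme.Modules.pullback (Spec.map (f.appLE U U' e))).mapIso
      ((Scheme.Modules.restrictFunctorIsoPullback hU.fromSpec).app M).symm ≪≫
    (Scheme.Modules.pullback (Spec.map (f.appLE U U' e))).mapIso
      (asIso (M.restrict hU.fromSpec).fromTildeΓ).symm ≪≫
    (tildePullbackIso (f.appLE U U' e)).app _

theorem pullSpecIso_natural {M N : X.Modules} [Coh.IsQCoh M] [Coh.IsQCoh N] (u : M ⟶ N) :
    (Scheme.Modules.restrictFunctor hU'.fromSpec).map ((Scheme.Modules.pullback f).map u) ≫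
        (pullSpecIso f hU hU' e N).hom =
      (pullSpecIso f hU hU' e M).hom ≫
        (ModuleCat.extendScalars (f.appLE U U' e).hom ⋙ tilde.functor _).map
          (moduleSpecΓFunctor.map ((Scheme.Modules.restrictFunctor hU.fromSpec).map u)) := by
  have := isQCoh_restrict_fromSpec' M hU
  have := isQCoh_restrict_fromSpec' N hU
  let φ := f.appLE U U' e
  let u₁ := (Scheme.Modules.restrictFunctor hU.fromSpec).map u
  have h1 := (Scheme.Modules.restrictFunctorIsoPullback hU'.fromSpec).hom.naturality
    ((Scheme.Modules.pullback f).map u)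
  have h2 := (Scheme.Modules.pullbackComp hU'.fromSpec f).hom.naturality u
  have h3 := (Scheme.Modules.pullbackCongr (hU.SpecMap_appLE_fromSpec f hU' e).symm).hom.naturality u
  have h4 := (Scheme.Modules.pullbackComp (Spec.map φ) hU.fromSpec).inv.naturality u
  have h5 := congrArg (Scheme.Modules.pullback (Spec.map φ)).map
    ((Scheme.Modules.restrictFunctorIsoPullback hU.fromSpec).inv.naturality u)
  have h6 : u₁ ≫ inv (N.restrict hU.fromSpec).fromTildeΓ =
      inv (M.restrict hU.fromSpec).fromTildeΓ ≫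
        (tilde.functor _).map (moduleSpecΓFunctor.map u₁) := by
    rw [IsIso.eq_inv_comp, ← Category.assoc, IsIso.comp_inv_eq]
    exact (Scheme.Modules.fromTildeΓNatTrans.naturality u₁).symm
  have h6' := congrArg (Scheme.Modules.pullback (Spec.map φ)).map h6
  have h7 := (tildePullbackIso φ).hom.naturality (moduleSpecΓFunctor.map u₁)
  simp only [Functor.map_comp, Functor.comp_map] at h1 h2 h3 h4 h5 h6' h7
  simp only [pullSpecIso, Iso.trans_hom, Iso.app_hom, Iso.symm_hom, Iso.app_inv, Functor.mapIso_inv,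
    Functor.mapIso_hom, asIso_inv, Category.assoc, Functor.comp_map]
  erw [reassoc_of% h1, reassoc_of% h2, reassoc_of% h3, reassoc_of% h4, reassoc_of% h5,
    reassoc_of% h6', h7]
  rfl

/-- The base change map on sections. -/
noncomputable def sectionsEquiv (M : X.Modules) [Coh.IsQCoh M] :
    ↑((ModuleCat.extendScalars (f.appLE U U' e).hom).obj
        (moduleSpecΓFunctor.obj (M.restrict hU.fromSpec))) ≃ₗ[Γ(X', U')]
      Γ((Scheme.Modules.pullback f).obj M, U') :=
  ((tilde.toTildeΓNatIso.app _) ≪≫
    (moduleSpecΓFunctor.mapIso (pullSpecIso f hU hU' e M)).symm).toLinearEquiv.trans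
      (secEquiv hU' _)

theorem secEquiv_natural {M N : X.Modules} (u : M ⟶ N)
    (s : moduleSpecΓFunctor.obj (M.restrict hU.fromSpec)) :
    secEquiv hU N (moduleSpecΓFunctor.map ((Scheme.Modules.restrictFunctor hU.fromSpec).map u) s) =
      u.app U (secEquiv hU M s) :=
  congr($((u.mapPresheaf.naturality
    (eqToHom (fromSpec_image_top hU).symm).op).symm) s)

theorem sectionsEquiv_natural {M N : X.Modules} [Coh.IsQCoh M] [Coh.IsQCoh N] (u : M ⟶ N)
    (z : (ModuleCat.extendScalars (f.appLE U U' e).hom).obj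
      (moduleSpecΓFunctor.obj (M.restrict hU.fromSpec))) :
    ((Scheme.Modules.pullback f).map u).app U' (sectionsEquiv f hU hU' e M z) =
      sectionsEquiv f hU hU' e N ((ModuleCat.extendScalars (f.appLE U U' e).hom).map
        (moduleSpecΓFunctor.map ((Scheme.Modules.restrictFunctor hU.fromSpec).map u)) z) := by
  let v := (ModuleCat.extendScalars (f.appLE U U' e).hom).map
    (moduleSpecΓFunctor.map ((Scheme.Modules.restrictFunctor hU.fromSpec).map u))
  have hnat : (tilde.toTildeΓNatIso.app _).hom ≫ moduleSpecΓFunctor.map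
        (pullSpecIso f hU hU' e M).inv ≫ moduleSpecΓFunctor.map
          ((Scheme.Modules.restrictFunctor hU'.fromSpec).map ((Scheme.Modules.pullback f).map u)) =
      v ≫ (tilde.toTildeΓNatIso.app _).hom ≫ moduleSpecΓFunctor.map
        (pullSpecIso f hU hU' e N).inv := by
    have h := pullSpecIso_natural f hU hU' e u
    rw [← Iso.eq_comp_inv, Category.assoc, ← Iso.inv_comp_eq] at h
    rw [← Functor.map_comp, h, Functor.map_comp]
    have hv := tilde.toTildeΓNatIso.hom.naturality v
    simp only [Functor.id_map, Functor.comp_map] at hv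
    simp only [Iso.app_hom, Functor.comp_map]
    exact ((reassoc_of% hv) _).symm
  refine (secEquiv_natural hU' ((Scheme.Modules.pullback f).map u) _).symm.trans ?_
  exact congrArg (secEquiv hU' _) congr($hnat z)

/-- The base change map from sections to sections of the pullback. -/
noncomputable def pullMap (M : X.Modules) [Coh.IsQCoh M] (m : Γ(M, U)) :
    Γ((Scheme.Modules.pullback f).obj M, U') :=
  letI := (f.appLE U U' e).hom.toAlgebra
  sectionsEquiv f hU hU' e M ((1 : Γ(X', U')) ⊗ₜ[Γ(X, U)] (secEquiv hU M).symm m)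

theorem pullMap_natural {M N : X.Modules} [Coh.IsQCoh M] [Coh.IsQCoh N] (u : M ⟶ N) (m : Γ(M, U)) :
    ((Scheme.Modules.pullback f).map u).app U' (pullMap f hU hU' e M m) =
      pullMap f hU hU' e N (u.app U m) := by
  refine (sectionsEquiv_natural f hU hU' e u _).trans (congrArg _ ?_)
  let _ := (f.appLE U U' e).hom.toAlgebra
  refine congrArg ((1 : Γ(X', U')) ⊗ₜ[Γ(X, U)] ·) ((secEquiv hU N).injective ?_)
  rw [secEquiv_natural, LinearEquiv.apply_symm_apply, LinearEquiv.apply_symm_apply]

set_option maxRecDepth 4000 in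
theorem pullMap_isBaseChange (M : X.Modules) [Coh.IsQCoh M] :
    letI := (f.appLE U U' e).hom.toAlgebra
    letI := Module.compHom Γ((Scheme.Modules.pullback f).obj M, U') (f.appLE U U' e).hom
    haveI : IsScalarTower Γ(X, U) Γ(X', U') Γ((Scheme.Modules.pullback f).obj M, U') :=
      IsScalarTower.of_algebraMap_smul fun _ _ => rfl
    ∃ μ : Γ(M, U) →ₗ[Γ(X, U)] Γ((Scheme.Modules.pullback f).obj M, U'),
      IsBaseChange Γ(X', U') μ ∧ ∀ m, μ m = pullMap f hU hU' e M m := by
  let _ := (f.appLE U U' e).hom.toAlgebra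
  let _ := Module.compHom Γ((Scheme.Modules.pullback f).obj M, U') (f.appLE U U' e).hom
  have : IsScalarTower Γ(X, U) Γ(X', U') Γ((Scheme.Modules.pullback f).obj M, U') :=
    IsScalarTower.of_algebraMap_smul fun _ _ => rfl
  let E : TensorProduct Γ(X, U) Γ(X', U') Γ(M, U) ≃ₗ[Γ(X', U')]
      Γ((Scheme.Modules.pullback f).obj M, U') :=
    (LinearEquiv.baseChange Γ(X, U) Γ(X', U') _ _ (secEquiv hU M).symm).trans
      (sectionsEquiv f hU hU' e M)
  exact ⟨(E.toLinearMap.restrictScalars Γ(X, U)) ∘ₗ
    (TensorProduct.mk Γ(X, U) Γ(X', U') Γ(M, U) 1), IsBaseChange.of_equiv E fun _ => rfl,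
    fun m => rfl⟩

end Groth.Agent.EGA43.InjFibre
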