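import Groth.Agent.EGA43.InjFibre.InjFlat
import Groth.Agent.EGA43.InjFibre.StalkBridge
import Groth.Agent.EGA43.InjFibre.PullSections

/-!
# `InjFlatAt` on schemes
-/

set_option autoImplicit false
set_option backward.isDefEq.respectTransparency false

universe u

open CategoryTheory CategoryTheory.Limits AlgebraicGeometry Opposite TopologicalSpace
open Groth.Agent.Coherent Groth.Agent.EGA43.InjCokerFlat

namespace Groth.Agent.EGA43.InjFibre

variable {X Y X' Y' : Scheme.{u}}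

/-- Injectivity of the stalk map and flatness of the cokernel on affine opens. -/
theorem stalk_injFlat_iff (f : X ⟶ Y) {F F' : X.Modules} [Coh.IsQCoh F] [Coh.IsQCoh F']
    (u : F' ⟶ F) {V : Y.Opens} (hV : IsAffineOpen V) {U : X.Opens} (hU : IsAffineOpen U)
    (e : U ≤ f ⁻¹ᵁ V) {x : X} (hx : x ∈ U) :
    letI := (f.appLE V U e).hom.toAlgebra
    letI := QcohFlat.overModule f F V U e
    haveI : IsScalarTower Γ(Y, V) Γ(X, U) Γ(F, U) := IsScalarTower.of_algebraMap_smul fun _ _ => rfl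
    (Function.Injective (stalkMapOf u x) ∧ FlatMod.IsFlatOverAt f (cokernel u) x) ↔
      InjFlatAt Γ(Y, V) Γ(X, U) (appLin u U) (hU.primeIdealOf ⟨x, hx⟩) := by
  have hC : Coh.IsQCoh (cokernel u) := isQCoh_cokernel u
  let _ := (f.appLE V U e).hom.toAlgebra
  let _ := QcohFlat.overModule f F V U e
  let _ := QcohFlat.overModule f (cokernel u) V U e
  have : IsScalarTower Γ(Y, V) Γ(X, U) Γ(F, U) := IsScalarTower.of_algebraMap_smul fun _ _ => rfl
  have : IsScalarTower Γ(Y, V) Γ(X, U) Γ(cokernel u, U) :=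
    IsScalarTower.of_algebraMap_smul fun _ _ => rfl
  obtain ⟨hsurj, hex⟩ := sections_cokernel u hU
  let e₀ := ((Submodule.quotEquivOfEq _ _ (LinearMap.exact_iff.1 hex).symm).trans
    (LinearMap.quotKerEquivOfSurjective (appLin (cokernel.π u) U) hsurj))
  let eC : (Γ(F, U) ⧸ LinearMap.range (appLin u U)) ≃ₗ[Γ(Y, V)] Γ(cokernel u, U) :=
    e₀.restrictScalars Γ(Y, V)
  have hflat : Module.Flat Γ(Y, V) (LocalizedModule (hU.primeIdealOf ⟨x, hx⟩).asIdeal.primeCompl
      (Γ(F, U) ⧸ LinearMap.range (appLin u U))) ↔ FlatMod.IsFlatOverAt f (cokernel u) x :=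
    (FlatDescent.flat_localized_iff (RingHom.id Γ(X, U)) (fun b => ⟨b, rfl⟩) eC
      (fun b m => e₀.map_smul b m) (hU.primeIdealOf ⟨x, hx⟩).asIdeal).trans
        (QcohFlat.isFlatOverAt_iff f _ hV hU e hx).symm
  constructor
  · rintro ⟨hinj, hcok⟩
    refine ⟨fun m hm => ?_, hflat.2 hcok⟩
    obtain ⟨g, hg, hgm⟩ := exists_smul_eq_zero_of_injective u hU hx hinj m hm
    exact ⟨g, (mem_basicOpen_iff_notMem hU hx g).1 hg, hgm⟩
  · rintro ⟨hinj, hcok⟩
    refine ⟨injective_stalkMapOf_of_smul_eq_zero u hU hx fun m hm => ?_, hflat.1 hcok⟩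
    obtain ⟨c, hc, hcm⟩ := hinj m hm
    exact ⟨c, (mem_basicOpen_iff_notMem hU hx c).2 hc, hcm⟩

theorem mem_span_range_of_isPushout {A B A' B' : Type u} [CommRing A] [CommRing B] [CommRing A']
    [CommRing B'] [Algebra A B] [Algebra A A'] [Algebra A' B'] [Algebra B B'] [Algebra A B']
    [IsScalarTower A A' B'] [IsScalarTower A B B'] [Algebra.IsPushout A A' B B'] (b' : B') :
    b' ∈ Submodule.span A' (Set.range (algebraMap B B')) := by
  obtain ⟨t, rfl⟩ := (Algebra.IsPushout.equiv A A' B B').surjective b'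
  induction t using TensorProduct.induction_on with
  | zero => rw [map_zero]; exact zero_mem _
  | add a b ha hb => rw [map_add]; exact add_mem ha hb
  | tmul a b =>
    rw [Algebra.IsPushout.equiv_tmul, ← Algebra.smul_def]
    exact Submodule.smul_mem _ _ (Submodule.subset_span ⟨b, rfl⟩)

set_option maxHeartbeats 800000 in
/-- The base change maps on sections over an affine piece of a pullback square. -/
theorem exists_baseChange_data {f : X ⟶ Y} {g : Y' ⟶ Y} {fst : X' ⟶ X} {snd : X' ⟶ Y'}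
    (H : IsPullback fst snd f g) {F G : X.Modules} [Coh.IsQCoh F] [Coh.IsQCoh G] (u : F ⟶ G)
    {V : Y.Opens} (hV : IsAffineOpen V) {U : X.Opens} (hU : IsAffineOpen U) {V' : Y'.Opens}
    (hV' : IsAffineOpen V') (eU : U ≤ f ⁻¹ᵁ V) (eV : V' ≤ g ⁻¹ᵁ V) {W : X'.Opens}
    (hW : W = fst ⁻¹ᵁ U ⊓ snd ⁻¹ᵁ V') (hWa : IsAffineOpen W) :
    letI := (f.appLE V U eU).hom.toAlgebra
    letI := (g.appLE V V' eV).hom.toAlgebra
    letI := (fst.appLE U W (hW.trans_le inf_le_left)).hom.toAlgebra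
    letI := (snd.appLE V' W (hW.trans_le inf_le_right)).hom.toAlgebra
    letI : Algebra Γ(Y, V) Γ(X', W) :=
      ((fst.appLE U W (hW.trans_le inf_le_left)).hom.comp (f.appLE V U eU).hom).toAlgebra
    letI := QcohFlat.overModule f F V U eU
    letI := QcohFlat.overModule f G V U eU
    letI : Module Γ(Y, V) Γ((Scheme.Modules.pullback fst).obj F, W) := Module.compHom _
      ((fst.appLE U W (hW.trans_le inf_le_left)).hom.comp (f.appLE V U eU).hom)
    letI : Module Γ(Y, V) Γ((Scheme.Modules.pullback fst).obj G, W) := Module.compHom _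
      ((fst.appLE U W (hW.trans_le inf_le_left)).hom.comp (f.appLE V U eU).hom)
    letI : Module Γ(Y', V') Γ((Scheme.Modules.pullback fst).obj F, W) :=
      QcohFlat.overModule snd _ V' W (hW.trans_le inf_le_right)
    letI : Module Γ(Y', V') Γ((Scheme.Modules.pullback fst).obj G, W) :=
      QcohFlat.overModule snd _ V' W (hW.trans_le inf_le_right)
    (IsScalarTower Γ(Y, V) Γ(Y', V') Γ(X', W) ∧
      (∀ b' : Γ(X', W), b' ∈ Submodule.span Γ(Y', V') (Set.range (algebraMap Γ(X, U) Γ(X', W))))) ∧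
    ∃ (_ : IsScalarTower Γ(Y, V) Γ(Y', V') Γ((Scheme.Modules.pullback fst).obj F, W))
      (_ : IsScalarTower Γ(Y, V) Γ(Y', V') Γ((Scheme.Modules.pullback fst).obj G, W))
      (μ' : Γ(F, U) →ₗ[Γ(Y, V)] Γ((Scheme.Modules.pullback fst).obj F, W))
      (μ : Γ(G, U) →ₗ[Γ(Y, V)] Γ((Scheme.Modules.pullback fst).obj G, W)),
      IsBaseChange Γ(Y', V') μ' ∧ IsBaseChange Γ(Y', V') μ ∧
      (∀ (b : Γ(X, U)) m, μ' (b • m) = algebraMap Γ(X, U) Γ(X', W) b • μ' m) ∧
      (∀ (b : Γ(X, U)) m, μ (b • m) = algebraMap Γ(X, U) Γ(X', W) b • μ m) ∧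
      ∀ m, appLin ((Scheme.Modules.pullback fst).map u) W (μ' m) = μ (appLin u U m) := by
  have eW : W ≤ fst ⁻¹ᵁ U := hW.trans_le inf_le_left
  have eW' : W ≤ snd ⁻¹ᵁ V' := hW.trans_le inf_le_right
  have hp := (isIso_pushoutSection_iff H eV eU hW).1
    (isIso_pushoutSection_of_isAffineOpen H eV eU hW hV hV' hU)
  let _ := (f.appLE V U eU).hom.toAlgebra
  let _ := (g.appLE V V' eV).hom.toAlgebra
  let _ := (fst.appLE U W eW).hom.toAlgebra
  let _ := (snd.appLE V' W eW').hom.toAlgebra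
  let _ : Algebra Γ(Y, V) Γ(X', W) :=
    ((fst.appLE U W eW).hom.comp (f.appLE V U eU).hom).toAlgebra
  have : IsScalarTower Γ(Y, V) Γ(X, U) Γ(X', W) := .of_algebraMap_eq fun _ => rfl
  have hT : IsScalarTower Γ(Y, V) Γ(Y', V') Γ(X', W) :=
    .of_algebraMap_eq fun r => ConcreteCategory.congr_hom hp.w r
  have : Algebra.IsPushout Γ(Y, V) Γ(X, U) Γ(Y', V') Γ(X', W) :=
    CommRingCat.isPushout_iff_isPushout.1 hp
  have : Algebra.IsPushout Γ(Y, V) Γ(Y', V') Γ(X, U) Γ(X', W) := Algebra.IsPushout.symm inferInstance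
  have key : ∀ (M : X.Modules) [Coh.IsQCoh M],
      letI := QcohFlat.overModule f M V U eU
      letI : Module Γ(Y, V) Γ((Scheme.Modules.pullback fst).obj M, W) :=
        Module.compHom _ ((fst.appLE U W eW).hom.comp (f.appLE V U eU).hom)
      letI : Module Γ(Y', V') Γ((Scheme.Modules.pullback fst).obj M, W) :=
        QcohFlat.overModule snd _ V' W eW'
      ∃ (_ : IsScalarTower Γ(Y, V) Γ(Y', V') Γ((Scheme.Modules.pullback fst).obj M, W))
        (μ : Γ(M, U) →ₗ[Γ(Y, V)] Γ((Scheme.Modules.pullback fst).obj M, W)),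
        IsBaseChange Γ(Y', V') μ ∧
        (∀ (b : Γ(X, U)) m, μ (b • m) = algebraMap Γ(X, U) Γ(X', W) b • μ m) ∧
        ∀ m, μ m = pullMap fst hU hWa eW M m := by
    intro M _
    let _ := QcohFlat.overModule f M V U eU
    have : IsScalarTower Γ(Y, V) Γ(X, U) Γ(M, U) := IsScalarTower.of_algebraMap_smul fun _ _ => rfl
    let P := (Scheme.Modules.pullback fst).obj M
    let _ : Module Γ(X, U) Γ(P, W) := Module.compHom Γ(P, W) (fst.appLE U W eW).hom
    let _ : Module Γ(Y, V) Γ(P, W) :=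
      Module.compHom Γ(P, W) ((fst.appLE U W eW).hom.comp (f.appLE V U eU).hom)
    let _ : Module Γ(Y', V') Γ(P, W) := QcohFlat.overModule snd P V' W eW'
    have : IsScalarTower Γ(X, U) Γ(X', W) Γ(P, W) := IsScalarTower.of_algebraMap_smul fun _ _ => rfl
    have : IsScalarTower Γ(Y', V') Γ(X', W) Γ(P, W) :=
      IsScalarTower.of_algebraMap_smul fun _ _ => rfl
    have : IsScalarTower Γ(Y, V) Γ(X, U) Γ(P, W) := IsScalarTower.of_algebraMap_smul fun _ _ => rfl
    have : IsScalarTower Γ(Y, V) Γ(X', W) Γ(P, W) := IsScalarTower.of_algebraMap_smul fun _ _ => rfl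
    have hP : IsScalarTower Γ(Y, V) Γ(Y', V') Γ(P, W) :=
      IsScalarTower.of_algebraMap_smul fun r m => by
        show (snd.appLE V' W eW').hom ((g.appLE V V' eV).hom r) • m = _
        exact congrArg (· • m) (ConcreteCategory.congr_hom hp.w r).symm
    obtain ⟨μ₀, hμ₀, hμ₀e⟩ := pullMap_isBaseChange fst hU hWa eW M
    refine ⟨hP, μ₀.restrictScalars Γ(Y, V), ?_,
      fun b m => (μ₀.map_smul b m).trans (algebraMap_smul _ b _).symm, hμ₀e⟩
    exact (Cons.isBaseChange_iff_of_isPushout (R := Γ(Y, V)) (T := Γ(Y', V')) (R' := Γ(X, U))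
      (T' := Γ(X', W)) μ₀).1 hμ₀
  obtain ⟨hPF, μ', hμ', hμ'B, hμ'e⟩ := key F
  obtain ⟨hPG, μ, hμ, hμB, hμe⟩ := key G
  refine ⟨⟨hT, mem_span_range_of_isPushout (A := Γ(Y, V))⟩, hPF, hPG, μ', μ, hμ', hμ, hμ'B, hμB,
    fun m => ?_⟩
  rw [hμ'e, hμe]
  exact pullMap_natural fst hU hWa eW u m

end Groth.Agent.EGA43.InjFibre
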