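import Groth.Agent.EGA43.InjFibre.InjLimit
import Groth.Agent.EGA43.InjFibre.InjFlatScheme
import Groth.Agent.EGA43.Limit.Properties
import Groth.Agent.H8Lim.ClosedIntoStage

/-!
# EGA IV 11.2.6 / 11.3.7: descent of injectivity with flat cokernel to a stage of a limit
-/

set_option autoImplicit false
set_option backward.isDefEq.respectTransparency false

universe u

open CategoryTheory CategoryTheory.Limits AlgebraicGeometry Opposite TopologicalSpace TensorProduct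
open Groth.Agent.Coherent Groth.Agent.EGA43.InjCokerFlat

namespace Groth.Agent.EGA43.InjFibre

theorem appLE_congr_apply {X Y : Scheme.{u}} {f g : X ⟶ Y} (h : f = g) {U : Y.Opens} {V : X.Opens}
    (e : V ≤ f ⁻¹ᵁ U) (e' : V ≤ g ⁻¹ᵁ U) (r : Γ(Y, U)) : f.appLE U V e r = g.appLE U V e' r := by
  subst h; rfl

theorem colimSys_preimage {J : Type u} [SmallCategory J] [IsCofiltered J] {E : J ⥤ Scheme.{u}}
    {cE : Cone E} (hc : IsLimit cE) [∀ {i j} (f : i ⟶ j), IsAffineHom (E.map f)]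
    {Y₀ : Scheme.{u}} (p : ∀ j, E.obj j ⟶ Y₀) [∀ j, IsAffineHom (p j)]
    (hp : ∀ {j k} (φ : j ⟶ k), E.map φ ≫ p k = p j) (p' : cE.pt ⟶ Y₀)
    (hp' : ∀ j, cE.π.app j ≫ p j = p') {U : Y₀.Opens} (hU : IsAffineOpen U) :
    letI : ∀ j, Algebra Γ(Y₀, U) Γ(E.obj j, p j ⁻¹ᵁ U) := fun j =>
      ((p j).appLE U (p j ⁻¹ᵁ U) le_rfl).hom.toAlgebra
    letI : Algebra Γ(Y₀, U) Γ(cE.pt, p' ⁻¹ᵁ U) := (p'.appLE U (p' ⁻¹ᵁ U) le_rfl).hom.toAlgebra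
    CAlgH.ColimSys (R := Γ(Y₀, U)) (G := fun j => Γ(E.obj j, p j ⁻¹ᵁ U)) (A := Γ(cE.pt, p' ⁻¹ᵁ U))
      fun j => ⟨((cE.π.app j).appLE (p j ⁻¹ᵁ U) (p' ⁻¹ᵁ U)
        (by rw [← Scheme.Hom.comp_preimage, hp'])).hom, fun r => by
          show ((p j).appLE U _ _ ≫ (cE.π.app j).appLE _ _ _) r = p'.appLE U _ _ r
          rw [Scheme.Hom.appLE_comp_appLE]
          exact appLE_congr_apply (hp' j) _ _ r⟩ := by
  let _ : ∀ j, Algebra Γ(Y₀, U) Γ(E.obj j, p j ⁻¹ᵁ U) := fun j =>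
    ((p j).appLE U (p j ⁻¹ᵁ U) le_rfl).hom.toAlgebra
  let _ : Algebra Γ(Y₀, U) Γ(cE.pt, p' ⁻¹ᵁ U) := (p'.appLE U (p' ⁻¹ᵁ U) le_rfl).hom.toAlgebra
  have hle : ∀ {i j : J} (φ : j ⟶ i), p j ⁻¹ᵁ U ≤ E.map φ ⁻¹ᵁ p i ⁻¹ᵁ U := fun φ => by
    rw [← Scheme.Hom.comp_preimage, hp]
  have hπ : ∀ j, p' ⁻¹ᵁ U ≤ cE.π.app j ⁻¹ᵁ p j ⁻¹ᵁ U := fun j => by
    rw [← Scheme.Hom.comp_preimage, hp']
  let g : ∀ j, Γ(E.obj j, p j ⁻¹ᵁ U) →ₐ[Γ(Y₀, U)] Γ(cE.pt, p' ⁻¹ᵁ U) := fun j =>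
    ⟨((cE.π.app j).appLE (p j ⁻¹ᵁ U) (p' ⁻¹ᵁ U) (hπ j)).hom, fun r => by
      show ((p j).appLE U _ _ ≫ (cE.π.app j).appLE _ _ _) r = p'.appLE U _ _ r
      rw [Scheme.Hom.appLE_comp_appLE]
      exact appLE_congr_apply (hp' j) _ _ r⟩
  have compat : ∀ {i j : J} (φ : j ⟶ i), ∃ h : CAlgH.CompatHom g i j,
      ∀ x, h.1 x = (E.map φ).appLE _ _ (hle φ) x := fun {i j} φ =>
    ⟨⟨⟨((E.map φ).appLE _ _ (hle φ)).hom, fun r => by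
      show ((p i).appLE U _ _ ≫ (E.map φ).appLE _ _ _) r = (p j).appLE U _ _ r
      rw [Scheme.Hom.appLE_comp_appLE]
      exact appLE_congr_apply (hp φ) _ _ r⟩, AlgHom.ext fun r => by
        show ((E.map φ).appLE _ _ _ ≫ (cE.π.app j).appLE _ _ _) r = (cE.π.app i).appLE _ _ _ r
        rw [Scheme.Hom.appLE_comp_appLE]
        exact appLE_congr_apply (cE.w φ) _ _ r⟩, fun _ => rfl⟩
  refine ⟨IsCofiltered.nonempty, fun i j => ?_, fun a => ?_, fun i x hx => ?_⟩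
  · obtain ⟨h₁, -⟩ := compat (IsCofiltered.minToLeft i j)
    obtain ⟨h₂, -⟩ := compat (IsCofiltered.minToRight i j)
    exact ⟨IsCofiltered.min i j, ⟨h₁⟩, ⟨h₂⟩⟩
  · obtain ⟨i⟩ := (IsCofiltered.nonempty : Nonempty J)
    have e : cE.π.app i ⁻¹ᵁ p i ⁻¹ᵁ U ≤ p' ⁻¹ᵁ U := by rw [← Scheme.Hom.comp_preimage, hp']
    obtain ⟨j, φ, x, hx⟩ := Groth.Agent.H8Lim.exists_appLE_π_eq hc (hU.preimage (p i))
      (cE.pt.presheaf.map (homOfLE e).op a)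
    refine ⟨j, (E.obj j).presheaf.map (homOfLE (hle φ)).op x, ?_⟩
    show ((E.obj j).presheaf.map _ ≫ (cE.π.app j).appLE _ _ _) x = a
    rw [Scheme.Hom.map_appLE]
    have := congrArg (cE.pt.presheaf.map (homOfLE ((hπ i)) : p' ⁻¹ᵁ U ⟶ cE.π.app i ⁻¹ᵁ p i ⁻¹ᵁ U).op) hx
    have h2 : ((cE.π.app j).appLE (E.map φ ⁻¹ᵁ p i ⁻¹ᵁ U) (cE.π.app i ⁻¹ᵁ p i ⁻¹ᵁ U)
          (Groth.Agent.H8Lim.le_preimage_π φ (p i ⁻¹ᵁ U)) ≫
        cE.pt.presheaf.map (homOfLE (hπ i)).op) x =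
        (cE.pt.presheaf.map (homOfLE e).op ≫ cE.pt.presheaf.map (homOfLE (hπ i)).op) a := this
    rw [← Functor.map_comp, ← op_comp,
      show homOfLE (hπ i) ≫ homOfLE e = 𝟙 _ from rfl, op_id, CategoryTheory.Functor.map_id] at h2
    exact (congr($(Scheme.Hom.appLE_map (cE.π.app j)
      (Groth.Agent.H8Lim.le_preimage_π φ (p i ⁻¹ᵁ U)) (homOfLE (hπ i)).op) x)).symm.trans h2
  · have hx' : (cE.π.app i).app (p i ⁻¹ᵁ U) x = (cE.π.app i).app (p i ⁻¹ᵁ U) 0 := by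
      have e : cE.π.app i ⁻¹ᵁ p i ⁻¹ᵁ U ≤ p' ⁻¹ᵁ U := by rw [← Scheme.Hom.comp_preimage, hp']
      have := congrArg (cE.pt.presheaf.map (homOfLE e).op) hx
      rw [map_zero] at this ⊢
      rw [← this]
      show _ = ((cE.π.app i).appLE _ _ _ ≫ cE.pt.presheaf.map _) x
      rw [Scheme.Hom.app_eq_appLE]
      exact (congr($(Scheme.Hom.appLE_map (cE.π.app i) (hπ i) (homOfLE e).op) x)).symm
    obtain ⟨k, φ, hk⟩ := exists_app_map_eq_map_of_isLimit E cE hc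
      (U := p i ⁻¹ᵁ U) (hU.preimage (p i)).isCompact x 0 hx'
    obtain ⟨h, he⟩ := compat φ
    refine ⟨k, h, ?_⟩
    rw [he]
    rw [map_zero] at hk
    show ((E.map φ).app _ ≫ (E.obj k).presheaf.map _) x = 0
    rw [CommRingCat.comp_apply, hk, map_zero]

section Main

variable {I : Type u} [SmallCategory I] [IsCofiltered I] {D : I ⥤ Scheme.{u}} {c : Cone D}
  {i₀ : I} {X₀ Y₀ : Scheme.{u}} {f₀ : X₀ ⟶ Y₀} {g₀ : Y₀ ⟶ D.obj i₀} {F₀ G₀ : X₀.Modules}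
  [Coh.IsQCoh F₀] [Coh.IsQCoh G₀] {h₀ : F₀ ⟶ G₀} {X Y : Scheme.{u}} {f : X ⟶ Y} {g : Y ⟶ c.pt}
  {qY : Y ⟶ Y₀} {qX : X ⟶ X₀}

set_option maxHeartbeats 1600000 in
/-- Going up from a stage. -/
theorem inj_flat_of_stage [∀ (i j : I) (φ : i ⟶ j), IsAffineHom (D.map φ)] (hc : IsLimit c)
    (hY : IsPullback qY g g₀ (c.π.app i₀)) (hX : IsPullback qX f f₀ qY) (x : X) {i : I}
    {φ : i ⟶ i₀} {Xi Yi : Scheme.{u}} {fi : Xi ⟶ Yi} {gi : Yi ⟶ D.obj i} {pY : Yi ⟶ Y₀}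
    {pX : Xi ⟶ X₀} {vY : Y ⟶ Yi} {vX : X ⟶ Xi} (hYi : IsPullback pY gi g₀ (D.map φ))
    (hXi : IsPullback pX fi f₀ pY) (hvY : vY ≫ pY = qY) (hvX : vX ≫ pX = qX)
    (hv : vX ≫ fi = f ≫ vY)
    (h : Function.Injective (stalkMapOf ((Scheme.Modules.pullback pX).map h₀) (vX x)) ∧
      FlatMod.IsFlatOverAt fi (cokernel ((Scheme.Modules.pullback pX).map h₀)) (vX x)) :
    Function.Injective (stalkMapOf ((Scheme.Modules.pullback qX).map h₀) x) ∧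
      FlatMod.IsFlatOverAt f (cokernel ((Scheme.Modules.pullback qX).map h₀)) x := by
  obtain ⟨V₀, hV₀, hxV₀, -⟩ := exists_isAffineOpen_mem_and_subset (x := f₀ (qX x)) (U := ⊤) trivial
  obtain ⟨U₀, hU₀, hxU₀, eU⟩ := exists_isAffineOpen_mem_and_subset (U := f₀ ⁻¹ᵁ V₀) hxV₀
  have := isAffineHom_π_app D c hc i₀
  have : IsAffineHom qY := MorphismProperty.of_isPullback hY.flip inferInstance
  have : IsAffineHom pY := MorphismProperty.of_isPullback hYi.flip inferInstance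
  have hVi : IsAffineOpen (pY ⁻¹ᵁ V₀) := hV₀.preimage pY
  have hV : IsAffineOpen (qY ⁻¹ᵁ V₀) := hV₀.preimage qY
  let Wi := pX ⁻¹ᵁ U₀ ⊓ fi ⁻¹ᵁ pY ⁻¹ᵁ V₀
  let W := qX ⁻¹ᵁ U₀ ⊓ f ⁻¹ᵁ qY ⁻¹ᵁ V₀
  have hWi : IsAffineOpen Wi := isAffineOpen_inf_preimage hXi hV₀ hU₀ hVi eU le_rfl
  have hW : IsAffineOpen W := isAffineOpen_inf_preimage hX hV₀ hU₀ hV eU le_rfl
  have hxW : x ∈ W := ⟨hxU₀, by
    show qY (f x) ∈ V₀
    rw [← Scheme.Hom.comp_apply, ← hX.w, Scheme.Hom.comp_apply]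
    exact hxV₀⟩
  have eWW : W ≤ vX ⁻¹ᵁ Wi := by
    intro y hy
    refine ⟨?_, ?_⟩
    · show (vX ≫ pX) y ∈ U₀
      rw [hvX]
      exact hy.1
    · show (vX ≫ fi ≫ pY) y ∈ V₀
      rw [reassoc_of% hv, hvY]
      exact hy.2
  have eVV : qY ⁻¹ᵁ V₀ ≤ vY ⁻¹ᵁ pY ⁻¹ᵁ V₀ := by rw [← Scheme.Hom.comp_preimage, hvY]
  have := isQCoh_pullback pX F₀
  have := isQCoh_pullback pX G₀
  have := isQCoh_pullback qX F₀
  have := isQCoh_pullback qX G₀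
  let A := Γ(Y₀, V₀)
  let B := Γ(X₀, U₀)
  let _ := (f₀.appLE V₀ U₀ eU).hom.toAlgebra
  let _ := QcohFlat.overModule f₀ F₀ V₀ U₀ eU
  let _ := QcohFlat.overModule f₀ G₀ V₀ U₀ eU
  have : IsScalarTower Γ(Y₀, V₀) Γ(X₀, U₀) Γ(F₀, U₀) := .of_algebraMap_smul fun _ _ => rfl
  have : IsScalarTower Γ(Y₀, V₀) Γ(X₀, U₀) Γ(G₀, U₀) := .of_algebraMap_smul fun _ _ => rfl
  let _ := (pY.appLE V₀ (pY ⁻¹ᵁ V₀) le_rfl).hom.toAlgebra
  let _ := (qY.appLE V₀ (qY ⁻¹ᵁ V₀) le_rfl).hom.toAlgebra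
  let _ := (pX.appLE U₀ Wi inf_le_left).hom.toAlgebra
  let _ := (fi.appLE (pY ⁻¹ᵁ V₀) Wi inf_le_right).hom.toAlgebra
  let _ := (qX.appLE U₀ W inf_le_left).hom.toAlgebra
  let _ := (f.appLE (qY ⁻¹ᵁ V₀) W inf_le_right).hom.toAlgebra
  let _ : Algebra Γ(Y₀, V₀) Γ(Xi, Wi) :=
    ((pX.appLE U₀ Wi inf_le_left).hom.comp (f₀.appLE V₀ U₀ eU).hom).toAlgebra
  let _ : Algebra Γ(Y₀, V₀) Γ(X, W) :=
    ((qX.appLE U₀ W inf_le_left).hom.comp (f₀.appLE V₀ U₀ eU).hom).toAlgebra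
  have : IsScalarTower Γ(Y₀, V₀) Γ(X₀, U₀) Γ(Xi, Wi) := .of_algebraMap_eq fun _ => rfl
  have : IsScalarTower Γ(Y₀, V₀) Γ(X₀, U₀) Γ(X, W) := .of_algebraMap_eq fun _ => rfl
  let Fi := (Scheme.Modules.pullback pX).obj F₀
  let Gi := (Scheme.Modules.pullback pX).obj G₀
  let F := (Scheme.Modules.pullback qX).obj F₀
  let G := (Scheme.Modules.pullback qX).obj G₀
  let _ : Module Γ(Y₀, V₀) Γ(Fi, Wi) := Module.compHom _
    ((pX.appLE U₀ Wi inf_le_left).hom.comp (f₀.appLE V₀ U₀ eU).hom)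
  let _ : Module Γ(Y₀, V₀) Γ(Gi, Wi) := Module.compHom _
    ((pX.appLE U₀ Wi inf_le_left).hom.comp (f₀.appLE V₀ U₀ eU).hom)
  let _ : Module Γ(Y₀, V₀) Γ(F, W) := Module.compHom _
    ((qX.appLE U₀ W inf_le_left).hom.comp (f₀.appLE V₀ U₀ eU).hom)
  let _ : Module Γ(Y₀, V₀) Γ(G, W) := Module.compHom _
    ((qX.appLE U₀ W inf_le_left).hom.comp (f₀.appLE V₀ U₀ eU).hom)
  let _ := QcohFlat.overModule fi Fi (pY ⁻¹ᵁ V₀) Wi inf_le_right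
  let _ := QcohFlat.overModule fi Gi (pY ⁻¹ᵁ V₀) Wi inf_le_right
  let _ := QcohFlat.overModule f F (qY ⁻¹ᵁ V₀) W inf_le_right
  let _ := QcohFlat.overModule f G (qY ⁻¹ᵁ V₀) W inf_le_right
  have : IsScalarTower Γ(Yi, pY ⁻¹ᵁ V₀) Γ(Xi, Wi) Γ(Fi, Wi) := .of_algebraMap_smul fun _ _ => rfl
  have : IsScalarTower Γ(Yi, pY ⁻¹ᵁ V₀) Γ(Xi, Wi) Γ(Gi, Wi) := .of_algebraMap_smul fun _ _ => rfl
  have : IsScalarTower Γ(Y, qY ⁻¹ᵁ V₀) Γ(X, W) Γ(F, W) := .of_algebraMap_smul fun _ _ => rfl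
  have : IsScalarTower Γ(Y, qY ⁻¹ᵁ V₀) Γ(X, W) Γ(G, W) := .of_algebraMap_smul fun _ _ => rfl
  obtain ⟨⟨_, hspani⟩, _, _, μ'i, μi, hμ'i, hμi, hμ'iB, hμiB, hcommi⟩ :=
    exists_baseChange_data hXi h₀ hV₀ hU₀ hVi eU le_rfl (W := Wi) rfl hWi
  obtain ⟨⟨_, hspan⟩, _, _, μ', μ, hμ', hμ, hμ'B, hμB, hcomm⟩ :=
    exists_baseChange_data hX h₀ hV₀ hU₀ hV eU le_rfl (W := W) rfl hW
  let θi : Γ(X₀, U₀) →ₐ[Γ(Y₀, V₀)] Γ(Xi, Wi) := IsScalarTower.toAlgHom _ _ _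
  let θ : Γ(X₀, U₀) →ₐ[Γ(Y₀, V₀)] Γ(X, W) := IsScalarTower.toAlgHom _ _ _
  have hθi : Function.Surjective (modelHom (A' := Γ(Yi, pY ⁻¹ᵁ V₀)) θi) := fun b' => by
    induction hspani b' using Submodule.span_induction with
    | mem z hz =>
      obtain ⟨b, rfl⟩ := hz
      exact ⟨(1 : Γ(Yi, pY ⁻¹ᵁ V₀)) ⊗ₜ[Γ(Y₀, V₀)] b, by rw [modelHom_tmul, map_one, one_mul]; rfl⟩
    | zero => exact ⟨0, map_zero _⟩
    | add a b _ _ ha hb =>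
      obtain ⟨s, hs⟩ := ha
      obtain ⟨t, ht⟩ := hb
      exact ⟨s + t, by rw [map_add, hs, ht]⟩
    | smul a z _ hz =>
      obtain ⟨s, hs⟩ := hz
      exact ⟨a • s, by rw [map_smul, hs]⟩
  have h1 := (stalk_injFlat_iff fi _ hVi hWi inf_le_right (eWW hxW)).1 h
  have h2 := InjFlatAt.to_model hμ'i hμi θi hμ'iB hμiB hcommi _ hθi h1
  let φA : Γ(Yi, pY ⁻¹ᵁ V₀) →ₐ[Γ(Y₀, V₀)] Γ(Y, qY ⁻¹ᵁ V₀) :=
    ⟨(vY.appLE _ _ eVV).hom, fun r => by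
      show (pY.appLE V₀ _ _ ≫ vY.appLE _ _ _) r = qY.appLE V₀ _ _ r
      rw [Scheme.Hom.appLE_comp_appLE]
      exact appLE_congr_apply hvY _ _ r⟩
  refine (stalk_injFlat_iff f _ hV hW inf_le_right hxW).2
    (InjFlatAt.of_model hμ' hμ θ hμ'B hμB hcomm _ φA ?_)
  convert h2 using 1
  rw [← comap_primeIdealOf vX hWi hW eWW hxW]
  refine PrimeSpectrum.ext ?_
  show (hW.primeIdealOf ⟨x, hxW⟩).asIdeal.comap _ =
    ((hW.primeIdealOf ⟨x, hxW⟩).asIdeal.comap _).comap _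
  rw [Ideal.comap_comap]
  congr 1
  refine Algebra.TensorProduct.ringHom_ext ?_ ?_
  · refine RingHom.ext fun d => ?_
    show f.appLE _ W _ (vY.appLE _ _ eVV d) * θ 1 =
      vX.appLE Wi W eWW (fi.appLE _ Wi _ d * θi 1)
    rw [map_one, map_one, mul_one, mul_one, ← CommRingCat.comp_apply, ← CommRingCat.comp_apply,
      Scheme.Hom.appLE_comp_appLE, Scheme.Hom.appLE_comp_appLE]
    exact appLE_congr_apply (by first | exact hv | exact hv.symm) _ _ _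
  · refine RingHom.ext fun b => ?_
    show f.appLE _ W _ (φA 1) * qX.appLE U₀ W _ b =
      vX.appLE Wi W eWW (fi.appLE _ Wi _ 1 * pX.appLE U₀ Wi _ b)
    rw [map_one, map_one, one_mul, map_one, one_mul, ← CommRingCat.comp_apply,
      Scheme.Hom.appLE_comp_appLE]
    exact appLE_congr_apply (by first | exact hvX | exact hvX.symm) _ _ _

set_option maxHeartbeats 1600000 in
/-- Going down to a stage. -/
theorem exists_stage_of_inj_flat [∀ (i j : I) (φ : i ⟶ j), IsAffineHom (D.map φ)] (hc : IsLimit c)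
    [LocallyOfFinitePresentation f₀] (hF₀ : CohB1.IsFP F₀) (hG₀ : CohB1.IsFP G₀)
    (hY : IsPullback qY g g₀ (c.π.app i₀)) (hX : IsPullback qX f f₀ qY) (x : X)
    (h : Function.Injective (stalkMapOf ((Scheme.Modules.pullback qX).map h₀) x) ∧
      FlatMod.IsFlatOverAt f (cokernel ((Scheme.Modules.pullback qX).map h₀)) x) :
    ∃ (i : I) (φ : i ⟶ i₀) (Xi Yi : Scheme.{u}) (fi : Xi ⟶ Yi) (gi : Yi ⟶ D.obj i)
      (pY : Yi ⟶ Y₀) (pX : Xi ⟶ X₀) (vY : Y ⟶ Yi) (vX : X ⟶ Xi),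
      IsPullback pY gi g₀ (D.map φ) ∧ IsPullback pX fi f₀ pY ∧
        vY ≫ pY = qY ∧ vY ≫ gi = g ≫ c.π.app i ∧ vX ≫ pX = qX ∧ vX ≫ fi = f ≫ vY ∧
        Function.Injective (stalkMapOf ((Scheme.Modules.pullback pX).map h₀) (vX x)) ∧
        FlatMod.IsFlatOverAt fi (cokernel ((Scheme.Modules.pullback pX).map h₀)) (vX x) := by
  have : ∀ {i j : I} (φ : i ⟶ j), IsAffineHom (D.map φ) := fun φ => inferInstance
  obtain ⟨V₀, hV₀, hxV₀, -⟩ := exists_isAffineOpen_mem_and_subset (x := f₀ (qX x)) (U := ⊤) trivial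
  obtain ⟨U₀, hU₀, hxU₀, eU⟩ := exists_isAffineOpen_mem_and_subset (U := f₀ ⁻¹ᵁ V₀) hxV₀
  have hcY := Limit.isLimitStageCone D c g₀ hY hc
  let E := Limit.stage D g₀
  let cE := Limit.stageCone D c g₀ hY
  let p : ∀ j : Over i₀, E.obj j ⟶ Y₀ := fun j => pullback.fst g₀ (D.map j.hom)
  have hp : ∀ {j k : Over i₀} (φ : j ⟶ k), E.map φ ≫ p k = p j := Limit.stage_map_fst D g₀
  have hp' : ∀ j, cE.π.app j ≫ p j = qY := fun j => pullback.lift_fst _ _ _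
  have hpaff : ∀ j, IsAffineHom (p j) := fun j => MorphismProperty.pullback_fst g₀ (D.map j.hom) inferInstance
  have := isAffineHom_π_app D c hc i₀
  have : IsAffineHom qY := MorphismProperty.of_isPullback hY.flip inferInstance
  have hs := colimSys_preimage (E := E) (cE := cE) hcY p hp qY hp' hV₀
  have hV : IsAffineOpen (qY ⁻¹ᵁ V₀) := hV₀.preimage qY
  let W := qX ⁻¹ᵁ U₀ ⊓ f ⁻¹ᵁ qY ⁻¹ᵁ V₀
  have hW : IsAffineOpen W := isAffineOpen_inf_preimage hX hV₀ hU₀ hV eU le_rfl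
  have hxW : x ∈ W := ⟨hxU₀, by
    show qY (f x) ∈ V₀
    rw [← Scheme.Hom.comp_apply, ← hX.w, Scheme.Hom.comp_apply]
    exact hxV₀⟩
  have := isQCoh_pullback qX F₀
  have := isQCoh_pullback qX G₀
  let _ := (f₀.appLE V₀ U₀ eU).hom.toAlgebra
  let _ := QcohFlat.overModule f₀ F₀ V₀ U₀ eU
  let _ := QcohFlat.overModule f₀ G₀ V₀ U₀ eU
  have : IsScalarTower Γ(Y₀, V₀) Γ(X₀, U₀) Γ(F₀, U₀) := .of_algebraMap_smul fun _ _ => rfl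
  have : IsScalarTower Γ(Y₀, V₀) Γ(X₀, U₀) Γ(G₀, U₀) := .of_algebraMap_smul fun _ _ => rfl
  have : Algebra.FinitePresentation Γ(Y₀, V₀) Γ(X₀, U₀) := f₀.finitePresentation_appLE hV₀ hU₀ eU
  have := QcohFP.finitePresentation_sections F₀ hF₀ hU₀
  have := QcohFP.finitePresentation_sections G₀ hG₀ hU₀
  let _ : ∀ j : Over i₀, Algebra Γ(Y₀, V₀) Γ(E.obj j, p j ⁻¹ᵁ V₀) := fun j =>
    ((p j).appLE V₀ (p j ⁻¹ᵁ V₀) le_rfl).hom.toAlgebra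
  let _ : Algebra Γ(Y₀, V₀) Γ(Y, qY ⁻¹ᵁ V₀) := (qY.appLE V₀ (qY ⁻¹ᵁ V₀) le_rfl).hom.toAlgebra
  let _ := (qX.appLE U₀ W inf_le_left).hom.toAlgebra
  let _ := (f.appLE (qY ⁻¹ᵁ V₀) W inf_le_right).hom.toAlgebra
  let _ : Algebra Γ(Y₀, V₀) Γ(X, W) :=
    ((qX.appLE U₀ W inf_le_left).hom.comp (f₀.appLE V₀ U₀ eU).hom).toAlgebra
  have : IsScalarTower Γ(Y₀, V₀) Γ(X₀, U₀) Γ(X, W) := .of_algebraMap_eq fun _ => rfl
  let F := (Scheme.Modules.pullback qX).obj F₀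
  let G := (Scheme.Modules.pullback qX).obj G₀
  let _ : Module Γ(Y₀, V₀) Γ(F, W) := Module.compHom _
    ((qX.appLE U₀ W inf_le_left).hom.comp (f₀.appLE V₀ U₀ eU).hom)
  let _ : Module Γ(Y₀, V₀) Γ(G, W) := Module.compHom _
    ((qX.appLE U₀ W inf_le_left).hom.comp (f₀.appLE V₀ U₀ eU).hom)
  let _ := QcohFlat.overModule f F (qY ⁻¹ᵁ V₀) W inf_le_right
  let _ := QcohFlat.overModule f G (qY ⁻¹ᵁ V₀) W inf_le_right
  have : IsScalarTower Γ(Y, qY ⁻¹ᵁ V₀) Γ(X, W) Γ(F, W) := .of_algebraMap_smul fun _ _ => rfl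
  have : IsScalarTower Γ(Y, qY ⁻¹ᵁ V₀) Γ(X, W) Γ(G, W) := .of_algebraMap_smul fun _ _ => rfl
  obtain ⟨⟨_, hspan⟩, _, _, μ', μ, hμ', hμ, hμ'B, hμB, hcomm⟩ :=
    exists_baseChange_data hX h₀ hV₀ hU₀ hV eU le_rfl (W := W) rfl hW
  obtain ⟨j, hj⟩ := exists_stage_injFlatAt_colimit (appLin h₀ U₀) (A' := Γ(Y, qY ⁻¹ᵁ V₀)) hs hspan hμ' hμ'B hμ hμB hcomm _
    ((stalk_injFlat_iff f _ hV hW inf_le_right hxW).1 h)
  let vY : Y ⟶ E.obj j := cE.π.app j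
  let pX := pullback.fst f₀ (p j)
  let fi := pullback.snd f₀ (p j)
  let vX : X ⟶ pullback f₀ (p j) :=
    pullback.lift qX (f ≫ vY) (by rw [Category.assoc, hp', hX.w])
  have hvX : vX ≫ pX = qX := pullback.lift_fst _ _ _
  have hv : vX ≫ fi = f ≫ vY := pullback.lift_snd _ _ _
  refine ⟨j.left, j.hom, pullback f₀ (p j), E.obj j, fi, pullback.snd g₀ (D.map j.hom), p j, pX, vY,
    vX, IsPullback.of_hasPullback g₀ (D.map j.hom), IsPullback.of_hasPullback f₀ (p j), hp' j,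
    pullback.lift_snd _ _ _, hvX, hv, ?_⟩
  let Wi := pX ⁻¹ᵁ U₀ ⊓ fi ⁻¹ᵁ p j ⁻¹ᵁ V₀
  have hXi : IsPullback pX fi f₀ (p j) := IsPullback.of_hasPullback f₀ (p j)
  have hVi : IsAffineOpen (p j ⁻¹ᵁ V₀) := hV₀.preimage (p j)
  have hWi : IsAffineOpen Wi := isAffineOpen_inf_preimage hXi hV₀ hU₀ hVi eU le_rfl
  have eWW : W ≤ vX ⁻¹ᵁ Wi := by
    intro y hy
    refine ⟨?_, ?_⟩
    · show (vX ≫ pX) y ∈ U₀
      rw [hvX]
      exact hy.1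
    · show (vX ≫ fi ≫ p j) y ∈ V₀
      rw [reassoc_of% hv, hp']
      exact hy.2
  have := isQCoh_pullback pX F₀
  have := isQCoh_pullback pX G₀
  let _ := (pX.appLE U₀ Wi inf_le_left).hom.toAlgebra
  let _ := (fi.appLE (p j ⁻¹ᵁ V₀) Wi inf_le_right).hom.toAlgebra
  let _ : Algebra Γ(Y₀, V₀) Γ(pullback f₀ (p j), Wi) :=
    ((pX.appLE U₀ Wi inf_le_left).hom.comp (f₀.appLE V₀ U₀ eU).hom).toAlgebra
  have : IsScalarTower Γ(Y₀, V₀) Γ(X₀, U₀) Γ(pullback f₀ (p j), Wi) :=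
    .of_algebraMap_eq fun _ => rfl
  let Fi := (Scheme.Modules.pullback pX).obj F₀
  let Gi := (Scheme.Modules.pullback pX).obj G₀
  let _ : Module Γ(Y₀, V₀) Γ(Fi, Wi) := Module.compHom _
    ((pX.appLE U₀ Wi inf_le_left).hom.comp (f₀.appLE V₀ U₀ eU).hom)
  let _ : Module Γ(Y₀, V₀) Γ(Gi, Wi) := Module.compHom _
    ((pX.appLE U₀ Wi inf_le_left).hom.comp (f₀.appLE V₀ U₀ eU).hom)
  let _ := QcohFlat.overModule fi Fi (p j ⁻¹ᵁ V₀) Wi inf_le_right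
  let _ := QcohFlat.overModule fi Gi (p j ⁻¹ᵁ V₀) Wi inf_le_right
  have : IsScalarTower Γ(E.obj j, p j ⁻¹ᵁ V₀) Γ(pullback f₀ (p j), Wi) Γ(Fi, Wi) :=
    .of_algebraMap_smul fun _ _ => rfl
  have : IsScalarTower Γ(E.obj j, p j ⁻¹ᵁ V₀) Γ(pullback f₀ (p j), Wi) Γ(Gi, Wi) :=
    .of_algebraMap_smul fun _ _ => rfl
  obtain ⟨⟨_, -⟩, _, _, μ'i, μi, hμ'i, hμi, hμ'iB, hμiB, hcommi⟩ :=
    exists_baseChange_data hXi h₀ hV₀ hU₀ hVi eU le_rfl (W := Wi) rfl hWi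
  refine (stalk_injFlat_iff fi _ hVi hWi inf_le_right (eWW hxW)).2 ?_
  rw [← comap_primeIdealOf vX hWi hW eWW hxW]
  refine hj (vX.appLE Wi W eWW).hom (fun b => ?_) (fun a => ?_) hμ'i hμ'iB hμi hμiB hcommi
  · show (pX.appLE U₀ Wi _ ≫ vX.appLE Wi W eWW) b = qX.appLE U₀ W _ b
    rw [Scheme.Hom.appLE_comp_appLE]
    exact appLE_congr_apply hvX _ _ b
  · show (fi.appLE _ Wi _ ≫ vX.appLE Wi W eWW) a = (vY.appLE _ _ _ ≫ f.appLE _ W _) a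
    rw [Scheme.Hom.appLE_comp_appLE, Scheme.Hom.appLE_comp_appLE]
    exact appLE_congr_apply hv _ _ a

end Main

end Groth.Agent.EGA43.InjFibre
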