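import Groth.Agent.EGA43.InjFibre.FlatLimit
import Groth.Agent.EGA43.Limit.Immersions
import Groth.Agent.EGA43.QcohFlat
import Groth.Agent.FlatMorStrata.BaseChange
import Groth.Agent.Desc19b.ModStFibGrpd
import Mathlib.AlgebraicGeometry.AffineTransitionLimit

/-!
# EGA IV 11.2.6: global flatness descends to a stage
-/

universe u

set_option autoImplicit false
set_option backward.isDefEq.respectTransparency false

open CategoryTheory CategoryTheory.Limits AlgebraicGeometry TopologicalSpace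

namespace Groth.Agent.EGA43.InjFibre

theorem isFlatOverAt_comp_baseChange {X Y X₀ X' Y' : Scheme.{u}} {f : X ⟶ Y} {p : X ⟶ X₀} {f' : X' ⟶ Y'}
    {p' : X' ⟶ X₀} {v : X' ⟶ X} {w : Y' ⟶ Y} (H : IsPullback v f' f w) (hvp : v ≫ p = p')
    (F₀ : X₀.Modules) [Coh.IsQCoh F₀] (x' : X')
    (h : FlatMod.IsFlatOverAt f ((Scheme.Modules.pullback p).obj F₀) (v x')) :
    FlatMod.IsFlatOverAt f' ((Scheme.Modules.pullback p').obj F₀) x' := by
  have := isQCoh_pullback p F₀
  subst hvp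
  exact DvrCrit.isFlatOverAt_of_iso f' ((Scheme.Modules.pullbackComp v p).app F₀) x'
    (FlatMorStrata.isFlatOverAt_baseChange H _ x' h)

variable {I : Type u} [SmallCategory I] [IsCofiltered I] {D : I ⥤ Scheme.{u}} {c : Cone D} {i₀ : I}
  {X₀ Y₀ : Scheme.{u}} {f₀ : X₀ ⟶ Y₀} {g₀ : Y₀ ⟶ D.obj i₀} [LocallyOfFinitePresentation f₀]

/-- **EGA IV 11.2.6**, global form. -/
theorem isFlatOver_iff_exists_stage [∀ (i j : I) (φ : i ⟶ j), IsAffineHom (D.map φ)] (hc : IsLimit c)
    [CompactSpace (D.obj i₀)] [QuasiCompact (f₀ ≫ g₀)]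
    (F₀ : X₀.Modules) [Coh.IsQCoh F₀] (hF₀ : CohB1.IsFP F₀) {X Y : Scheme.{u}} (f : X ⟶ Y) (g : Y ⟶ c.pt)
    (qY : Y ⟶ Y₀) (qX : X ⟶ X₀) (hY : IsPullback qY g g₀ (c.π.app i₀)) (hX : IsPullback qX f f₀ qY) :
    FlatMod.IsFlatOver f ((Scheme.Modules.pullback qX).obj F₀) ↔
      ∃ (i : I) (φ : i ⟶ i₀) (Xi Yi : Scheme.{u}) (fi : Xi ⟶ Yi) (gi : Yi ⟶ D.obj i)
        (pY : Yi ⟶ Y₀) (pX : Xi ⟶ X₀),
        IsPullback pY gi g₀ (D.map φ) ∧ IsPullback pX fi f₀ pY ∧
          FlatMod.IsFlatOver fi ((Scheme.Modules.pullback pX).obj F₀) := by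
  constructor
  · intro h
    have : ∀ {i j : I} (φ : i ⟶ j), IsAffineHom (D.map φ) := fun φ => inferInstance
    let E := Limit.stage D (f₀ ≫ g₀)
    have hXc : IsPullback qX (f ≫ g) (f₀ ≫ g₀) (c.π.app i₀) := hX.paste_vert hY
    let cE := Limit.stageCone D c (f₀ ≫ g₀) hXc
    have hcE : IsLimit cE := Limit.isLimitStageCone D c (f₀ ≫ g₀) hXc hc
    let pX : ∀ j : Over i₀, E.obj j ⟶ X₀ := fun j => pullback.fst (f₀ ≫ g₀) (D.map j.hom)
    let sY := Limit.stage D g₀
    let pY : ∀ j : Over i₀, sY.obj j ⟶ Y₀ := fun j => pullback.fst g₀ (D.map j.hom)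
    let fE : ∀ j : Over i₀, E.obj j ⟶ sY.obj j := fun j =>
      pullback.lift (pX j ≫ f₀) (pullback.snd _ _) (by rw [Category.assoc]; exact pullback.condition)
    have hXE : ∀ j, IsPullback (pX j) (fE j) f₀ (pY j) := fun j => by
      refine IsPullback.of_bot ?_ (pullback.lift_fst _ _ _).symm (IsPullback.of_hasPullback g₀ (D.map j.hom))
      rw [pullback.lift_snd]
      exact IsPullback.of_hasPullback (f₀ ≫ g₀) (D.map j.hom)
    have hmapsq : ∀ {j k : Over i₀} (ψ : j ⟶ k), IsPullback (E.map ψ) (fE j) (fE k) (sY.map ψ) := by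
      intro j k ψ
      refine IsPullback.of_bot ?_ ?_ (Limit.stage_isPullback D g₀ ψ)
      · rw [pullback.lift_snd, pullback.lift_snd]
        exact Limit.stage_isPullback D (f₀ ≫ g₀) ψ
      · apply pullback.hom_ext <;> simp [fE, sY, E, pX, Limit.stage]
    let O : ∀ j, (E.obj j).Opens := fun j =>
      have : LocallyOfFinitePresentation (fE j) :=
        MorphismProperty.of_isPullback (P := @LocallyOfFinitePresentation.{u}) (hXE j) inferInstance
      have := isQCoh_pullback (pX j) F₀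
      ⟨_, QcohFlat.isOpen_setOf_isFlatOverAt (fE j) _ (Desc19b.ModStFib.isFP_pullback (pX j) F₀ hF₀)⟩
    have hmono : ∀ {j k : Over i₀} (ψ : j ⟶ k), E.map ψ ⁻¹ᵁ O k ≤ O j := fun {j k} ψ y hy =>
      isFlatOverAt_comp_baseChange (hmapsq ψ) (Limit.stage_map_fst D (f₀ ≫ g₀) ψ) F₀ y hy
    have hcover : ∀ x : X, ∃ j, cE.π.app j x ∈ O j := fun x => by
      obtain ⟨i, φ, Xi, Yi, fi, gi, qYi, qXi, vY, vX, h1, h2, h3, h4, h5, h6, h7⟩ :=
        (isFlatOverAt_iff_exists_stage hc F₀ hF₀ f g qY qX hY hX x).1 (h x)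
      let j : Over i₀ := Over.mk φ
      let w : sY.obj j ⟶ Yi := h1.lift (pY j) (pullback.snd _ _) pullback.condition
      let v : E.obj j ⟶ Xi := h2.lift (pX j) (fE j ≫ w) (by
        rw [Category.assoc, h1.lift_fst]; exact (hXE j).w)
      have hsq : IsPullback v (fE j) fi w := by
        refine IsPullback.of_right ?_ (h2.lift_snd _ _ _) h2
        rw [h2.lift_fst, h1.lift_fst]
        exact hXE j
      have hvx : cE.π.app j ≫ v = vX := by
        apply h2.hom_ext
        · rw [Category.assoc, h2.lift_fst, h5]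
          exact pullback.lift_fst _ _ _
        · rw [Category.assoc, h2.lift_snd, h6]
          have hw1 : w ≫ qYi = pY j := h1.lift_fst _ _ _
          have hw2 : w ≫ gi = pullback.snd _ _ := h1.lift_snd _ _ _
          have e1 : cE.π.app j ≫ pX j = qX := pullback.lift_fst _ _ _
          have e2 : cE.π.app j ≫ pullback.snd (f₀ ≫ g₀) (D.map j.hom) = (f ≫ g) ≫ c.π.app i := pullback.lift_snd _ _ _
          have e3 : fE j ≫ pY j = pX j ≫ f₀ := pullback.lift_fst _ _ _
          have e4 : fE j ≫ pullback.snd g₀ (D.map j.hom) = pullback.snd (f₀ ≫ g₀) (D.map j.hom) := pullback.lift_snd _ _ _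
          apply h1.hom_ext
          · simp only [Category.assoc]
            rw [h3, hw1, e3, reassoc_of% e1, hX.w]
          · simp only [Category.assoc]
            rw [h4, hw2, e4, e2, Category.assoc]
      refine ⟨j, isFlatOverAt_comp_baseChange hsq (h2.lift_fst _ _ _) F₀ _ ?_⟩
      rwa [← Scheme.Hom.comp_apply, hvx]
    have hcompact : ∀ j : Over i₀, CompactSpace (E.obj j) := fun j => inferInstance
    have : CompactSpace X := Scheme.compactSpace_of_isLimit E cE hcE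
    obtain ⟨t, ht⟩ := isCompact_univ.elim_finite_subcover (fun j => ((cE.π.app j ⁻¹ᵁ O j : X.Opens) : Set X))
      (fun j => Opens.isOpen _) fun x _ => Set.mem_iUnion.2 (hcover x)
    classical
    obtain ⟨k, hk⟩ := IsCofiltered.inf_objs_exists t
    have hk' : cE.π.app k ⁻¹ᵁ O k = ⊤ := top_le_iff.1 fun x _ => by
      obtain ⟨j, hj, hx⟩ := Set.mem_iUnion₂.1 (ht (Set.mem_univ x))
      refine hmono (hk hj).some ?_
      show E.map (hk hj).some (cE.π.app k x) ∈ O j
      rw [← Scheme.Hom.comp_apply, cE.w]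
      exact hx
    obtain ⟨l, ψ, hl⟩ := exists_map_eq_top E cE hcE (O k) hk'
    exact ⟨l.left, l.hom, _, _, fE l, pullback.snd _ _, pY l, pX l, IsPullback.of_hasPullback _ _, hXE l,
      fun y => hmono ψ (hl.ge trivial)⟩
  · rintro ⟨i, φ, Xi, Yi, fi, gi, pY, pX, h1, h2, h3⟩ x
    let vY : Y ⟶ Yi := h1.lift qY (g ≫ c.π.app i) (by rw [Category.assoc, c.w, hY.w])
    let vX : X ⟶ Xi := h2.lift qX (f ≫ vY) (by rw [Category.assoc, h1.lift_fst, hX.w])
    have hsq : IsPullback vX f fi vY := by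
      refine IsPullback.of_right ?_ (h2.lift_snd _ _ _) h2
      rw [h2.lift_fst, h1.lift_fst]
      exact hX
    exact isFlatOverAt_comp_baseChange hsq (h2.lift_fst _ _ _) F₀ x (h3 (vX x))

end Groth.Agent.EGA43.InjFibre
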