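import Groth.Agent.EGA43.InjFibre.Noetherian
import Groth.Agent.EGA43.FlatDescent.Global
import Mathlib.RingTheory.TensorProduct.MvPolynomial
import Mathlib.RingTheory.Polynomial.Basic

/-!
# Injective on the fibre implies universally injective (EGA IV 11.3.7)
-/

set_option autoImplicit false
set_option backward.isDefEq.respectTransparency false

universe u

open TensorProduct Function

namespace Groth.Agent.EGA43.InjFibre

attribute [local instance] FlatDescent.bcModule

set_option maxHeartbeats 1600000 in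
/-- From a Noetherian stage `D`. -/
theorem uInjAt_of_stage {A₁ A P₁ P M₁' M₁ M' M D : Type u} [CommRing A₁] [CommRing A]
    [CommRing P₁] [CommRing P] [Algebra A₁ A] [Algebra A₁ P₁] [Algebra A₁ P] [Algebra A P]
    [Algebra P₁ P] [IsScalarTower A₁ A P] [IsScalarTower A₁ P₁ P] [Algebra.IsPushout A₁ A P₁ P]
    [Algebra.FiniteType A₁ P₁]
    [AddCommGroup M₁'] [Module P₁ M₁'] [Module A₁ M₁'] [IsScalarTower A₁ P₁ M₁']
    [Module.Finite P₁ M₁']
    [AddCommGroup M₁] [Module P₁ M₁] [Module A₁ M₁] [IsScalarTower A₁ P₁ M₁] [Module.Finite P₁ M₁]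
    [AddCommGroup M'] [Module P M'] [Module A M'] [IsScalarTower A P M'] [Module A₁ M']
    [IsScalarTower A₁ A M']
    [AddCommGroup M] [Module P M] [Module A M] [IsScalarTower A P M] [Module A₁ M]
    [IsScalarTower A₁ A M]
    (μ' : M₁' →ₗ[A₁] M') (hμ' : IsBaseChange A μ')
    (hμ'P : ∀ (c : P₁) m, μ' (c • m) = algebraMap P₁ P c • μ' m)
    (μ : M₁ →ₗ[A₁] M) (hμ : IsBaseChange A μ)
    (hμP : ∀ (c : P₁) m, μ (c • m) = algebraMap P₁ P c • μ m)
    (u₁ : M₁' →ₗ[P₁] M₁) (u : M' →ₗ[P] M) (huv : ∀ m, u (μ' m) = μ (u₁ m)) (q : PrimeSpectrum P)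
    (h : FibInjAt A P u q)
    [CommRing D] [Algebra A₁ D] [IsNoetherianRing D] (j : D →ₐ[A₁] A) (ψ : A ⊗[A₁] P₁ →+* P)
    (hψ : ∀ a c, ψ (a ⊗ₜ[A₁] c) = algebraMap A P a * algebraMap P₁ P c)
    (hflat₂ : FlatDescent.FlatAt A₁ P₁ M₁ D
      ((q.asIdeal.comap ψ).comap (Algebra.TensorProduct.map j (AlgHom.id A₁ P₁)))) :
    UInjAt A P u q := by
  let _ : Algebra D A := j.toRingHom.toAlgebra
  have : IsScalarTower A₁ D A := .of_algebraMap_eq fun a => (j.commutes a).symm
  let σ := Algebra.TensorProduct.map j (AlgHom.id A₁ P₁)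
  let θ : D ⊗[A₁] P₁ →+* P := ψ.comp σ.toRingHom
  have hθ : ∀ (d : D) c, θ (d ⊗ₜ[A₁] c) = algebraMap A P (j d) * algebraMap P₁ P c :=
    fun d c => hψ (j d) c
  let q₂ : PrimeSpectrum (D ⊗[A₁] P₁) := PrimeSpectrum.comap θ q
  let _ : Algebra (D ⊗[A₁] P₁) P := θ.toAlgebra
  let _ : Algebra D P := ((algebraMap A P).comp j.toRingHom).toAlgebra
  have : IsScalarTower D A P := .of_algebraMap_eq' rfl
  have : IsScalarTower D (D ⊗[A₁] P₁) P := IsScalarTower.of_algebraMap_eq fun d => by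
    show algebraMap A P (j d) = θ (d ⊗ₜ[A₁] (1 : P₁))
    rw [hθ, map_one, mul_one]
  let _ : Algebra P₁ (D ⊗[A₁] P₁) := Algebra.TensorProduct.rightAlgebra
  have : IsScalarTower P₁ (D ⊗[A₁] P₁) P := IsScalarTower.of_algebraMap_eq fun c => by
    show algebraMap P₁ P c = θ ((1 : D) ⊗ₜ[A₁] c)
    rw [hθ, map_one, map_one, one_mul]
  have : IsScalarTower A₁ (D ⊗[A₁] P₁) P := IsScalarTower.of_algebraMap_eq fun a => by
    rw [Algebra.TensorProduct.algebraMap_apply]
    show algebraMap A₁ P a = θ (algebraMap A₁ D a ⊗ₜ[A₁] (1 : P₁))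
    rw [hθ, map_one, mul_one, j.commutes, ← IsScalarTower.algebraMap_apply]
  have hpush : Algebra.IsPushout D A (D ⊗[A₁] P₁) P :=
    (Algebra.IsPushout.comp_iff (R := A₁) (S := D) (R' := P₁) (S' := D ⊗[A₁] P₁) (T := A)
      (T' := P)).1 inferInstance
  let _ : Module D M' := Module.compHom M' j.toRingHom
  let _ : Module D M := Module.compHom M j.toRingHom
  have : IsScalarTower D A M' := .of_algebraMap_smul fun _ _ => rfl
  have : IsScalarTower D A M := .of_algebraMap_smul fun _ _ => rfl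
  have : IsScalarTower A₁ D M' := .of_algebraMap_smul fun a m => by
    show j (algebraMap A₁ D a) • m = a • m
    rw [j.commutes, algebraMap_smul]
  have : IsScalarTower A₁ D M := .of_algebraMap_smul fun a m => by
    show j (algebraMap A₁ D a) • m = a • m
    rw [j.commutes, algebraMap_smul]
  let ν' : D ⊗[A₁] M₁' →ₗ[D] M' := μ'.liftBaseChange D
  let ν : D ⊗[A₁] M₁ →ₗ[D] M := μ.liftBaseChange D
  have hν' : IsBaseChange A ν' := by
    refine IsBaseChange.of_comp (TensorProduct.isBaseChange A₁ M₁' D) ?_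
    convert hμ' using 1
    ext m
    simp [ν']
  have hν : IsBaseChange A ν := by
    refine IsBaseChange.of_comp (TensorProduct.isBaseChange A₁ M₁ D) ?_
    convert hμ using 1
    ext m
    simp [ν]
  have hνP' : ∀ (c : D ⊗[A₁] P₁) m, ν' (c • m) = θ c • ν' m := fun c m => by
    refine FlatDescent.map_smul_of_tmul θ ν'.toAddMonoidHom (fun a p d n => ?_) c m
    simp only [LinearMap.toAddMonoidHom_coe]
    rw [FlatDescent.bc_smul_tmul, LinearMap.liftBaseChange_tmul, LinearMap.liftBaseChange_tmul, hμ'P,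
      hθ]
    show j (a * d) • algebraMap P₁ P p • μ' n = _ • j d • μ' n
    rw [map_mul, ← algebraMap_smul P (j a * j d), ← algebraMap_smul P (j d), smul_smul, smul_smul,
      map_mul]
    congr 1
    ring
  have hνP : ∀ (c : D ⊗[A₁] P₁) m, ν (c • m) = θ c • ν m := fun c m => by
    refine FlatDescent.map_smul_of_tmul θ ν.toAddMonoidHom (fun a p d n => ?_) c m
    simp only [LinearMap.toAddMonoidHom_coe]
    rw [FlatDescent.bc_smul_tmul, LinearMap.liftBaseChange_tmul, LinearMap.liftBaseChange_tmul, hμP,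
      hθ]
    show j (a * d) • algebraMap P₁ P p • μ n = _ • j d • μ n
    rw [map_mul, ← algebraMap_smul P (j a * j d), ← algebraMap_smul P (j d), smul_smul, smul_smul,
      map_mul]
    congr 1
    ring
  let uD : D ⊗[A₁] M₁' →ₗ[D] D ⊗[A₁] M₁ := (u₁.restrictScalars A₁).baseChange D
  let u₂ : D ⊗[A₁] M₁' →ₗ[D ⊗[A₁] P₁] D ⊗[A₁] M₁ :=
    { toFun := uD
      map_add' := map_add uD
      map_smul' := fun c m => by
        refine FlatDescent.map_smul_of_tmul (RingHom.id _) uD.toAddMonoidHom (fun a p d n => ?_) c m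
        simp only [LinearMap.toAddMonoidHom_coe, RingHom.id_apply]
        rw [FlatDescent.bc_smul_tmul, LinearMap.baseChange_tmul, LinearMap.baseChange_tmul,
          FlatDescent.bc_smul_tmul]
        congr 1
        exact map_smul u₁ p n }
  have huv₂ : ∀ m, u (ν' m) = ν (u₂ m) := fun m => by
    induction m using TensorProduct.induction_on with
    | zero => simp
    | add x y hx hy => simp only [map_add, hx, hy]
    | tmul d n =>
      show u (d • μ' n) = ν (uD (d ⊗ₜ n))
      rw [LinearMap.baseChange_tmul, LinearMap.liftBaseChange_tmul]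
      show u (j d • μ' n) = j d • μ (u₁ n)
      rw [LinearMap.map_smul_of_tower, huv]
  have h₂ : FibInjAt D (D ⊗[A₁] P₁) u₂ q₂ :=
    FibInjAt.of_baseChange (B := D ⊗[A₁] P₁) hν' hνP' huv₂ hνP h
  have : IsNoetherianRing (D ⊗[A₁] P₁) := by
    have : Algebra.FiniteType D (D ⊗[A₁] P₁) := Algebra.FiniteType.baseChange (A := P₁) D
    exact Algebra.FiniteType.isNoetherianRing D _
  have : Module.Finite (D ⊗[A₁] P₁) (D ⊗[A₁] M₁') := FlatDescent.finite_bc A₁ P₁ M₁' D
  exact UInjAt.baseChange hν' hνP' huv₂ hν (uInjAt_of_fibInjAt_of_isNoetherianRing hflat₂ h₂)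

set_option maxHeartbeats 800000 in
/-- In the presence of a Noetherian model. -/
theorem uInjAt_of_fibInjAt_model {A₁ A P₁ P M₁' M₁ M' M : Type u} [CommRing A₁] [CommRing A]
    [CommRing P₁] [CommRing P] [Algebra A₁ A] [Algebra A₁ P₁] [Algebra A₁ P] [Algebra A P]
    [Algebra P₁ P] [IsScalarTower A₁ A P] [IsScalarTower A₁ P₁ P] [Algebra.IsPushout A₁ A P₁ P]
    [IsNoetherianRing A₁] [Algebra.FiniteType A₁ P₁]
    [AddCommGroup M₁'] [Module P₁ M₁'] [Module A₁ M₁'] [IsScalarTower A₁ P₁ M₁']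
    [Module.Finite P₁ M₁']
    [AddCommGroup M₁] [Module P₁ M₁] [Module A₁ M₁] [IsScalarTower A₁ P₁ M₁] [Module.Finite P₁ M₁]
    [AddCommGroup M'] [Module P M'] [Module A M'] [IsScalarTower A P M'] [Module A₁ M']
    [IsScalarTower A₁ A M']
    [AddCommGroup M] [Module P M] [Module A M] [IsScalarTower A P M] [Module A₁ M]
    [IsScalarTower A₁ A M]
    (μ' : M₁' →ₗ[A₁] M') (hμ' : IsBaseChange A μ')
    (hμ'P : ∀ (c : P₁) m, μ' (c • m) = algebraMap P₁ P c • μ' m)
    (μ : M₁ →ₗ[A₁] M) (hμ : IsBaseChange A μ)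
    (hμP : ∀ (c : P₁) m, μ (c • m) = algebraMap P₁ P c • μ m)
    (u₁ : M₁' →ₗ[P₁] M₁) (u : M' →ₗ[P] M) (huv : ∀ m, u (μ' m) = μ (u₁ m)) (q : PrimeSpectrum P)
    (hA : Module.Flat A (LocalizedModule q.asIdeal.primeCompl M)) (h : FibInjAt A P u q) :
    UInjAt A P u q := by
  let ψ : A ⊗[A₁] P₁ ≃ₐ[A] P := Algebra.IsPushout.equiv A₁ A P₁ P
  let e : A ⊗[A₁] M₁ ≃ₗ[A] M := hμ.equiv
  have he : ∀ (t : A ⊗[A₁] P₁) x, e (t • x) = ψ t • e x := fun t x => by
    refine FlatDescent.map_smul_of_tmul ψ.toRingEquiv.toRingHom e.toAddEquiv.toAddMonoidHom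
      (fun a p c m => ?_) t x
    show e _ = ψ (a ⊗ₜ p) • e _
    rw [FlatDescent.bc_smul_tmul, IsBaseChange.equiv_tmul, IsBaseChange.equiv_tmul,
      Algebra.IsPushout.equiv_tmul, hμP, ← algebraMap_smul P (a * c), ← algebraMap_smul P c,
      smul_smul, smul_smul, map_mul]
    congr 1
    ring
  have hat : FlatDescent.FlatAt A₁ P₁ M₁ A (q.asIdeal.comap ψ.toRingEquiv.toRingHom) :=
    (FlatDescent.flat_localized_iff ψ.toRingEquiv.toRingHom ψ.surjective e he q.asIdeal).2 hA
  obtain ⟨D, hDfg, hDflat⟩ := FlatDescent.exists_stage_flatAt _ hat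
  have := FlatDescent.isNoetherianRing_of_fg hDfg
  exact uInjAt_of_stage μ' hμ' hμ'P μ hμ hμP u₁ u huv q h D.val ψ.toRingEquiv.toRingHom
    (fun a c => Algebra.IsPushout.equiv_tmul A₁ A P₁ P a c) hDflat

set_option maxHeartbeats 800000 in
/-- A map of presented modules with a model. -/
theorem uInjAt_of_fibInjAt_presented {A₁ A Q₁ Q : Type u} [CommRing A₁] [CommRing A] [CommRing Q₁]
    [CommRing Q] [Algebra A₁ A] [Algebra A₁ Q₁] [Algebra A₁ Q] [Algebra A Q] [Algebra Q₁ Q]
    [IsScalarTower A₁ A Q] [IsScalarTower A₁ Q₁ Q] [Algebra.IsPushout A₁ A Q₁ Q]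
    [IsNoetherianRing A₁] [Algebra.FiniteType A₁ Q₁] {k k' : ℕ}
    (s' : Finset (Fin k' → Q)) (s : Finset (Fin k → Q)) (T : (Fin k' → Q) →ₗ[Q] (Fin k → Q))
    (w' : s' → Fin k' → Q₁) (w : s → Fin k → Q₁) (T₁ : (Fin k' → Q₁) →ₗ[Q₁] (Fin k → Q₁))
    (hw' : ∀ x j, algebraMap Q₁ Q (w' x j) = (x : Fin k' → Q) j)
    (hw : ∀ x j, algebraMap Q₁ Q (w x j) = (x : Fin k → Q) j)
    (hT : ∀ i j, algebraMap Q₁ Q (T₁ (Pi.single i 1) j) = T (Pi.single i 1) j)
    (hrel : ∀ x, T₁ (w' x) ∈ Submodule.span Q₁ (Set.range w))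
    (u : ((Fin k' → Q) ⧸ Submodule.span Q (s' : Set (Fin k' → Q))) →ₗ[Q]
      (Fin k → Q) ⧸ Submodule.span Q (s : Set (Fin k → Q)))
    (hu : ∀ v, u (Submodule.Quotient.mk v) = Submodule.Quotient.mk (T v)) (q : PrimeSpectrum Q)
    (hA : Module.Flat A (LocalizedModule q.asIdeal.primeCompl
      ((Fin k → Q) ⧸ Submodule.span Q (s : Set (Fin k → Q)))))
    (h : FibInjAt A Q u q) : UInjAt A Q u q := by
  let K' := Submodule.span Q (s' : Set (Fin k' → Q))
  let K := Submodule.span Q (s : Set (Fin k → Q))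
  let K₁' : Submodule Q₁ (Fin k' → Q₁) := Submodule.span _ (Set.range w')
  let K₁ : Submodule Q₁ (Fin k → Q₁) := Submodule.span _ (Set.range w)
  let f' : (Fin k' → Q₁) →ₗ[Q₁] (Fin k' → Q) := LinearMap.compLeft (Algebra.linearMap Q₁ Q) (Fin k')
  let f : (Fin k → Q₁) →ₗ[Q₁] (Fin k → Q) := LinearMap.compLeft (Algebra.linearMap Q₁ Q) (Fin k)
  have hf' : IsBaseChange Q f' := IsBaseChange.finitePow (Fin k') (IsBaseChange.linearMap _ _)
  have hf : IsBaseChange Q f := IsBaseChange.finitePow (Fin k) (IsBaseChange.linearMap _ _)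
  have hK' : K' = Submodule.span Q (f' '' K₁') := by
    refine le_antisymm (Submodule.span_le.2 fun x hx => Submodule.subset_span
      ⟨w' ⟨x, hx⟩, Submodule.subset_span ⟨_, rfl⟩, funext fun j => hw' ⟨x, hx⟩ j⟩) ?_
    rw [Submodule.span_le]
    rintro _ ⟨x, hx, rfl⟩
    induction hx using Submodule.span_induction with
    | mem x hx => obtain ⟨y, rfl⟩ := hx; rw [show f' (w' y) = y.1 from funext fun j => hw' y j]
                  exact Submodule.subset_span y.2
    | zero => rw [map_zero]; exact zero_mem _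
    | add x y _ _ hx hy => rw [map_add]; exact add_mem hx hy
    | smul c x _ hx => rw [map_smul, ← algebraMap_smul Q c (f' x)]; exact K'.smul_mem _ hx
  have hK : K = Submodule.span Q (f '' K₁) := by
    refine le_antisymm (Submodule.span_le.2 fun x hx => Submodule.subset_span
      ⟨w ⟨x, hx⟩, Submodule.subset_span ⟨_, rfl⟩, funext fun j => hw ⟨x, hx⟩ j⟩) ?_
    rw [Submodule.span_le]
    rintro _ ⟨x, hx, rfl⟩
    induction hx using Submodule.span_induction with
    | mem x hx => obtain ⟨y, rfl⟩ := hx; rw [show f (w y) = y.1 from funext fun j => hw y j]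
                  exact Submodule.subset_span y.2
    | zero => rw [map_zero]; exact zero_mem _
    | add x y _ _ hx hy => rw [map_add]; exact add_mem hx hy
    | smul c x _ hx => rw [map_smul, ← algebraMap_smul Q c (f x)]; exact K.smul_mem _ hx
  let μ' : ((Fin k' → Q₁) ⧸ K₁') →ₗ[Q₁] (Fin k' → Q) ⧸ K' :=
    K₁'.liftQ ((K'.mkQ.restrictScalars Q₁) ∘ₗ f') fun x hx =>
      (Submodule.Quotient.mk_eq_zero K').2 (hK'.ge (Submodule.subset_span ⟨x, hx, rfl⟩))
  let μ : ((Fin k → Q₁) ⧸ K₁) →ₗ[Q₁] (Fin k → Q) ⧸ K :=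
    K₁.liftQ ((K.mkQ.restrictScalars Q₁) ∘ₗ f) fun x hx =>
      (Submodule.Quotient.mk_eq_zero K).2 (hK.ge (Submodule.subset_span ⟨x, hx, rfl⟩))
  have hμ' : IsBaseChange A (μ'.restrictScalars A₁) :=
    (Cons.isBaseChange_iff_of_isPushout (R := A₁) (T := A) (R' := Q₁) (T' := Q) μ').1
      (Cons.isBaseChange_quotient hf' K₁' K' hK' μ' fun v => rfl)
  have hμ : IsBaseChange A (μ.restrictScalars A₁) :=
    (Cons.isBaseChange_iff_of_isPushout (R := A₁) (T := A) (R' := Q₁) (T' := Q) μ).1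
      (Cons.isBaseChange_quotient hf K₁ K hK μ fun v => rfl)
  have hle : K₁' ≤ LinearMap.ker (K₁.mkQ ∘ₗ T₁) := Submodule.span_le.2 (by
    rintro _ ⟨x, rfl⟩
    exact (Submodule.Quotient.mk_eq_zero K₁).2 (hrel x))
  let u₁ : ((Fin k' → Q₁) ⧸ K₁') →ₗ[Q₁] (Fin k → Q₁) ⧸ K₁ := K₁'.liftQ (K₁.mkQ ∘ₗ T₁) hle
  have hTf : ∀ v, T (f' v) = f (T₁ v) := by
    have : (T.restrictScalars Q₁) ∘ₗ f' = f ∘ₗ T₁ := by
      refine LinearMap.pi_ext' fun i => LinearMap.ext_ring ?_
      funext j
      show T (f' (Pi.single i 1)) j = algebraMap Q₁ Q (T₁ (Pi.single i 1) j)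
      rw [hT, show f' (Pi.single i 1) = Pi.single i 1 from funext fun l => by
        show algebraMap Q₁ Q ((Pi.single i (1 : Q₁) : Fin k' → Q₁) l) = _
        rcases eq_or_ne l i with rfl | hl
        · simp
        · simp [Pi.single_eq_of_ne hl]]
    exact fun v => LinearMap.congr_fun this v
  refine uInjAt_of_fibInjAt_model (μ'.restrictScalars A₁) hμ'
    (fun c m => (μ'.map_smul c m).trans (algebraMap_smul _ c _).symm) (μ.restrictScalars A₁) hμ
    (fun c m => (μ.map_smul c m).trans (algebraMap_smul _ c _).symm) u₁ u (fun m => ?_) q hA h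
  obtain ⟨m, rfl⟩ := Submodule.Quotient.mk_surjective _ m
  show u (Submodule.Quotient.mk (f' m)) = Submodule.Quotient.mk (f (T₁ m))
  rw [hu, hTf]

set_option maxHeartbeats 800000 in
/-- Over a polynomial algebra. -/
theorem uInjAt_of_fibInjAt_mvPolynomial (A : Type u) [CommRing A] (n : ℕ) {k k' : ℕ}
    (s' : Finset (Fin k' → MvPolynomial (Fin n) A)) (s : Finset (Fin k → MvPolynomial (Fin n) A))
    (T : (Fin k' → MvPolynomial (Fin n) A) →ₗ[MvPolynomial (Fin n) A]
      (Fin k → MvPolynomial (Fin n) A))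
    (hTs : ∀ x ∈ s', T x ∈ Submodule.span (MvPolynomial (Fin n) A) (s : Set _))
    (u : ((Fin k' → MvPolynomial (Fin n) A) ⧸
      Submodule.span (MvPolynomial (Fin n) A) (s' : Set (Fin k' → MvPolynomial (Fin n) A))) →ₗ[
      MvPolynomial (Fin n) A] (Fin k → MvPolynomial (Fin n) A) ⧸
      Submodule.span (MvPolynomial (Fin n) A) (s : Set (Fin k → MvPolynomial (Fin n) A)))
    (hu : ∀ v, u (Submodule.Quotient.mk v) = Submodule.Quotient.mk (T v))
    (q : PrimeSpectrum (MvPolynomial (Fin n) A))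
    (hA : Module.Flat A (LocalizedModule q.asIdeal.primeCompl ((Fin k → MvPolynomial (Fin n) A) ⧸
      Submodule.span (MvPolynomial (Fin n) A) (s : Set (Fin k → MvPolynomial (Fin n) A)))))
    (h : FibInjAt A (MvPolynomial (Fin n) A) u q) :
    UInjAt A (MvPolynomial (Fin n) A) u q := by
  classical
  have hc : ∀ x : s', ∃ c : (Fin k → MvPolynomial (Fin n) A) → MvPolynomial (Fin n) A,
      T x.1 = ∑ v ∈ s, c v • v := fun x => by
    obtain ⟨c, -, hc⟩ := Submodule.mem_span_finset.1 (hTs x.1 x.2)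
    exact ⟨c, hc.symm⟩
  choose cf hcf using hc
  let coeffset : Set A := (⋃ x ∈ s', ⋃ j, ((x j).coeffs : Set A)) ∪
    (⋃ x ∈ s, ⋃ j, ((x j).coeffs : Set A)) ∪
    (⋃ i, ⋃ j, ((T (Pi.single i 1) j).coeffs : Set A)) ∪
    (⋃ x : s', ⋃ v ∈ s, ((cf x v).coeffs : Set A))
  have hfin : coeffset.Finite := by
    refine ((Set.Finite.union ?_ ?_).union ?_).union ?_
    · exact s'.finite_toSet.biUnion fun w _ => Set.finite_iUnion fun j => Finset.finite_toSet _
    · exact s.finite_toSet.biUnion fun w _ => Set.finite_iUnion fun j => Finset.finite_toSet _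
    · exact Set.finite_iUnion fun i => Set.finite_iUnion fun j => Finset.finite_toSet _
    · exact Set.finite_iUnion fun x => s.finite_toSet.biUnion fun w _ => Finset.finite_toSet _
  let R₀ : Subalgebra ℤ A := Algebra.adjoin ℤ coeffset
  have : IsNoetherianRing R₀ :=
    isNoetherianRing_of_fg (Subalgebra.fg_def.2 ⟨_, hfin, rfl⟩)
  let _ : Algebra (MvPolynomial (Fin n) R₀) (MvPolynomial (Fin n) A) :=
    MvPolynomial.algebraMvPolynomial
  have hlift : ∀ p : MvPolynomial (Fin n) A, (p.coeffs : Set A) ⊆ coeffset →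
      ∃ p₀ : MvPolynomial (Fin n) R₀,
        algebraMap (MvPolynomial (Fin n) R₀) (MvPolynomial (Fin n) A) p₀ = p := fun p hp => by
    show p ∈ Set.range (MvPolynomial.map (algebraMap R₀ A))
    rw [MvPolynomial.mem_range_map_iff_coeffs_subset]
    exact fun c hc => ⟨⟨c, Algebra.subset_adjoin (hp hc)⟩, rfl⟩
  have hl' : ∀ (x : s') j, _ := fun x j => hlift ((x : Fin k' → MvPolynomial (Fin n) A) j)
    fun c hc => Or.inl (Or.inl (Or.inl (Set.mem_biUnion x.2 (Set.mem_iUnion.2 ⟨j, hc⟩))))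
  have hl : ∀ (x : s) j, _ := fun x j => hlift ((x : Fin k → MvPolynomial (Fin n) A) j)
    fun c hc => Or.inl (Or.inl (Or.inr (Set.mem_biUnion x.2 (Set.mem_iUnion.2 ⟨j, hc⟩))))
  have hlT : ∀ i j, _ := fun i j => hlift (T (Pi.single i 1) j)
    fun c hc => Or.inl (Or.inr (Set.mem_iUnion.2 ⟨i, Set.mem_iUnion.2 ⟨j, hc⟩⟩))
  have hlc : ∀ (x : s') (v : s), _ := fun x v => hlift (cf x v.1)
    fun c hc => Or.inr (Set.mem_iUnion.2 ⟨x, Set.mem_biUnion v.2 hc⟩)
  choose w' hw' using hl'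
  choose w hw using hl
  choose t ht using hlT
  choose c₀ hc₀ using hlc
  let T₁ : (Fin k' → MvPolynomial (Fin n) R₀) →ₗ[MvPolynomial (Fin n) R₀]
      (Fin k → MvPolynomial (Fin n) R₀) :=
    (Pi.basisFun (MvPolynomial (Fin n) R₀) (Fin k')).constr (MvPolynomial (Fin n) R₀) t
  have hT : ∀ i, T₁ (Pi.single i 1) = t i := fun i => by
    rw [← Pi.basisFun_apply (MvPolynomial (Fin n) R₀) (Fin k') i]
    exact Module.Basis.constr_basis _ _ _ _
  let ι := algebraMap (MvPolynomial (Fin n) R₀) (MvPolynomial (Fin n) A)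
  have hinj : Injective ι := MvPolynomial.map_injective _ Subtype.val_injective
  refine uInjAt_of_fibInjAt_presented (A₁ := R₀) s' s T w' w T₁ hw' hw
    (fun i j => by rw [hT]; exact ht i j) (fun x => ?_) u hu q hA h
  have hmap : ∀ v, (fun j => ι (T₁ v j)) = T fun j => ι (v j) := fun v => by
    have hv : v = ∑ i, v i • (Pi.single i (1 : MvPolynomial (Fin n) R₀) : Fin k' → _) :=
      (Finset.univ_sum_single v).symm.trans
        (Finset.sum_congr rfl fun i _ => by rw [← Pi.single_smul, smul_eq_mul, mul_one])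
    have hv' : (fun j => ι (v j)) =
        ∑ i, ι (v i) • (Pi.single i (1 : MvPolynomial (Fin n) A) : Fin k' → _) :=
      (Finset.univ_sum_single (fun j => ι (v j))).symm.trans
        (Finset.sum_congr rfl fun i _ => by rw [← Pi.single_smul, smul_eq_mul, mul_one])
    rw [hv', map_sum]
    conv_lhs => rw [hv, map_sum]
    funext j
    simp only [map_smul, hT, Finset.sum_apply, Pi.smul_apply, smul_eq_mul, map_sum, map_mul]
    exact Finset.sum_congr rfl fun i _ => by rw [ht]
  have key : T₁ (w' x) = ∑ v : s, c₀ x v • w v := by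
    funext j
    apply hinj
    rw [congrFun (hmap (w' x)) j, show (fun j => ι (w' x j)) = x.1 from funext (hw' x), hcf x,
      Finset.sum_apply, Finset.sum_apply, map_sum, ← Finset.sum_attach s]
    refine Finset.sum_congr rfl fun v _ => ?_
    rw [Pi.smul_apply, Pi.smul_apply, smul_eq_mul, smul_eq_mul, map_mul, hc₀, hw]
  rw [key]
  exact Submodule.sum_mem _ fun v _ => Submodule.smul_mem _ _ (Submodule.subset_span ⟨v, rfl⟩)

section Transport

variable {A B₁ B₂ M₁' M₁ M₂' M₂ : Type u} [CommRing A] [CommRing B₁] [CommRing B₂] [Algebra A B₁]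
  [Algebra A B₂] [AddCommGroup M₁'] [Module B₁ M₁'] [Module A M₁'] [IsScalarTower A B₁ M₁']
  [AddCommGroup M₁] [Module B₁ M₁] [Module A M₁] [IsScalarTower A B₁ M₁]
  [AddCommGroup M₂'] [Module B₂ M₂'] [Module A M₂'] [IsScalarTower A B₂ M₂']
  [AddCommGroup M₂] [Module B₂ M₂] [Module A M₂] [IsScalarTower A B₂ M₂]
  (ψ : B₁ →ₐ[A] B₂) (hψ : Surjective ψ) (e' : M₁' ≃ₗ[A] M₂') (e : M₁ ≃ₗ[A] M₂)
  (he' : ∀ (b : B₁) m, e' (b • m) = ψ b • e' m) (he : ∀ (b : B₁) m, e (b • m) = ψ b • e m)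
  {u₁ : M₁' →ₗ[B₁] M₁} {u₂ : M₂' →ₗ[B₂] M₂} (hu : ∀ m, e (u₁ m) = u₂ (e' m))
  {q : PrimeSpectrum B₂}

include hψ he' he hu in
theorem FibInjAt.comap (h : FibInjAt A B₂ u₂ q) :
    FibInjAt A B₁ u₁ (PrimeSpectrum.comap ψ.toRingHom q) := by
  have hp : (PrimeSpectrum.comap ψ.toRingHom q).asIdeal.comap (algebraMap A B₁) =
      q.asIdeal.comap (algebraMap A B₂) := by
    ext a
    show ψ (algebraMap A B₁ a) ∈ q.asIdeal ↔ algebraMap A B₂ a ∈ q.asIdeal
    rw [ψ.commutes]
  have hmem : ∀ {L L' : Type u} [AddCommGroup L] [Module A L] [AddCommGroup L'] [Module A L']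
      (f : L ≃ₗ[A] L') (I : Ideal A) (l : L),
      f l ∈ I • (⊤ : Submodule A L') ↔ l ∈ I • (⊤ : Submodule A L) := fun f I l => by
    constructor
    · intro hl
      have := Submodule.mem_map_of_mem (f := f.symm.toLinearMap) hl
      rw [Submodule.map_smul''] at this
      simpa using Submodule.smul_mono le_rfl le_top this
    · intro hl
      have := Submodule.mem_map_of_mem (f := f.toLinearMap) hl
      rw [Submodule.map_smul''] at this
      exact Submodule.smul_mono le_rfl le_top this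
  rintro m ⟨c, hc, hcm⟩
  rw [hp] at hcm ⊢
  obtain ⟨d, hd, hdm⟩ := h (e' m) ⟨ψ c, hc, by rw [← hu, ← he, hmem e]; exact hcm⟩
  obtain ⟨d, rfl⟩ := hψ d
  exact ⟨d, hd, by rwa [← hmem e', he']⟩

include he' hu in
theorem UInjAt.of_comap (h : UInjAt A B₁ u₁ (PrimeSpectrum.comap ψ.toRingHom q)) :
    UInjAt A B₂ u₂ q := by
  intro X _ _ z hz
  obtain ⟨z, rfl⟩ := (e'.rTensor X).surjective z
  have hnat : ∀ w, AlgebraTensorModule.rTensor A X u₂ (e'.rTensor X w) =
      e.rTensor X (AlgebraTensorModule.rTensor A X u₁ w) := fun w => by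
    induction w using TensorProduct.induction_on with
    | zero => simp
    | add a b ha hb => simp only [map_add, ha, hb]
    | tmul m x => simp [hu]
  obtain ⟨c, hc, hcz⟩ := h z ((e.rTensor X).injective (by rw [← hnat, hz, map_zero]))
  refine ⟨ψ c, hc, ?_⟩
  rw [show ψ c • e'.rTensor X z = e'.rTensor X (c • z) from ?_, hcz, map_zero]
  clear hz hnat hcz
  induction z using TensorProduct.induction_on with
  | zero => simp
  | add a b ha hb => simp only [smul_add, map_add, ha, hb]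
  | tmul m x => simp [TensorProduct.smul_tmul', he']

end Transport

set_option maxHeartbeats 800000 in
/-- **EGA IV 11.3.7**: a map into a flat module which is injective on the fibre at `q` is
universally injective at `q`. -/
theorem uInjAt_of_fibInjAt {A B M' M : Type u} [CommRing A] [CommRing B] [Algebra A B]
    [Algebra.FinitePresentation A B] [AddCommGroup M'] [Module B M'] [Module A M']
    [IsScalarTower A B M'] [AddCommGroup M] [Module B M] [Module A M] [IsScalarTower A B M]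
    [Module.FinitePresentation B M'] [Module.FinitePresentation B M] {u : M' →ₗ[B] M}
    {q : PrimeSpectrum B} (hA : Module.Flat A (LocalizedModule q.asIdeal.primeCompl M))
    (h : FibInjAt A B u q) : UInjAt A B u q := by
  obtain ⟨n, π, hπ, hπker⟩ := ‹Algebra.FinitePresentation A B›.out
  let _ : Algebra (MvPolynomial (Fin n) A) B := π.toRingHom.toAlgebra
  let _ := Module.compHom M' π.toRingHom
  let _ := Module.compHom M π.toRingHom
  have : IsScalarTower (MvPolynomial (Fin n) A) B M' := .of_algebraMap_smul fun _ _ => rfl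
  have : IsScalarTower (MvPolynomial (Fin n) A) B M := .of_algebraMap_smul fun _ _ => rfl
  have : IsScalarTower A (MvPolynomial (Fin n) A) M' := .of_algebraMap_smul fun a m => by
    show π (algebraMap A _ a) • m = a • m
    rw [π.commutes, algebraMap_smul]
  have : IsScalarTower A (MvPolynomial (Fin n) A) M := .of_algebraMap_smul fun a m => by
    show π (algebraMap A _ a) • m = a • m
    rw [π.commutes, algebraMap_smul]
  obtain ⟨k', s', ⟨e'⟩⟩ := Cons.exists_presentation (P := MvPolynomial (Fin n) A) (C := B) (M := M')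
    hπ hπker
  obtain ⟨k, s, ⟨e⟩⟩ := Cons.exists_presentation (P := MvPolynomial (Fin n) A) (C := B) (M := M)
    hπ hπker
  let u₀ := (e.symm.toLinearMap ∘ₗ u.restrictScalars (MvPolynomial (Fin n) A)) ∘ₗ e'.toLinearMap
  obtain ⟨T, hT⟩ := Module.projective_lifting_property
    (Submodule.span (MvPolynomial (Fin n) A) (s : Set (Fin k → MvPolynomial (Fin n) A))).mkQ
    (u₀ ∘ₗ (Submodule.span (MvPolynomial (Fin n) A) (s' : Set (Fin k' → MvPolynomial (Fin n) A))).mkQ)
    (Submodule.mkQ_surjective _)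
  have hu₀ : ∀ v, u₀ (Submodule.Quotient.mk v) = Submodule.Quotient.mk (T v) := fun v =>
    (LinearMap.congr_fun hT v).symm
  have hTs : ∀ x ∈ s', T x ∈ Submodule.span (MvPolynomial (Fin n) A) (s : Set _) := fun x hx => by
    rw [← Submodule.Quotient.mk_eq_zero, ← hu₀,
      (Submodule.Quotient.mk_eq_zero _).2 (Submodule.subset_span hx), map_zero]
  have hcomm : ∀ m, e (u₀ m) = u (e' m) := fun m => e.apply_symm_apply _
  have hA' := (FlatDescent.flat_localized_iff π.toRingHom hπ (e.restrictScalars A)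
    (fun c m => e.map_smul c m) q.asIdeal).2 hA
  exact UInjAt.of_comap π (e'.restrictScalars A) (e.restrictScalars A) (fun c m => e'.map_smul c m)
    hcomm (uInjAt_of_fibInjAt_mvPolynomial A n s' s T hTs u₀ hu₀
      (PrimeSpectrum.comap π.toRingHom q) hA'
      (FibInjAt.comap π hπ (e'.restrictScalars A) (e.restrictScalars A)
        (fun c m => e'.map_smul c m) (fun c m => e.map_smul c m) hcomm h))

end Groth.Agent.EGA43.InjFibre
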