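import Groth.Agent.EGA43.InjFibre.Scheme
import Mathlib.AlgebraicGeometry.Noetherian

/-!
# EGA IV 11.10.9: restriction to an open set is universally injective iff it is so on the fibres
-/

set_option autoImplicit false
set_option backward.isDefEq.respectTransparency false

universe u

open CategoryTheory CategoryTheory.Limits AlgebraicGeometry Opposite TopologicalSpace
open Groth.Agent.Coherent

namespace Groth.Agent.EGA43.InjFibre

variable {X S : Scheme.{u}}

theorem eq_zero_of_germ (M : X.Modules) {V : X.Opens} (m : Γ(M, V))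
    (h : ∀ (x : X) (hx : x ∈ V), M.presheaf.germ V x hx m = 0) : m = 0 :=
  TopCat.Presheaf.section_ext (F := (⟨M.presheaf, M.isSheaf⟩ : TopCat.Sheaf Ab X)) V m 0
    fun x hx => (h x hx).trans (map_zero _).symm

/-- A section killed by all the `g` is zero on the union of the `D(g)`. -/
theorem germ_eq_zero_of_smul_eq_zero (M : X.Modules) {V : X.Opens} {x : X} (hx : x ∈ V)
    (r : Γ(X, V)) (hr : x ∈ X.basicOpen r) (m : Γ(M, V)) (hm : r • m = 0) :
    M.presheaf.germ V x hx m = 0 := by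
  have := congrArg (M.presheaf.germ V x hx) hm
  rw [QCohLoc.germ_smul', map_zero] at this
  rwa [((X.mem_basicOpen r x hx).1 hr).smul_eq_zero] at this

/-- Injectivity of the restriction to `U` on all opens. -/
def RestrInj (M : X.Modules) (U : X.Opens) : Prop :=
  ∀ V : X.Opens, Function.Injective (M.presheaf.map (homOfLE (inf_le_left : V ⊓ U ≤ V)).op)

/-- The fibre part: finitely many elements vanishing outside `U` give a tuple injective on the
fibre. -/
theorem exists_fibInjAt (f : X ⟶ S) [LocallyOfFiniteType f] (F : X.Modules) [Coh.IsQCoh F]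
    (U : X.Opens) {T : S.Opens} (hT : IsAffineOpen T) {U₀ : X.Opens} (hU₀ : IsAffineOpen U₀)
    (eU : U₀ ≤ f ⁻¹ᵁ T) {x : X} (hx : x ∈ U₀)
    (h : RestrInj ((Scheme.Modules.pullback (f.fiberι (f x))).obj F) (f.fiberι (f x) ⁻¹ᵁ U)) :
    letI := (f.appLE T U₀ eU).hom.toAlgebra
    letI := QcohFlat.overModule f F T U₀ eU
    haveI : IsScalarTower Γ(S, T) Γ(X, U₀) Γ(F, U₀) :=
      IsScalarTower.of_algebraMap_smul fun _ _ => rfl
    ∃ (ι : Type u) (_ : Fintype ι) (a : ι → Γ(X, U₀)), (∀ i, X.basicOpen (a i) ≤ U) ∧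
      FibInjAt Γ(S, T) Γ(X, U₀) (mulTuple Γ(F, U₀) a) (hU₀.primeIdealOf ⟨x, hx⟩) := by
  let s := f x
  let k := S.fromSpecResidueField s
  let Z := f.fiber s
  let fst := f.fiberι s
  have H : IsPullback fst (f.fiberToSpecResidueField s) f k :=
    IsPullback.of_hasPullback f k
  have : LocallyOfFiniteType (f.fiberToSpecResidueField s) :=
    MorphismProperty.pullback_snd f k inferInstance
  have : IsLocallyNoetherian Z := LocallyOfFiniteType.isLocallyNoetherian (f.fiberToSpecResidueField s)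
  have ek : (⊤ : (Spec (S.residueField s)).Opens) ≤ k ⁻¹ᵁ T := fun p _ => by
    have hp : k p ∈ Set.range (S.fromSpecResidueField s) := ⟨p, rfl⟩
    rw [Scheme.range_fromSpecResidueField] at hp
    show k p ∈ T
    rw [show k p = s from hp]
    exact eU hx
  let W : Z.Opens := fst ⁻¹ᵁ U₀ ⊓ f.fiberToSpecResidueField s ⁻¹ᵁ ⊤
  have hWa : IsAffineOpen W :=
    isAffineOpen_inf_preimage H hT hU₀ (isAffineOpen_top _) eU ek
  have : IsNoetherianRing Γ(Z, W) := IsLocallyNoetherian.component_noetherian ⟨W, hWa⟩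
  let φ : Γ(X, U₀) →+* Γ(Z, W) := (fst.appLE U₀ W inf_le_left).hom
  let G : Set Γ(X, U₀) := {r | X.basicOpen r ≤ U}
  obtain ⟨s', hs', hspan⟩ := (Submodule.fg_span_iff_fg_span_finset_subset (φ '' G)).1
    (IsNoetherian.noetherian (R := Γ(Z, W)) _)
  choose a ha hφa using fun i : (s' : Set Γ(Z, W)) => hs' i.2
  refine ⟨(s' : Set Γ(Z, W)), inferInstance, a, ha, ?_⟩
  have hxW : f.asFiber x ∈ W := ⟨by show fst (f.asFiber x) ∈ U₀; rw [f.fiberι_asFiber]; exact hx, trivial⟩
  have htr := (mulTuple_transfer H F hT hU₀ (isAffineOpen_top _) eU ek (W := W) rfl hWa a hxW).2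
  have hfld : IsField Γ(Spec (S.residueField s), ⊤) :=
    ((Scheme.ΓSpecIso (S.residueField s)).commRingCatIsoToRingEquiv.toMulEquiv).isField
      (Field.toIsField _)
  have hvan : ∀ m : Γ((Scheme.Modules.pullback fst).obj F, W), (∀ i, φ (a i) • m = 0) →
      ∃ c : Γ(Z, W), f.asFiber x ∈ Z.basicOpen c ∧ c • m = 0 := by
    intro m hm
    refine ⟨1, by rw [Scheme.basicOpen_of_isUnit _ isUnit_one]; exact hxW, ?_⟩
    rw [one_smul]
    refine h W (a₂ := 0) ?_
    rw [map_zero]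
    refine eq_zero_of_germ _ _ fun y hy => ?_
    erw [TopCat.Presheaf.germ_res_apply]
    obtain ⟨r, hr, hyr⟩ := hU₀.exists_basicOpen_le (⟨fst y, hy.2⟩ : U) hy.1.1
    refine germ_eq_zero_of_smul_eq_zero _ hy.1 (φ r) ?_ m ?_
    · rw [show Z.basicOpen (φ r) = W ⊓ fst ⁻¹ᵁ X.basicOpen r from Scheme.basicOpen_appLE _ _ _ _ _]
      exact ⟨hy.1, hyr⟩
    · have hmem : φ r ∈ Submodule.span Γ(Z, W) (s' : Set Γ(Z, W)) := by
        rw [← hspan]
        exact Submodule.subset_span ⟨r, hr, rfl⟩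
      generalize φ r = t at hmem ⊢
      induction hmem using Submodule.span_induction with
      | mem z hz => have := hm ⟨z, hz⟩; rwa [hφa ⟨z, hz⟩] at this
      | zero => exact zero_smul _ m
      | add b c _ _ hb hc => rw [add_smul, hb, hc, add_zero]
      | smul b c _ hc => rw [smul_eq_mul, mul_smul, hc, smul_zero]
  have := htr hfld hvan
  convert this using 3
  exact (f.fiberι_asFiber x).symm

/-- **EGA IV 11.10.9**. -/
theorem restrInj_pullback_of_fibre (f : X ⟶ S) [LocallyOfFinitePresentation f] (F : X.Modules)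
    [Coh.IsQCoh F] (hF : CohB1.IsFP F) (hflat : FlatMod.IsFlatOver f F) (U : X.Opens)
    (h : ∀ s, RestrInj ((Scheme.Modules.pullback (f.fiberι s)).obj F) (f.fiberι s ⁻¹ᵁ U))
    (S' : Scheme.{u}) (g : S' ⟶ S) :
    RestrInj ((Scheme.Modules.pullback (pullback.fst f g)).obj F) (pullback.fst f g ⁻¹ᵁ U) := by
  intro V
  refine (injective_iff_map_eq_zero _).2 fun σ hσ => eq_zero_of_germ _ _ fun x' hx' => ?_
  let P := (Scheme.Modules.pullback (pullback.fst f g)).obj F
  have : Coh.IsQCoh P := isQCoh_pullback _ F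
  let fst := pullback.fst f g
  let snd := pullback.snd f g
  obtain ⟨T, hT, hxT, -⟩ := exists_isAffineOpen_mem_and_subset (x := f (fst x')) (U := ⊤) trivial
  obtain ⟨U₀, hU₀, hxU₀, eU⟩ := exists_isAffineOpen_mem_and_subset (U := f ⁻¹ᵁ T) hxT
  have hgx : g (snd x') ∈ T := by
    rw [← Scheme.Hom.comp_apply, ← pullback.condition, Scheme.Hom.comp_apply]
    exact hxT
  obtain ⟨T', hT', hxT', eT⟩ := exists_isAffineOpen_mem_and_subset (U := g ⁻¹ᵁ T) hgx
  have H : IsPullback fst snd f g := IsPullback.of_hasPullback f g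
  let W := fst ⁻¹ᵁ U₀ ⊓ snd ⁻¹ᵁ T'
  have hWa : IsAffineOpen W := isAffineOpen_inf_preimage H hT hU₀ hT' eU eT
  have hxW : x' ∈ W := ⟨hxU₀, hxT'⟩
  let _ := (f.appLE T U₀ eU).hom.toAlgebra
  let _ := QcohFlat.overModule f F T U₀ eU
  have : IsScalarTower Γ(S, T) Γ(X, U₀) Γ(F, U₀) :=
    IsScalarTower.of_algebraMap_smul fun _ _ => rfl
  have : Algebra.FinitePresentation Γ(S, T) Γ(X, U₀) := f.finitePresentation_appLE hT hU₀ eU
  have := QcohFP.finitePresentation_sections F hF hU₀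
  obtain ⟨ι, _, a, ha, hfib⟩ := exists_fibInjAt f F U hT hU₀ eU hxU₀ (h _)
  have hA := (QcohFlat.isFlatOverAt_iff f F hT hU₀ eU hxU₀).1 (hflat _)
  have hker := (mulTuple_transfer H F hT hU₀ hT' eU eT (W := W) rfl hWa a hxW).1
    (uInjAt_mulTuple a hA hfib)
  -- `σ` near `x'` is a fraction killed by powers of the `a i`
  obtain ⟨c₀, hc₀V, hxc₀⟩ := hWa.exists_basicOpen_le (⟨x', hx'⟩ : V) hxW
  obtain ⟨N₀, m, hm⟩ := qcoh_exists_pow_smul hWa P c₀ (resM P hc₀V σ)
  let a' : ι → Γ(pullback f g, W) := fun i => (fst.appLE U₀ W inf_le_left).hom (a i)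
  have hk : ∀ i, ∃ k : ℕ, (c₀ * a' i) ^ k • m = 0 := fun i => by
    refine qcoh_exists_pow_smul_eq_zero hWa P (c₀ * a' i) m (eq_zero_of_germ _ _ fun y hy => ?_)
    have hy' : y ∈ (pullback f g).basicOpen c₀ ⊓ (pullback f g).basicOpen (a' i) := by
      rwa [← Scheme.basicOpen_mul]
    have hyU : y ∈ fst ⁻¹ᵁ U := by
      have := hy'.2
      rw [show (pullback f g).basicOpen (a' i) = W ⊓ fst ⁻¹ᵁ X.basicOpen (a i) from
        Scheme.basicOpen_appLE _ _ _ _ _] at this
      exact ha i this.2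
    have e := congrArg (P.presheaf.germ _ y hy'.1) hm
    erw [QCohLoc.germ_smul', TopCat.Presheaf.germ_res_apply, TopCat.Presheaf.germ_res_apply,
      TopCat.Presheaf.germ_res_apply] at e
    have e0 : P.presheaf.germ V y (hc₀V hy'.1) σ = 0 := by
      rw [← TopCat.Presheaf.germ_res_apply P.presheaf (homOfLE (inf_le_left : V ⊓ fst ⁻¹ᵁ U ≤ V)) y
        ⟨hc₀V hy'.1, hyU⟩ σ, hσ, map_zero]
    rw [e0, smul_zero] at e
    erw [TopCat.Presheaf.germ_res_apply]
    exact e
  choose k hk using hk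
  obtain ⟨c₁, hc₁, hc₁m⟩ := exists_smul_eq_zero_of_pow a' (hWa.primeIdealOf ⟨x', hxW⟩)
    (fun z hz => by
      obtain ⟨c, hc, hcz⟩ := hker z ((mulTuple_eq_zero_iff _ z).1 hz)
      exact ⟨c, (mem_basicOpen_iff_notMem hWa hxW c).1 hc, hcz⟩)
    (∑ i, k i) k (c₀ ^ (∑ i, k i) • m) rfl fun i => by
      have hle : k i ≤ ∑ i, k i :=
        Finset.single_le_sum (f := k) (fun _ _ => Nat.zero_le _) (Finset.mem_univ i)
      rw [← Nat.sub_add_cancel hle, pow_add, smul_smul,
        show a' i ^ k i * (c₀ ^ (∑ i, k i - k i) * c₀ ^ k i) =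
          c₀ ^ (∑ i, k i - k i) * (c₀ * a' i) ^ k i by rw [mul_pow]; ring, mul_smul, hk, smul_zero]
  have hu₀ : IsUnit ((pullback f g).presheaf.germ W x' hxW c₀) :=
    ((pullback f g).mem_basicOpen _ _ hxW).1 hxc₀
  have hu₁ : IsUnit ((pullback f g).presheaf.germ W x' hxW c₁) :=
    ((pullback f g).mem_basicOpen _ _ hxW).1 ((mem_basicOpen_iff_notMem hWa hxW c₁).2 hc₁)
  have hm0 := congrArg (P.presheaf.germ W x' hxW) hc₁m
  rw [QCohLoc.germ_smul', QCohLoc.germ_smul', map_zero, hu₁.smul_eq_zero, map_pow,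
    (hu₀.pow _).smul_eq_zero] at hm0
  have e := congrArg (P.presheaf.germ _ x' hxc₀) hm
  erw [QCohLoc.germ_smul', TopCat.Presheaf.germ_res_apply, TopCat.Presheaf.germ_res_apply,
    TopCat.Presheaf.germ_res_apply] at e
  rw [hm0, map_pow] at e
  exact (hu₀.pow _).smul_eq_zero.1 e.symm

end Groth.Agent.EGA43.InjFibre
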