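import Groth.Agent.EGA43.InjFibre.InjFlat
import Groth.Agent.EGA43.FlatDescent.Stage
import Groth.Agent.EGA43.FlatDescent.Main

/-!
# Injectivity with flat cokernel descends to a finitely generated stage (EGA IV 11.3.7)
-/

set_option autoImplicit false
set_option backward.isDefEq.respectTransparency false

universe u

open TensorProduct Function

namespace Groth.Agent.EGA43.InjFibre

attribute [local instance] FlatDescent.bcModule

section BC

variable {R P M' M : Type u} [CommRing R] [CommRing P] [Algebra R P] [AddCommGroup M'] [Module R M']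
  [Module P M'] [IsScalarTower R P M'] [AddCommGroup M] [Module R M] [Module P M]
  [IsScalarTower R P M]

/-- The base change of `u`. -/
noncomputable def bcMap (R : Type u) {P M' M : Type u} [CommRing R] [CommRing P] [Algebra R P]
    [AddCommGroup M'] [Module R M'] [Module P M'] [IsScalarTower R P M'] [AddCommGroup M] [Module R M]
    [Module P M] [IsScalarTower R P M] (D : Type u) [CommRing D] [Algebra R D] (u : M' →ₗ[P] M) :
    D ⊗[R] M' →ₗ[D ⊗[R] P] D ⊗[R] M where
  toFun := (u.restrictScalars R).baseChange D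
  map_add' := map_add _
  map_smul' := fun c m => by
    refine FlatDescent.map_smul_of_tmul (RingHom.id _)
      ((u.restrictScalars R).baseChange D).toAddMonoidHom (fun a p d n => ?_) c m
    simp only [LinearMap.toAddMonoidHom_coe, RingHom.id_apply]
    rw [FlatDescent.bc_smul_tmul, LinearMap.baseChange_tmul, LinearMap.baseChange_tmul,
      FlatDescent.bc_smul_tmul]
    congr 1
    exact map_smul u p n

@[simp] theorem bcMap_tmul (D : Type u) [CommRing D] [Algebra R D] (u : M' →ₗ[P] M) (d : D)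
    (m : M') : bcMap R D u (d ⊗ₜ m) = d ⊗ₜ u m := rfl

variable {N : Type u} [AddCommGroup N] [Module R N]

theorem map_smul_rTensor {D D' : Type u} [CommRing D] [Algebra R D] [CommRing D'] [Algebra R D']
    (j : D →ₐ[R] D') (c : D ⊗[R] P) (m : D ⊗[R] M) :
    j.toLinearMap.rTensor M (c • m) =
      Algebra.TensorProduct.map j (AlgHom.id R P) c • j.toLinearMap.rTensor M m := by
  refine FlatDescent.map_smul_of_tmul (Algebra.TensorProduct.map j (AlgHom.id R P)).toRingHom
    (j.toLinearMap.rTensor M).toAddMonoidHom (fun a p d n => ?_) c m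
  simp only [LinearMap.toAddMonoidHom_coe]
  rw [FlatDescent.bc_smul_tmul, LinearMap.rTensor_tmul, LinearMap.rTensor_tmul]
  show j (a * d) ⊗ₜ[R] (p • n) = (j a ⊗ₜ[R] p) • (j d ⊗ₜ[R] n)
  rw [FlatDescent.bc_smul_tmul, map_mul]

theorem bcMap_rTensor {D D' : Type u} [CommRing D] [Algebra R D] [CommRing D'] [Algebra R D']
    (j : D →ₐ[R] D') (u : M' →ₗ[P] M) (m : D ⊗[R] M') :
    bcMap R D' u (j.toLinearMap.rTensor M' m) = j.toLinearMap.rTensor M (bcMap R D u m) := by
  induction m using TensorProduct.induction_on with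
  | zero => simp
  | add a b ha hb => simp only [map_add, ha, hb]
  | tmul d x => simp

theorem isScalarTower_bc (D : Type u) [CommRing D] [Algebra R D] :
    IsScalarTower R (D ⊗[R] P) (D ⊗[R] M) :=
  IsScalarTower.of_algebraMap_smul fun r x => by
    rw [IsScalarTower.algebraMap_apply R D (D ⊗[R] P), algebraMap_smul (D ⊗[R] P), algebraMap_smul]

theorem exists_isBaseChange_bcCoker (D : Type u) [CommRing D] [Algebra R D] (u : M' →ₗ[P] M) :
    ∃ e : D ⊗[R] (M ⧸ LinearMap.range u) ≃ₗ[D] (D ⊗[R] M) ⧸ LinearMap.range (bcMap R D u),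
      ∀ (c : D ⊗[R] P) x, e (c • x) = c • e x := by
  let _ : Algebra P (D ⊗[R] P) := Algebra.TensorProduct.rightAlgebra
  have := isScalarTower_bc (R := R) (P := P) (M := M) D
  obtain ⟨γ, hγ, -, hγP⟩ := exists_isBaseChange_coker (B := P) (B' := D ⊗[R] P)
    (TensorProduct.isBaseChange R M' D) (TensorProduct.isBaseChange R M D) (fun b m => by
      show (1 : D) ⊗ₜ[R] (b • m) = ((1 : D) ⊗ₜ[R] b) • ((1 : D) ⊗ₜ[R] m)
      rw [FlatDescent.bc_smul_tmul, one_mul]) (u := u) (v := bcMap R D u) (fun m => rfl)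
  refine ⟨hγ.equiv, fun c x => ?_⟩
  refine FlatDescent.map_smul_of_tmul (RingHom.id _) hγ.equiv.toAddEquiv.toAddMonoidHom
    (fun a p d n => ?_) c x
  show hγ.equiv _ = (a ⊗ₜ[R] p) • hγ.equiv _
  rw [FlatDescent.bc_smul_tmul, IsBaseChange.equiv_tmul, IsBaseChange.equiv_tmul, hγP]
  show (a * d) • ((1 : D) ⊗ₜ[R] p) • γ n = _
  rw [← algebraMap_smul (D ⊗[R] P) (a * d), ← algebraMap_smul (D ⊗[R] P) d, smul_smul, smul_smul]
  congr 1
  show ((a * d) ⊗ₜ[R] (1 : P)) * ((1 : D) ⊗ₜ[R] p) = (a ⊗ₜ[R] p) * (d ⊗ₜ[R] (1 : P))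
  rw [Algebra.TensorProduct.tmul_mul_tmul, Algebra.TensorProduct.tmul_mul_tmul, mul_one, one_mul,
    mul_one]

theorem flat_bcCoker_iff (D : Type u) [CommRing D] [Algebra R D] (u : M' →ₗ[P] M)
    (q : PrimeSpectrum (D ⊗[R] P)) :
    Module.Flat D
        (LocalizedModule q.asIdeal.primeCompl ((D ⊗[R] M) ⧸ LinearMap.range (bcMap R D u))) ↔
      FlatDescent.FlatAt R P (M ⧸ LinearMap.range u) D q.asIdeal := by
  obtain ⟨e, he⟩ := exists_isBaseChange_bcCoker (R := R) D u
  exact (FlatDescent.flat_localized_iff (RingHom.id _) (fun x => ⟨x, rfl⟩) e he q.asIdeal).symm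

/-- If the cokernel is flat at a stage, it suffices that the kernel dies at a bigger one. -/
theorem injFlatAt_bc_of_kills {D₁ D₂ : Type u} [CommRing D₁] [Algebra R D₁] [CommRing D₂]
    [Algebra R D₂] (j : D₁ →ₐ[R] D₂) (u : M' →ₗ[P] M) (q₂ : PrimeSpectrum (D₂ ⊗[R] P))
    (hflat : FlatDescent.FlatAt R P (M ⧸ LinearMap.range u) D₁
      (q₂.asIdeal.comap (Algebra.TensorProduct.map j (AlgHom.id R P))))
    (hK : ∀ k, bcMap R D₁ u k = 0 →
      ∃ c ∉ q₂.asIdeal, c • j.toLinearMap.rTensor M' k = 0) :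
    InjFlatAt D₂ (D₂ ⊗[R] P) (bcMap R D₂ u) q₂ := by
  let _ : Algebra D₁ D₂ := j.toRingHom.toAlgebra
  have : IsScalarTower R D₁ D₂ := .of_algebraMap_eq fun r => (j.commutes r).symm
  let _ : Algebra (D₁ ⊗[R] P) (D₂ ⊗[R] P) :=
    (Algebra.TensorProduct.map j (AlgHom.id R P)).toRingHom.toAlgebra
  have : IsScalarTower D₁ (D₁ ⊗[R] P) (D₂ ⊗[R] P) := .of_algebraMap_eq fun d => rfl
  let _ : Module D₁ (D₂ ⊗[R] M') := Module.compHom _ j.toRingHom
  let _ : Module D₁ (D₂ ⊗[R] M) := Module.compHom _ j.toRingHom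
  have : IsScalarTower D₁ D₂ (D₂ ⊗[R] M') := .of_algebraMap_smul fun _ _ => rfl
  have : IsScalarTower D₁ D₂ (D₂ ⊗[R] M) := .of_algebraMap_smul fun _ _ => rfl
  have : IsScalarTower R D₁ (D₂ ⊗[R] M') := .of_algebraMap_smul fun a m => by
    show j (algebraMap R D₁ a) • m = a • m
    rw [j.commutes, algebraMap_smul]
  have : IsScalarTower R D₁ (D₂ ⊗[R] M) := .of_algebraMap_smul fun a m => by
    show j (algebraMap R D₁ a) • m = a • m
    rw [j.commutes, algebraMap_smul]
  have : IsScalarTower D₁ (D₂ ⊗[R] P) (D₂ ⊗[R] M) := .of_algebraMap_smul fun d m => by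
    show algebraMap D₂ (D₂ ⊗[R] P) (j d) • m = j d • m
    rw [algebraMap_smul]
  let ν' : D₁ ⊗[R] M' →ₗ[D₁] D₂ ⊗[R] M' := (TensorProduct.mk R D₂ M' 1).liftBaseChange D₁
  let ν : D₁ ⊗[R] M →ₗ[D₁] D₂ ⊗[R] M := (TensorProduct.mk R D₂ M 1).liftBaseChange D₁
  have hν' : IsBaseChange D₂ ν' := by
    refine IsBaseChange.of_comp (TensorProduct.isBaseChange R M' D₁) ?_
    convert TensorProduct.isBaseChange R M' D₂ using 1
    ext m
    simp [ν']
  have hν : IsBaseChange D₂ ν := by
    refine IsBaseChange.of_comp (TensorProduct.isBaseChange R M D₁) ?_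
    convert TensorProduct.isBaseChange R M D₂ using 1
    ext m
    simp [ν]
  have hν'j : ∀ k, ν' k = j.toLinearMap.rTensor M' k := fun k => by
    induction k using TensorProduct.induction_on with
    | zero => simp
    | add a b ha hb => simp only [map_add, ha, hb]
    | tmul d m =>
      rw [LinearMap.liftBaseChange_tmul, LinearMap.rTensor_tmul]
      show j d • ((1 : D₂) ⊗ₜ[R] m) = _
      rw [TensorProduct.smul_tmul', smul_eq_mul, mul_one]
      rfl
  have hνj : ∀ k, ν k = j.toLinearMap.rTensor M k := fun k => by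
    induction k using TensorProduct.induction_on with
    | zero => simp
    | add a b ha hb => simp only [map_add, ha, hb]
    | tmul d m =>
      rw [LinearMap.liftBaseChange_tmul, LinearMap.rTensor_tmul]
      show j d • ((1 : D₂) ⊗ₜ[R] m) = _
      rw [TensorProduct.smul_tmul', smul_eq_mul, mul_one]
      rfl
  refine InjFlatAt.of_kills hν' hν (fun b m => ?_) (u := bcMap R D₁ u) (v := bcMap R D₂ u)
    (fun m => ?_) (fun b m => ?_) ((flat_bcCoker_iff D₁ u _).2 hflat) fun k hk => ?_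
  · rw [hνj, hνj]; exact map_smul_rTensor j b m
  · rw [hν'j, hνj]; exact bcMap_rTensor j u m
  · rw [hν'j, hν'j]; exact map_smul_rTensor j b m
  · rw [hν'j]; exact hK k hk

variable [IsNoetherianRing R] [Algebra.FiniteType R P] [Module.Finite P M'] [Module.Finite P M]
  {A : Type u} [CommRing A] [Algebra R A]

theorem exists_kills_stage {D₁ : Subalgebra R A} (hD₁ : D₁.FG) (u : M' →ₗ[P] M)
    (q : PrimeSpectrum (A ⊗[R] P)) (k : D₁ ⊗[R] M')
    (hk : ∃ c ∉ q.asIdeal, c • D₁.val.toLinearMap.rTensor M' k = 0) :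
    ∃ (D : Subalgebra R A) (h : D₁ ≤ D), D.FG ∧ ∃ c : D ⊗[R] P,
      Algebra.TensorProduct.map D.val (AlgHom.id R P) c ∉ q.asIdeal ∧
      c • (Subalgebra.inclusion h).toLinearMap.rTensor M' k = 0 := by
  obtain ⟨c, hc, hck⟩ := hk
  obtain ⟨E, hE, c', rfl⟩ := TensorProduct.Algebra.exists_of_fg c
  have hmap : ∀ (D : Subalgebra R A) (z : D ⊗[R] P), D.val.toLinearMap.rTensor P z =
      Algebra.TensorProduct.map D.val (AlgHom.id R P) z := fun D z => by
    induction z using TensorProduct.induction_on with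
    | zero => simp
    | add u u' h h' => simp only [map_add, h, h']
    | tmul b r => rfl
  rw [hmap] at hc hck
  let G := E ⊔ D₁
  let cG := Algebra.TensorProduct.map (Subalgebra.inclusion (le_sup_left : E ≤ G)) (AlgHom.id R P) c'
  let kG := (Subalgebra.inclusion (le_sup_right : D₁ ≤ G)).toLinearMap.rTensor M' k
  have hcG : Algebra.TensorProduct.map G.val (AlgHom.id R P) cG =
      Algebra.TensorProduct.map E.val (AlgHom.id R P) c' := by
    rw [← AlgHom.comp_apply, ← Algebra.TensorProduct.map_comp, AlgHom.id_comp]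
    rfl
  have h0 : G.val.toLinearMap.rTensor M' (cG • kG) = G.val.toLinearMap.rTensor M' 0 := by
    rw [map_smul_rTensor, hcG, map_zero, ← LinearMap.rTensor_comp_apply]
    exact hck
  obtain ⟨D, hGD, hD, h⟩ :=
    TensorProduct.Algebra.eq_of_fg_of_subtype_eq (Subalgebra.FG.sup hE hD₁) h0
  refine ⟨D, le_sup_right.trans hGD, hD,
    Algebra.TensorProduct.map (Subalgebra.inclusion hGD) (AlgHom.id R P) cG, ?_, ?_⟩
  · rw [← AlgHom.comp_apply, ← Algebra.TensorProduct.map_comp, AlgHom.id_comp]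
    show Algebra.TensorProduct.map G.val (AlgHom.id R P) cG ∉ q.asIdeal
    rw [hcG]
    exact hc
  · rw [map_zero, map_smul_rTensor] at h
    rw [← h, ← LinearMap.rTensor_comp_apply]
    rfl

set_option maxHeartbeats 800000 in
/-- **EGA IV 11.3.7**: descent to a finitely generated stage. -/
theorem exists_stage_injFlatAt (u : M' →ₗ[P] M) (q : PrimeSpectrum (A ⊗[R] P))
    (h : InjFlatAt A (A ⊗[R] P) (bcMap R A u) q) :
    ∃ D : Subalgebra R A, D.FG ∧ InjFlatAt D (D ⊗[R] P) (bcMap R D u)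
      (PrimeSpectrum.comap (Algebra.TensorProduct.map D.val (AlgHom.id R P)).toRingHom q) := by
  classical
  obtain ⟨D₁, hD₁, hflat₁⟩ :=
    FlatDescent.exists_stage_flatAt q.asIdeal ((flat_bcCoker_iff A u q).1 h.2)
  have := FlatDescent.isNoetherianRing_of_fg hD₁
  have : IsNoetherianRing (D₁ ⊗[R] P) :=
    have : Algebra.FiniteType D₁ (D₁ ⊗[R] P) := Algebra.FiniteType.baseChange (A := P) D₁
    Algebra.FiniteType.isNoetherianRing D₁ _
  have : Module.Finite (D₁ ⊗[R] P) (D₁ ⊗[R] M') := FlatDescent.finite_bc R P M' D₁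
  obtain ⟨s, hs⟩ := (IsNoetherian.noetherian (LinearMap.ker (bcMap R D₁ u)) :)
  choose Ds hle hDs c hc hck using fun k : s => exists_kills_stage hD₁ u q k.1 (h.1 _ (by
    rw [bcMap_rTensor, show bcMap R D₁ u k.1 = 0 from
      LinearMap.mem_ker.1 (hs ▸ Submodule.subset_span k.2), map_zero]))
  let D := D₁ ⊔ Finset.univ.sup Ds
  have hD : D.FG := Subalgebra.FG.sup hD₁
    (Finset.sup_induction Subalgebra.fg_bot (fun a ha b hb => Subalgebra.FG.sup ha hb) fun k _ => hDs k)
  let q₂ := PrimeSpectrum.comap (Algebra.TensorProduct.map D.val (AlgHom.id R P)).toRingHom q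
  let j := Subalgebra.inclusion (le_sup_left : D₁ ≤ D)
  have hq₁ : q₂.asIdeal.comap (Algebra.TensorProduct.map j (AlgHom.id R P)) =
      q.asIdeal.comap (Algebra.TensorProduct.map D₁.val (AlgHom.id R P)) := by
    ext z
    show Algebra.TensorProduct.map D.val (AlgHom.id R P)
      (Algebra.TensorProduct.map j (AlgHom.id R P) z) ∈ q.asIdeal ↔ _
    rw [← AlgHom.comp_apply, ← Algebra.TensorProduct.map_comp, AlgHom.id_comp]
    rfl
  refine ⟨D, hD, injFlatAt_bc_of_kills j u q₂ ?_ fun k hk => ?_⟩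
  · convert hflat₁
  · have hk' : k ∈ Submodule.span (D₁ ⊗[R] P) (s : Set (D₁ ⊗[R] M')) := hs.symm ▸ hk
    clear hk
    induction hk' using Submodule.span_induction with
    | mem k hks =>
      have hle' : Ds ⟨k, hks⟩ ≤ D := (Finset.le_sup (Finset.mem_univ _)).trans le_sup_right
      refine ⟨Algebra.TensorProduct.map (Subalgebra.inclusion hle') (AlgHom.id R P) (c ⟨k, hks⟩),
        ?_, ?_⟩
      · show Algebra.TensorProduct.map D.val (AlgHom.id R P)
          (Algebra.TensorProduct.map (Subalgebra.inclusion hle') (AlgHom.id R P) (c ⟨k, hks⟩)) ∉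
            q.asIdeal
        rw [← AlgHom.comp_apply, ← Algebra.TensorProduct.map_comp, AlgHom.id_comp]
        exact hc ⟨k, hks⟩
      · have := congrArg ((Subalgebra.inclusion hle').toLinearMap.rTensor M') (hck ⟨k, hks⟩)
        rw [map_zero, map_smul_rTensor, ← LinearMap.rTensor_comp_apply] at this
        exact this
    | zero => exact ⟨1, q₂.asIdeal.primeCompl.one_mem, by simp only [map_zero, smul_zero]⟩
    | add a b _ _ ha hb =>
      obtain ⟨ca, hca, ha⟩ := ha
      obtain ⟨cb, hcb, hb⟩ := hb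
      refine ⟨ca * cb, q₂.asIdeal.primeCompl.mul_mem hca hcb, ?_⟩
      rw [map_add, smul_add, mul_smul ca cb, mul_smul ca cb, hb, smul_comm ca cb, ha,
        smul_zero, smul_zero, add_zero]
    | smul r a _ ha =>
      obtain ⟨ca, hca, ha⟩ := ha
      exact ⟨ca, hca, by rw [map_smul_rTensor, smul_comm, ha, smul_zero]⟩

end BC

end Groth.Agent.EGA43.InjFibre
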