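import Groth.Agent.EGA43.Cons.FibFlat
import Groth.Agent.EGA43.Cons.FibFlatLocus
import Groth.Agent.FlatCrit.Inj
import Mathlib.RingTheory.Flat.Equalizer
import Mathlib.LinearAlgebra.TensorProduct.Quotient
import Mathlib.Algebra.Module.LocalizedModule.Exact

/-!
# Maps that are injective with flat cokernel at a prime / injective on the fibre (EGA IV 11.3.7)

`u : M' → M` a map of `B`-modules, `q` a prime of `B`, `p = q ∩ A`.
`FibInjAt A B u q`: `u ⊗ κ(p)` is injective at `q`.
`UInjAt A B u q`: `u ⊗ X` is injective at `q` for every `A`-module `X`.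
-/

set_option autoImplicit false
set_option backward.isDefEq.respectTransparency false

universe u

open TensorProduct Function

namespace Groth.Agent.EGA43.InjFibre

section Def

variable (A B : Type u) [CommRing A] [CommRing B] [Algebra A B] {M' M : Type u} [AddCommGroup M']
  [Module B M'] [Module A M'] [IsScalarTower A B M'] [AddCommGroup M] [Module B M] [Module A M]
  [IsScalarTower A B M]

/-- `u ⊗ κ(p)` is injective at `q`. -/
def FibInjAt (u : M' →ₗ[B] M) (q : PrimeSpectrum B) : Prop :=
  ∀ m : M', (∃ c ∉ q.asIdeal, c • u m ∈ q.asIdeal.comap (algebraMap A B) • (⊤ : Submodule A M)) →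
    ∃ c ∉ q.asIdeal, c • m ∈ q.asIdeal.comap (algebraMap A B) • (⊤ : Submodule A M')

/-- `u ⊗ X` is injective at `q` for every `X`. -/
def UInjAt (u : M' →ₗ[B] M) (q : PrimeSpectrum B) : Prop :=
  ∀ ⦃X : Type u⦄ [AddCommGroup X] [Module A X] (z : M' ⊗[A] X),
    AlgebraTensorModule.rTensor A X u z = 0 → ∃ c ∉ q.asIdeal, c • z = 0

variable {A B} {u : M' →ₗ[B] M} {q : PrimeSpectrum B}

theorem tmul_one_quotient_eq_zero_iff {N : Type u} [AddCommGroup N] [Module A N] (p : Ideal A)
    (n : N) : n ⊗ₜ[A] (1 : A ⧸ p) = 0 ↔ n ∈ p • (⊤ : Submodule A N) := by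
  rw [← (TensorProduct.comm A N (A ⧸ p)).map_eq_zero_iff, TensorProduct.comm_tmul,
    ← (TensorProduct.quotTensorEquivQuotSMul N p).map_eq_zero_iff]
  rw [show (1 : A ⧸ p) = Ideal.Quotient.mk p 1 from rfl,
    TensorProduct.quotTensorEquivQuotSMul_mk_tmul, one_smul, Submodule.Quotient.mk_eq_zero]

theorem UInjAt.fibInjAt (h : UInjAt A B u q) : FibInjAt A B u q := by
  rintro m ⟨c, hc, hcm⟩
  obtain ⟨d, hd, hdz⟩ := h ((c • m) ⊗ₜ[A] (1 : A ⧸ q.asIdeal.comap (algebraMap A B))) (by
    rw [AlgebraTensorModule.rTensor_tmul, map_smul, tmul_one_quotient_eq_zero_iff]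
    exact hcm)
  refine ⟨d * c, q.asIdeal.primeCompl.mul_mem hd hc, ?_⟩
  rw [TensorProduct.smul_tmul', tmul_one_quotient_eq_zero_iff] at hdz
  rwa [mul_smul]

theorem UInjAt.exists_smul_eq_zero (h : UInjAt A B u q) {m : M'} (hm : u m = 0) :
    ∃ c ∉ q.asIdeal, c • m = 0 := by
  obtain ⟨c, hc, hcz⟩ := h (m ⊗ₜ[A] (1 : A)) (by
    rw [AlgebraTensorModule.rTensor_tmul, hm, zero_tmul])
  refine ⟨c, hc, (TensorProduct.rid A M').symm.injective ?_⟩
  rw [map_zero, TensorProduct.rid_symm_apply, ← hcz]
  rfl

theorem UInjAt.injective_localized (h : UInjAt A B u q) :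
    Injective (LocalizedModule.map q.asIdeal.primeCompl u) := by
  rw [injective_iff_map_eq_zero]
  intro x hx
  induction x using LocalizedModule.induction_on with
  | h m s =>
    rw [LocalizedModule.map_mk] at hx
    obtain ⟨t, ht⟩ := LocalizedModule.mk_eq.1 (hx.trans (LocalizedModule.zero_mk 1).symm)
    simp only [one_smul, smul_zero] at ht
    obtain ⟨c, hc, hcm⟩ := h.exists_smul_eq_zero (m := t • m) (by
      rw [Submonoid.smul_def, map_smul]; exact ht)
    rw [← LocalizedModule.zero_mk 1, LocalizedModule.mk_eq]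
    refine ⟨⟨c, hc⟩ * t, ?_⟩
    simp only [one_smul, smul_zero, mul_smul]
    exact hcm

/-- The cokernel of a map that is universally injective at `q` into a flat module is flat at `q`. -/
theorem UInjAt.flat_coker (h : UInjAt A B u q)
    (hM : Module.Flat A (LocalizedModule q.asIdeal.primeCompl M)) {N : Type u} [AddCommGroup N]
    [Module B N] [Module A N] [IsScalarTower A B N] (g : M →ₗ[B] N) (hg : Surjective g)
    (hex : Exact u g) : Module.Flat A (LocalizedModule q.asIdeal.primeCompl N) := by
  refine (@Module.Flat.iff_rTensor_preserves_injective_linearMap A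
    (LocalizedModule q.asIdeal.primeCompl N) _ _ _).2 fun X Y _ _ _ _ i hi =>
      FlatOpen.rTensor_injective_localized i _ fun w hw => ?_
  let gX := AlgebraTensorModule.rTensor A X g
  let gY := AlgebraTensorModule.rTensor A Y g
  have hgX : Surjective gX := LinearMap.rTensor_surjective X (g := g.restrictScalars A) hg
  obtain ⟨v, rfl⟩ := hgX w
  have hnat : ∀ z, i.lTensor N (gX z) = gY (i.lTensor M z) := fun z => by
    induction z using TensorProduct.induction_on with
    | zero => simp
    | add a b ha hb => simp only [map_add, ha, hb]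
    | tmul m x => simp [gX, gY]
  have hexY : Exact ((u.restrictScalars A).rTensor Y) ((g.restrictScalars A).rTensor Y) :=
    rTensor_exact Y (f := u.restrictScalars A) (g := g.restrictScalars A) hex hg
  obtain ⟨t, ht⟩ := (hexY (i.lTensor M v)).1 (by
    show gY (i.lTensor M v) = 0
    rw [← hnat]
    exact hw)
  -- modulo the image of `i`
  let π : Y →ₗ[A] Y ⧸ LinearMap.range i := (LinearMap.range i).mkQ
  obtain ⟨c, hc, hct⟩ := h (π.lTensor M' t) (by
    have : ∀ s, AlgebraTensorModule.rTensor A (Y ⧸ LinearMap.range i) u (π.lTensor M' s) =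
        π.lTensor M ((u.restrictScalars A).rTensor Y s) := fun s => by
      induction s using TensorProduct.induction_on with
      | zero => simp
      | add a b ha hb => simp only [map_add, ha, hb]
      | tmul m x => simp
    rw [this, ht, ← LinearMap.comp_apply, ← LinearMap.lTensor_comp, LinearMap.range_mkQ_comp,
      LinearMap.lTensor_zero, LinearMap.zero_apply])
  have hct' : π.lTensor M' (c • t) = 0 := by
    rw [show π.lTensor M' (c • t) = AlgebraTensorModule.lTensor B M' π (c • t) from rfl, map_smul]
    exact hct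
  obtain ⟨t', ht'⟩ := ((lTensor_exact M' (LinearMap.exact_map_mkQ_range i)
    (Submodule.mkQ_surjective _)) (c • t)).1 hct'
  let uX := AlgebraTensorModule.rTensor A X u
  have hnat' : ∀ z, i.lTensor M (uX z) = AlgebraTensorModule.rTensor A Y u (i.lTensor M' z) :=
    fun z => by
      induction z using TensorProduct.induction_on with
      | zero => simp
      | add a b ha hb => simp only [map_add, ha, hb]
      | tmul m x => simp [uX]
  obtain ⟨d, hd, hdz⟩ := FlatOpen.exists_smul_eq_zero_of_flat i hi q.asIdeal.primeCompl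
    (c • v - uX t') (by
      show AlgebraTensorModule.lTensor B M i (c • v - uX t') = 0
      rw [map_sub, map_smul]
      show c • i.lTensor M v - i.lTensor M (uX t') = 0
      rw [hnat', ht', map_smul]
      show c • i.lTensor M v - c • (u.restrictScalars A).rTensor Y t = 0
      rw [ht, sub_self])
  refine ⟨d * c, q.asIdeal.primeCompl.mul_mem hd hc, ?_⟩
  have hgu : ∀ z, gX (uX z) = 0 := fun z => by
    induction z using TensorProduct.induction_on with
    | zero => simp
    | add a b ha hb => simp only [map_add, ha, hb, add_zero]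
    | tmul m x => simp [gX, uX, hex.apply_apply_eq_zero]
  have := congrArg gX hdz
  rw [map_smul, map_sub, map_smul, hgu, sub_zero, map_zero, ← mul_smul] at this
  exact this

theorem uInjAt_of_exact_localized (hinj : Injective (LocalizedModule.map q.asIdeal.primeCompl u))
    {P : Type u} [AddCommGroup P] [Module A P] [Module.Flat A P]
    (gq : LocalizedModule q.asIdeal.primeCompl M →ₗ[A] P) (hgq : Surjective gq)
    (hexq : Exact ((LocalizedModule.map q.asIdeal.primeCompl u).restrictScalars A) gq) :
    UInjAt A B u q := by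
  intro X _ _ z hz
  let S := q.asIdeal.primeCompl
  let uq : LocalizedModule S M' →ₗ[A] LocalizedModule S M :=
    (LocalizedModule.map S u).restrictScalars A
  have hinjX : Injective (uq.lTensor X) :=
    LinearMap.lTensor_injective_of_exact_of_flat gq hgq uq hinj hexq X
  have hnat : ∀ w, uq.lTensor X (TensorProduct.comm A _ X
        (AlgebraTensorModule.rTensor A X (LocalizedModule.mkLinearMap S M') w)) =
      TensorProduct.comm A _ X (AlgebraTensorModule.rTensor A X (LocalizedModule.mkLinearMap S M)
        (AlgebraTensorModule.rTensor A X u w)) := fun w => by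
    induction w using TensorProduct.induction_on with
    | zero => simp
    | add a b ha hb => simp only [map_add, ha, hb]
    | tmul m x => simp [uq, LocalizedModule.map_mk, LocalizedModule.mkLinearMap_apply]
  have h0 := hnat z
  rw [hz, map_zero, map_zero] at h0
  have h1 : AlgebraTensorModule.rTensor A X (LocalizedModule.mkLinearMap S M') z = 0 :=
    (TensorProduct.comm A _ X).injective (hinjX (by rw [h0, map_zero, map_zero]))
  obtain ⟨c, hc⟩ := (IsLocalizedModule.eq_zero_iff S
    (AlgebraTensorModule.rTensor A X (LocalizedModule.mkLinearMap S M'))).1 h1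
  exact ⟨c.1, c.2, hc⟩

/-- A map injective with flat cokernel at `q` is universally injective at `q`. -/
theorem uInjAt_of_flat_coker (hinj : Injective (LocalizedModule.map q.asIdeal.primeCompl u))
    {N : Type u} [AddCommGroup N] [Module B N] [Module A N] [IsScalarTower A B N] (g : M →ₗ[B] N)
    (hg : Surjective g) (hex : Exact u g)
    (hN : Module.Flat A (LocalizedModule q.asIdeal.primeCompl N)) : UInjAt A B u q :=
  uInjAt_of_exact_localized hinj ((LocalizedModule.map q.asIdeal.primeCompl g).restrictScalars A)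
    (LocalizedModule.map_surjective _ g hg) (LocalizedModule.map_exact _ u g hex)

end Def

section BaseChange

variable {A A' B B' : Type u} [CommRing A] [CommRing A'] [CommRing B] [CommRing B'] [Algebra A A']
  [Algebra A B] [Algebra A' B'] [Algebra B B'] [Algebra A B'] [IsScalarTower A A' B']
  [IsScalarTower A B B']
  {M' M N' N : Type u} [AddCommGroup M'] [Module B M'] [Module A M'] [IsScalarTower A B M']
  [AddCommGroup M] [Module B M] [Module A M] [IsScalarTower A B M]
  [AddCommGroup N'] [Module B' N'] [Module A' N'] [IsScalarTower A' B' N'] [Module A N']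
  [IsScalarTower A A' N']
  [AddCommGroup N] [Module B' N] [Module A' N] [IsScalarTower A' B' N] [Module A N]
  [IsScalarTower A A' N]
  {μ' : M' →ₗ[A] N'} (hμ' : IsBaseChange A' μ')
  (hμ'B : ∀ (b : B) m, μ' (b • m) = algebraMap B B' b • μ' m)
  {μ : M →ₗ[A] N} {u : M' →ₗ[B] M} {v : N' →ₗ[B'] N} (huv : ∀ m, v (μ' m) = μ (u m))
  {q' : PrimeSpectrum B'}

include hμ' hμ'B huv in
/-- Universal injectivity goes up along base changes. -/
theorem UInjAt.baseChange (hμ : IsBaseChange A' μ)
    (h : UInjAt A B u (PrimeSpectrum.comap (algebraMap B B') q')) : UInjAt A' B' v q' := by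
  intro X _ _ z hz
  let _ := Module.compHom X (algebraMap A A')
  have : IsScalarTower A A' X := .of_algebraMap_smul fun _ _ => rfl
  obtain ⟨z, rfl⟩ := (Cons.bcTensor hμ' X).surjective z
  have hnat : ∀ w, AlgebraTensorModule.rTensor A' X v (Cons.bcTensor hμ' X w) =
      Cons.bcTensor hμ X (AlgebraTensorModule.rTensor A X u w) := fun w => by
    induction w using TensorProduct.induction_on with
    | zero => simp
    | add a b ha hb => simp only [map_add, ha, hb]
    | tmul m x => simp [Cons.bcTensor_tmul, huv]
  obtain ⟨c, hc, hcz⟩ := h z ((Cons.bcTensor hμ X).injective (by rw [← hnat, hz, map_zero]))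
  refine ⟨algebraMap B B' c, hc, ?_⟩
  rw [show algebraMap B B' c • Cons.bcTensor hμ' X z = Cons.bcTensor hμ' X (c • z) from ?_, hcz,
    map_zero]
  clear hz hnat hcz
  induction z using TensorProduct.induction_on with
  | zero => simp
  | add a b ha hb => simp only [smul_add, map_add, ha, hb]
  | tmul m x => rw [TensorProduct.smul_tmul', Cons.bcTensor_tmul, Cons.bcTensor_tmul, hμ'B,
      TensorProduct.smul_tmul']

variable [Algebra.IsPushout A A' B B']

set_option maxHeartbeats 800000 in
include hμ' hμ'B huv in
/-- Fibrewise injectivity goes down along base changes. -/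
theorem FibInjAt.of_baseChange (hμB : ∀ (b : B) m, μ (b • m) = algebraMap B B' b • μ m)
    (h : FibInjAt A' B' v q') : FibInjAt A B u (PrimeSpectrum.comap (algebraMap B B') q') := by
  rintro m ⟨c₀, hc₀, hc₀m⟩
  let p : Ideal A := (q'.asIdeal.comap (algebraMap A' B')).comap (algebraMap A A')
  let p' : Ideal A' := q'.asIdeal.comap (algebraMap A' B')
  have hp : (PrimeSpectrum.comap (algebraMap B B') q').asIdeal.comap (algebraMap A B) = p := by
    rw [PrimeSpectrum.comap_asIdeal, Ideal.comap_comap, ← IsScalarTower.algebraMap_eq,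
      IsScalarTower.algebraMap_eq A A' B', ← Ideal.comap_comap]
  rw [hp] at hc₀m ⊢
  have : p'.LiesOver p := ⟨rfl⟩
  have hup : ∀ {L L' : Type u} [AddCommGroup L] [Module A L] [AddCommGroup L'] [Module A' L']
      [Module A L'] [IsScalarTower A A' L'] (f : L →ₗ[A] L') (l : L),
      l ∈ p • (⊤ : Submodule A L) → f l ∈ p' • (⊤ : Submodule A' L') := fun f l hl => by
    refine Submodule.smul_induction_on hl (fun a ha x _ => ?_) fun x y hx hy => ?_
    · rw [map_smul, ← algebraMap_smul A' a]
      exact Submodule.smul_mem_smul (show algebraMap A A' a ∈ p' from ha) trivial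
    · rw [map_add]; exact add_mem hx hy
  obtain ⟨c', hc', hc'm⟩ := h (μ' (c₀ • m)) ⟨1, q'.asIdeal.primeCompl.one_mem, by
    rw [one_smul, huv, map_smul]
    exact hup μ _ hc₀m⟩
  clear hc₀m
  suffices H : ∃ c ∉ (PrimeSpectrum.comap (algebraMap B B') q').asIdeal,
      c • (c₀ • m) ∈ p • (⊤ : Submodule A M') by
    obtain ⟨c, hc, hcm⟩ := H
    exact ⟨c * c₀, fun hm => ((PrimeSpectrum.comap (algebraMap B B') q').isPrime.mem_or_mem hm).elim
      hc hc₀, by rwa [mul_smul]⟩
  generalize c₀ • m = n at hc'm ⊢
  by_contra hcon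
  push Not at hcon
  let K := p'.ResidueField
  let P : Submodule A M' := p • (⊤ : Submodule A M')
  let W := M' ⧸ P
  let I : Ideal B :=
    { carrier := {c : B | c • n ∈ P}
      zero_mem' := by simp
      add_mem' := fun {a b} ha hb => by
        show (a + b) • n ∈ P
        rw [add_smul]; exact add_mem ha hb
      smul_mem' := fun b c (hc : c • n ∈ p • (⊤ : Submodule A M')) => by
        show (b * c) • n ∈ P
        rw [mul_smul]
        refine Submodule.smul_induction_on hc (fun a ha x _ => ?_) fun x y hx hy => ?_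
        · rw [smul_comm]
          exact Submodule.smul_mem_smul ha trivial
        · rw [smul_add]; exact add_mem hx hy }
  have hI : I ≤ (PrimeSpectrum.comap (algebraMap B B') q').asIdeal := fun c hc =>
    by_contra fun h => hcon c h hc
  let jz : (B ⧸ I) →ₗ[A] W := (I.restrictScalars A).liftQ
    (P.mkQ ∘ₗ ((LinearMap.toSpanSingleton B M' n).restrictScalars A))
    (fun c hc => (Submodule.Quotient.mk_eq_zero _).2 hc) ∘ₗ
    (Submodule.Quotient.restrictScalarsEquiv A I).symm.toLinearMap
  have hjz₀ : ∀ c, jz (Ideal.Quotient.mk I c) = Submodule.Quotient.mk (c • n) := fun c => rfl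
  have hjz : Injective jz := (injective_iff_map_eq_zero jz).2 fun x hx => by
    obtain ⟨c, rfl⟩ := Ideal.Quotient.mk_surjective x
    rw [hjz₀, Submodule.Quotient.mk_eq_zero] at hx
    exact Ideal.Quotient.eq_zero_iff_mem.2 hx
  have hjW : Injective (jz.lTensor K) := Cons.lTensor_residueField_injective p p' jz
    (fun a ha w => by
      obtain ⟨x, rfl⟩ := Submodule.Quotient.mk_surjective _ w
      rw [← Submodule.Quotient.mk_smul, Submodule.Quotient.mk_eq_zero]
      exact Submodule.smul_mem_smul ha trivial) hjz
  -- `κ(p') ⊗ W → N' ⊗ κ(p')`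
  have hzero : ∀ w : K ⊗[A] P, P.subtype.lTensor K w = 0 := fun w => by
    induction w using TensorProduct.induction_on with
    | zero => simp
    | add a b ha hb => rw [map_add, ha, hb, add_zero]
    | tmul k x =>
      rw [LinearMap.lTensor_tmul]
      refine Submodule.smul_induction_on (p := fun y : M' => k ⊗ₜ[A] y = 0)
        (show P.subtype x ∈ p • (⊤ : Submodule A M') from x.2) (fun a ha y _ => ?_)
        fun y z hy hz => by rw [tmul_add, hy, hz, add_zero]
      rw [← TensorProduct.smul_tmul, Algebra.smul_def, IsScalarTower.algebraMap_apply A A' K,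
        Ideal.algebraMap_residueField_eq_zero.2 (show algebraMap A A' a ∈ p' from ha), zero_mul,
        zero_tmul]
  let eW : K ⊗[A] M' ≃ₗ[A] K ⊗[A] W := LinearEquiv.ofBijective (P.mkQ.lTensor K)
    ⟨(injective_iff_map_eq_zero _).2 fun w hw => by
      obtain ⟨w', rfl⟩ := (lTensor_exact K (LinearMap.exact_subtype_mkQ P) P.mkQ_surjective w).1 hw
      exact hzero w', LinearMap.lTensor_surjective K P.mkQ_surjective⟩
  let Ω : K ⊗[A] W →+ N' ⊗[A'] K := ((Cons.bcTensor hμ' K).toAddMonoidHom.comp
    (TensorProduct.comm A K M').toAddMonoidHom).comp eW.symm.toAddEquiv.toAddMonoidHom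
  have hΩ : Injective Ω := ((Cons.bcTensor hμ' K).injective.comp
    (TensorProduct.comm A K M').injective).comp eW.symm.injective
  let π : B' →ₐ[A] K ⊗[A] (B ⧸ I) :=
    (Algebra.TensorProduct.map (IsScalarTower.toAlgHom A A' K) (Ideal.Quotient.mkₐ A I)).comp
      ((Algebra.IsPushout.equiv A A' B B').symm.toAlgHom.restrictScalars A)
  have hπ : ∀ d : B', Ω (jz.lTensor K (π d)) = (d • μ' n) ⊗ₜ[A'] (1 : K) := fun d => by
    obtain ⟨t, rfl⟩ := (Algebra.IsPushout.equiv A A' B B').surjective d
    induction t using TensorProduct.induction_on with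
    | zero => simp
    | add a b ha hb => simp only [map_add, add_smul, add_tmul, ha, hb]
    | tmul a c =>
      have e1 : π (Algebra.IsPushout.equiv A A' B B' (a ⊗ₜ c)) =
          algebraMap A' K a ⊗ₜ[A] Ideal.Quotient.mk I c := by simp [π]
      rw [e1, LinearMap.lTensor_tmul, Algebra.IsPushout.equiv_tmul, hjz₀, mul_smul, ← hμ'B]
      show Cons.bcTensor hμ' K (TensorProduct.comm A K M'
        (eW.symm (algebraMap A' K a ⊗ₜ[A] Submodule.Quotient.mk (c • n)))) = _
      rw [show algebraMap A' K a ⊗ₜ[A] (Submodule.Quotient.mk (c • n) : W) =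
        eW (algebraMap A' K a ⊗ₜ[A] (c • n)) from rfl, LinearEquiv.symm_apply_apply,
        TensorProduct.comm_tmul]
      rw [Cons.bcTensor_tmul, algebraMap_smul, TensorProduct.smul_tmul, Algebra.smul_def, mul_one]
  have hπc : π c' = 0 := hjW (hΩ (by
    rw [hπ, map_zero, map_zero]
    generalize c' • μ' n = w at hc'm ⊢
    refine Submodule.smul_induction_on hc'm (fun a ha y _ => ?_) fun y z hy hz => by
      rw [add_tmul, hy, hz, add_zero]
    rw [TensorProduct.smul_tmul, Algebra.smul_def,
      Ideal.algebraMap_residueField_eq_zero.2 (show a ∈ p' from ha), zero_mul, tmul_zero]))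
  have : q'.asIdeal.LiesOver p' := ⟨rfl⟩
  let k' : K →ₐ[A] q'.asIdeal.ResidueField :=
    (Ideal.ResidueField.mapₐ p' q'.asIdeal (IsScalarTower.toAlgHom A A' B') rfl)
  let l : (B ⧸ I) →ₐ[A] q'.asIdeal.ResidueField :=
    Ideal.Quotient.liftₐ I ((IsScalarTower.toAlgHom A B' q'.asIdeal.ResidueField).comp
      (IsScalarTower.toAlgHom A B B')) fun c hc =>
        Ideal.algebraMap_residueField_eq_zero.2 (hI hc)
  let ev := Algebra.TensorProduct.lift k' l fun _ _ => Commute.all _ _
  have hev : ∀ d, ev (π d) = algebraMap B' q'.asIdeal.ResidueField d := fun d => by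
    obtain ⟨t, rfl⟩ := (Algebra.IsPushout.equiv A A' B B').surjective d
    induction t using TensorProduct.induction_on with
    | zero => simp
    | add a b ha hb => simp only [map_add, ha, hb]
    | tmul a c =>
      have e1 : π (Algebra.IsPushout.equiv A A' B B' (a ⊗ₜ c)) =
          algebraMap A' K a ⊗ₜ[A] Ideal.Quotient.mk I c := by simp [π]
      rw [e1, Algebra.IsPushout.equiv_tmul, map_mul, Algebra.TensorProduct.lift_tmul]
      congr 1
      exact Ideal.ResidueField.map_algebraMap _ _ _ _ a
  exact hc' (Ideal.algebraMap_residueField_eq_zero.1 (by rw [← hev, hπc, map_zero]))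

end BaseChange

end Groth.Agent.EGA43.InjFibre
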