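import Groth.Agent.EGA43.InjFibre.InjLimitScheme
import Groth.Agent.EGA43.DvrCrit.Main
import Groth.Agent.Coherent.FinitePres
import Groth.Agent.Coherent.QcohOps
import Groth.Agent.EGA43.InjFibre.Scheme

/-!
# EGA IV 11.2.6: flatness at a point descends to a stage
-/

universe u

set_option autoImplicit false
set_option backward.isDefEq.respectTransparency false

open CategoryTheory CategoryTheory.Limits AlgebraicGeometry TopologicalSpace
open Groth.Agent.Coherent Groth.Agent.EGA43.InjCokerFlat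

namespace Groth.Agent.EGA43.InjFibre

variable {X : Scheme.{u}}

theorem isZero_freeMod_pempty (X : Scheme.{u}) : IsZero (freeMod X PEmpty.{u + 1}) := by
  rw [IsZero.iff_id_eq_zero]
  exact freeMod_hom_ext fun i => i.elim

theorem isFP_of_isZero {M : X.Modules} (h : IsZero M) : CohB1.IsFP M := by
  have hM : IsZero (M.restrict (⊤ : X.Opens).ι) := (Scheme.Modules.restrictFunctor (⊤ : X.Opens).ι).map_isZero h
  let π : freeMod ((⊤ : X.Opens) : Scheme.{u}) PEmpty.{u + 1} ⟶ M.restrict (⊤ : X.Opens).ι := 0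
  have : Epi π := ⟨fun a b _ => hM.eq_of_src a b⟩
  have hk : IsZero (kernel π) := by
    rw [IsZero.iff_id_eq_zero, ← cancel_mono (kernel.ι π)]
    exact (isZero_freeMod_pempty _).eq_of_tgt _ _
  let ρ : freeMod ((⊤ : X.Opens) : Scheme.{u}) PEmpty.{u + 1} ⟶ kernel π := 0
  have : Epi ρ := ⟨fun a b _ => hk.eq_of_src a b⟩
  exact isFP_of_finite_presentations M (fun _ : PUnit.{u + 1} => (⊤ : X.Opens))
    (by rw [IsOpenCover, iSup_const]) (fun _ => presOfEpis π ρ) fun _ => presOfEpis_isFinite π ρ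

variable {I : Type u} [SmallCategory I] [IsCofiltered I] {D : I ⥤ Scheme.{u}} {c : Cone D} {i₀ : I}
  {X₀ Y₀ : Scheme.{u}} {f₀ : X₀ ⟶ Y₀} {g₀ : Y₀ ⟶ D.obj i₀} [LocallyOfFinitePresentation f₀]

/-- Flatness at a point of a limit holds at some stage. -/
theorem isFlatOverAt_iff_exists_stage [∀ (i j : I) (φ : i ⟶ j), IsAffineHom (D.map φ)] (hc : IsLimit c)
    (F₀ : X₀.Modules) [Coh.IsQCoh F₀] (hF₀ : CohB1.IsFP F₀) {X Y : Scheme.{u}} (f : X ⟶ Y) (g : Y ⟶ c.pt)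
    (qY : Y ⟶ Y₀) (qX : X ⟶ X₀) (hY : IsPullback qY g g₀ (c.π.app i₀)) (hX : IsPullback qX f f₀ qY) (x : X) :
    FlatMod.IsFlatOverAt f ((Scheme.Modules.pullback qX).obj F₀) x ↔
      ∃ (i : I) (φ : i ⟶ i₀) (Xi Yi : Scheme.{u}) (fi : Xi ⟶ Yi) (gi : Yi ⟶ D.obj i)
        (pY : Yi ⟶ Y₀) (pX : Xi ⟶ X₀) (vY : Y ⟶ Yi) (vX : X ⟶ Xi),
        IsPullback pY gi g₀ (D.map φ) ∧ IsPullback pX fi f₀ pY ∧
          vY ≫ pY = qY ∧ vY ≫ gi = g ≫ c.π.app i ∧ vX ≫ pX = qX ∧ vX ≫ fi = f ≫ vY ∧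
          FlatMod.IsFlatOverAt fi ((Scheme.Modules.pullback pX).obj F₀) (vX x) := by
  let Z₀ := freeMod X₀ PEmpty.{u + 1}
  have hZ := isZero_freeMod_pempty X₀
  have : Coh.IsQCoh Z₀ := isQCoh_of_isZero hZ
  let u₀ : Z₀ ⟶ F₀ := 0
  have he : ∀ {W : Scheme.{u}} (r : W ⟶ X₀), Nonempty (cokernel ((Scheme.Modules.pullback r).map u₀) ≅
      (Scheme.Modules.pullback r).obj F₀) := fun r =>
    ⟨cokernelIsoOfEq ((Scheme.Modules.pullback r).map_zero _ _) ≪≫ cokernelZeroIsoTarget⟩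
  have hinj : ∀ {W : Scheme.{u}} (r : W ⟶ X₀) (w : W),
      Function.Injective (stalkMapOf ((Scheme.Modules.pullback r).map u₀) w) := fun r w a b _ => by
    have hz : IsZero ((DerSch.stalkFunctor _ w).obj ((Scheme.Modules.pullback r).obj Z₀)) :=
      (DerSch.stalkFunctor _ w).map_isZero ((Scheme.Modules.pullback r).map_isZero hZ)
    exact @Subsingleton.elim _ (ModuleCat.subsingleton_of_isZero hz) a b
  constructor
  · intro h
    obtain ⟨e⟩ := he qX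
    obtain ⟨i, φ, Xi, Yi, fi, gi, pY, pX, vY, vX, h1, h2, h3, h4, h5, h6, -, h8⟩ :=
      exists_stage_of_inj_flat (h₀ := u₀) hc (isFP_of_isZero hZ) hF₀ hY hX x
        ⟨hinj qX x, DvrCrit.isFlatOverAt_of_iso f e.symm x h⟩
    obtain ⟨ei⟩ := he pX
    exact ⟨i, φ, Xi, Yi, fi, gi, pY, pX, vY, vX, h1, h2, h3, h4, h5, h6,
      DvrCrit.isFlatOverAt_of_iso fi ei _ h8⟩
  · rintro ⟨i, φ, Xi, Yi, fi, gi, pY, pX, vY, vX, h1, h2, h3, -, h5, h6, h7⟩
    obtain ⟨ei⟩ := he pX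
    obtain ⟨e⟩ := he qX
    exact DvrCrit.isFlatOverAt_of_iso f e x (inj_flat_of_stage (h₀ := u₀) hc hY hX x h1 h2 h3 h5 h6
      ⟨hinj pX (vX x), DvrCrit.isFlatOverAt_of_iso fi ei.symm _ h7⟩).2

end Groth.Agent.EGA43.InjFibre
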