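import Groth.Agent.EGA43.InjFibre.Basic
import Groth.Agent.EGA43.Cons.FibreCrit

/-!
# Maps injective with flat cokernel at a prime: base change and transport (EGA IV 11.3.7)
-/

set_option autoImplicit false
set_option backward.isDefEq.respectTransparency false

universe u

open TensorProduct Function

namespace Groth.Agent.EGA43.InjFibre

/-- `u` is injective with flat cokernel at `q`. -/
def InjFlatAt (A B : Type u) [CommRing A] [CommRing B] [Algebra A B] {M' M : Type u}
    [AddCommGroup M'] [Module B M'] [AddCommGroup M] [Module B M] [Module A M] [IsScalarTower A B M]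
    (u : M' →ₗ[B] M) (q : PrimeSpectrum B) : Prop :=
  (∀ m, u m = 0 → ∃ c ∉ q.asIdeal, c • m = 0) ∧
    Module.Flat A (LocalizedModule q.asIdeal.primeCompl (M ⧸ LinearMap.range u))

theorem injective_localized_of_forall {B M' M : Type u} [CommRing B] [AddCommGroup M'] [Module B M']
    [AddCommGroup M] [Module B M] (u : M' →ₗ[B] M) (q : PrimeSpectrum B)
    (h : ∀ m, u m = 0 → ∃ c ∉ q.asIdeal, c • m = 0) :
    Injective (LocalizedModule.map q.asIdeal.primeCompl u) := by
  rw [injective_iff_map_eq_zero]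
  intro x hx
  induction x using LocalizedModule.induction_on with
  | h m s =>
    rw [LocalizedModule.map_mk] at hx
    obtain ⟨t, ht⟩ := LocalizedModule.mk_eq.1 (hx.trans (LocalizedModule.zero_mk 1).symm)
    simp only [one_smul, smul_zero] at ht
    obtain ⟨c, hc, hcm⟩ := h (t • m) (by rw [Submonoid.smul_def, map_smul]; exact ht)
    rw [← LocalizedModule.zero_mk 1, LocalizedModule.mk_eq]
    refine ⟨⟨c, hc⟩ * t, ?_⟩
    simp only [one_smul, smul_zero, mul_smul]
    exact hcm

theorem InjFlatAt.uInjAt {A B M' M : Type u} [CommRing A] [CommRing B] [Algebra A B]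
    [AddCommGroup M'] [Module B M'] [Module A M'] [IsScalarTower A B M'] [AddCommGroup M]
    [Module B M] [Module A M] [IsScalarTower A B M] {u : M' →ₗ[B] M} {q : PrimeSpectrum B}
    (h : InjFlatAt A B u q) : UInjAt A B u q :=
  uInjAt_of_flat_coker (injective_localized_of_forall u q h.1) (LinearMap.range u).mkQ
    (Submodule.mkQ_surjective _) (LinearMap.exact_map_mkQ_range u) h.2

section BaseChange

variable {A A' B B' : Type u} [CommRing A] [CommRing A'] [CommRing B] [CommRing B'] [Algebra A A']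
  [Algebra A B] [Algebra A' B'] [Algebra B B'] [Algebra A B'] [IsScalarTower A A' B']
  [IsScalarTower A B B']
  {M' M N' N : Type u} [AddCommGroup M'] [Module B M'] [Module A M'] [IsScalarTower A B M']
  [AddCommGroup M] [Module B M] [Module A M] [IsScalarTower A B M]
  [AddCommGroup N'] [Module B' N'] [Module A' N'] [IsScalarTower A' B' N'] [Module A N']
  [IsScalarTower A A' N']
  [AddCommGroup N] [Module B' N] [Module A' N] [IsScalarTower A' B' N] [Module A N]
  [IsScalarTower A A' N] [IsScalarTower A B' N]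
  {μ' : M' →ₗ[A] N'} (hμ' : IsBaseChange A' μ')
  {μ : M →ₗ[A] N} (hμ : IsBaseChange A' μ)
  (hμB : ∀ (b : B) m, μ (b • m) = algebraMap B B' b • μ m)
  {u : M' →ₗ[B] M} {v : N' →ₗ[B'] N} (huv : ∀ m, v (μ' m) = μ (u m))

include hμ' hμ hμB huv in
/-- Cokernels commute with base change. -/
theorem exists_isBaseChange_coker :
    ∃ γ : (M ⧸ LinearMap.range u) →ₗ[A] (N ⧸ LinearMap.range v), IsBaseChange A' γ ∧
      (∀ m, γ (Submodule.Quotient.mk m) = Submodule.Quotient.mk (μ m)) ∧
      ∀ (b : B) c, γ (b • c) = algebraMap B B' b • γ c := by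
  let _ : Module B N := Module.compHom N (algebraMap B B')
  have : IsScalarTower B B' N := .of_algebraMap_smul fun _ _ => rfl
  have : IsScalarTower A B N := .of_algebraMap_smul fun a n => by
    show algebraMap B B' (algebraMap A B a) • n = a • n
    rw [← IsScalarTower.algebraMap_apply, IsScalarTower.algebraMap_apply A A' B', algebraMap_smul,
      algebraMap_smul]
  let μB : M →ₗ[B] N := { μ with map_smul' := hμB }
  let γ₀ : (M ⧸ LinearMap.range u) →ₗ[B] (N ⧸ LinearMap.range v) :=
    (LinearMap.range u).liftQ (((LinearMap.range v).mkQ.restrictScalars B) ∘ₗ μB) (by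
      rintro _ ⟨m, rfl⟩
      exact (Submodule.Quotient.mk_eq_zero _).2 ⟨μ' m, huv m⟩)
  have hγ₀ : ∀ m, γ₀ (Submodule.Quotient.mk m) = Submodule.Quotient.mk (μ m) := fun m => rfl
  let γ := γ₀.restrictScalars A
  refine ⟨γ, ?_, hγ₀, fun b c => (γ₀.map_smul b c).trans (algebraMap_smul B' b _).symm⟩
  let mkA : M →ₗ[A] (M ⧸ LinearMap.range u) := (LinearMap.range u).mkQ.restrictScalars A
  let uA : M' →ₗ[A] M := u.restrictScalars A
  have hmk : ∀ t, γ.liftBaseChange A' (mkA.lTensor A' t) =
      Submodule.Quotient.mk (hμ.equiv t) := fun t => by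
    induction t using TensorProduct.induction_on with
    | zero => simp
    | add x y hx hy => simp only [map_add, hx, hy, Submodule.Quotient.mk_add]
    | tmul a m =>
      rw [LinearMap.lTensor_tmul, LinearMap.liftBaseChange_tmul, IsBaseChange.equiv_tmul]
      exact (Submodule.Quotient.mk_smul _ a (μ m)).symm
  have hu : ∀ t, v (hμ'.equiv t) = hμ.equiv (uA.lTensor A' t) := fun t => by
    induction t using TensorProduct.induction_on with
    | zero => simp
    | add x y hx hy => simp only [map_add, hx, hy]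
    | tmul a m =>
      rw [LinearMap.lTensor_tmul, IsBaseChange.equiv_tmul, IsBaseChange.equiv_tmul,
        LinearMap.map_smul_of_tower, huv]
      rfl
  have hsurj := LinearMap.lTensor_surjective A' (g := mkA) (LinearMap.range u).mkQ_surjective
  refine IsBaseChange.of_equiv (LinearEquiv.ofBijective (γ.liftBaseChange A') ⟨?_, ?_⟩) fun c => by
    simp
  · rw [injective_iff_map_eq_zero]
    intro z hz
    obtain ⟨t, rfl⟩ := hsurj z
    rw [hmk, Submodule.Quotient.mk_eq_zero] at hz
    obtain ⟨n, hn⟩ := hz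
    obtain ⟨t', rfl⟩ := hμ'.equiv.surjective n
    rw [hu] at hn
    rw [← hμ.equiv.injective hn, ← LinearMap.comp_apply, ← LinearMap.lTensor_comp,
      show mkA ∘ₗ uA = 0 from LinearMap.ext fun m =>
        (Submodule.Quotient.mk_eq_zero _).2 ⟨m, rfl⟩, LinearMap.lTensor_zero, LinearMap.zero_apply]
  · intro c
    obtain ⟨n, rfl⟩ := Submodule.Quotient.mk_surjective _ c
    obtain ⟨t, rfl⟩ := hμ.equiv.surjective n
    exact ⟨mkA.lTensor A' t, hmk t⟩

variable (hμ'B : ∀ (b : B) m, μ' (b • m) = algebraMap B B' b • μ' m) {q' : PrimeSpectrum B'}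

include hμ' hμ hμB hμ'B huv in
/-- `InjFlatAt` goes up along base changes. -/
theorem InjFlatAt.baseChange (h : InjFlatAt A B u (PrimeSpectrum.comap (algebraMap B B') q')) :
    InjFlatAt A' B' v q' := by
  refine ⟨fun m hm => (h.uInjAt.baseChange hμ' hμ'B huv hμ).exists_smul_eq_zero hm, ?_⟩
  obtain ⟨γ, hγ, -, hγB⟩ := exists_isBaseChange_coker hμ' hμ hμB huv
  exact Cons.flat_localized_of_baseChange hγ hγB q' h.2

include hμ' hμ hμB hμ'B huv in
/-- If the cokernel is flat, it suffices that the kernel dies after base change. -/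
theorem InjFlatAt.of_kills
    (hflat : Module.Flat A (LocalizedModule (PrimeSpectrum.comap (algebraMap B B') q').asIdeal.primeCompl
      (M ⧸ LinearMap.range u)))
    (hK : ∀ k, u k = 0 → ∃ c ∉ q'.asIdeal, c • μ' k = 0) : InjFlatAt A' B' v q' := by
  constructor
  swap
  · obtain ⟨γ, hγ, -, hγB⟩ := exists_isBaseChange_coker hμ' hμ hμB huv
    exact Cons.flat_localized_of_baseChange hγ hγB q' hflat
  intro z hz
  let q := PrimeSpectrum.comap (algebraMap B B') q'
  have hI : UInjAt A B (LinearMap.range u).subtype q :=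
    uInjAt_of_flat_coker (injective_localized_of_forall _ q fun m hm =>
        ⟨1, q.asIdeal.primeCompl.one_mem, (one_smul _ m).trans (Subtype.ext hm)⟩)
      (LinearMap.range u).mkQ (Submodule.mkQ_surjective _) (LinearMap.exact_subtype_mkQ _) hflat
  let Ψ : M' ⊗[A] A' ≃+ N' := (TensorProduct.comm A M' A').toAddEquiv.trans hμ'.equiv.toAddEquiv
  have hΨ : ∀ m a, Ψ (m ⊗ₜ a) = a • μ' m := fun m a => hμ'.equiv_tmul a m
  let Θ : M ⊗[A] A' ≃+ N := (TensorProduct.comm A M A').toAddEquiv.trans hμ.equiv.toAddEquiv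
  have hΘ : ∀ m a, Θ (m ⊗ₜ a) = a • μ m := fun m a => hμ.equiv_tmul a m
  let uA := u.restrictScalars A
  obtain ⟨w, rfl⟩ := Ψ.surjective z
  have hw : uA.rTensor A' w = 0 := by
    refine Θ.injective ?_
    rw [map_zero, ← hz]
    clear hz
    induction w using TensorProduct.induction_on with
    | zero => simp
    | add a b ha hb => simp only [map_add, ha, hb]
    | tmul m a => rw [LinearMap.rTensor_tmul, hΘ, hΨ, LinearMap.map_smul_of_tower, huv]; rfl
  obtain ⟨c₁, hc₁, hc₁w⟩ := hI (AlgebraTensorModule.rTensor A A' u.rangeRestrict w) (by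
    rw [← hw]
    clear hz hw
    induction w using TensorProduct.induction_on with
    | zero => simp
    | add a b ha hb => simp only [map_add, ha, hb]
    | tmul m a => rfl)
  let K := LinearMap.ker u
  have hex : Exact ((K.subtype.restrictScalars A).rTensor A')
      ((u.rangeRestrict.restrictScalars A).rTensor A') := by
    refine rTensor_exact A' (fun y => ?_) u.surjective_rangeRestrict
    constructor
    · intro hy
      exact ⟨⟨y, congrArg Subtype.val hy⟩, rfl⟩
    · rintro ⟨k, rfl⟩
      exact Subtype.ext k.2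
  obtain ⟨t, ht⟩ := (hex (c₁ • w)).1 (by
    show AlgebraTensorModule.rTensor A A' u.rangeRestrict (c₁ • w) = 0
    rw [map_smul, hc₁w])
  have hΨc : ∀ (c : B) x, Ψ (c • x) = algebraMap B B' c • Ψ x := fun c x => by
    induction x using TensorProduct.induction_on with
    | zero => simp
    | add a b ha hb => simp only [smul_add, map_add, ha, hb]
    | tmul m a => rw [TensorProduct.smul_tmul', hΨ, hΨ, hμ'B, smul_comm]
  suffices H : ∀ t : K ⊗[A] A', ∃ c ∉ q'.asIdeal,
      c • Ψ ((K.subtype.restrictScalars A).rTensor A' t) = 0 by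
    obtain ⟨c, hc, hct⟩ := H t
    refine ⟨c * algebraMap B B' c₁, q'.asIdeal.primeCompl.mul_mem hc hc₁, ?_⟩
    rw [mul_smul, ← hΨc, ← ht, hct]
  intro t
  induction t using TensorProduct.induction_on with
  | zero => exact ⟨1, q'.asIdeal.primeCompl.one_mem, by simp⟩
  | add a b ha hb =>
    obtain ⟨ca, hca, ha⟩ := ha
    obtain ⟨cb, hcb, hb⟩ := hb
    refine ⟨ca * cb, q'.asIdeal.primeCompl.mul_mem hca hcb, ?_⟩
    rw [map_add, map_add, smul_add, mul_smul ca cb, mul_smul ca cb, hb, smul_comm ca cb, ha,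
      smul_zero, smul_zero, add_zero]
  | tmul k a =>
    obtain ⟨c, hc, hck⟩ := hK k.1 k.2
    refine ⟨c, hc, ?_⟩
    rw [LinearMap.rTensor_tmul]
    show c • Ψ ((k : M') ⊗ₜ a) = 0
    rw [hΨ, smul_comm, hck, smul_zero]

end BaseChange

section Transport

variable {A B₁ B₂ M₁' M₁ M₂' M₂ : Type u} [CommRing A] [CommRing B₁] [CommRing B₂] [Algebra A B₁]
  [Algebra A B₂] [AddCommGroup M₁'] [Module B₁ M₁']
  [AddCommGroup M₁] [Module B₁ M₁] [Module A M₁] [IsScalarTower A B₁ M₁]
  [AddCommGroup M₂'] [Module B₂ M₂']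
  [AddCommGroup M₂] [Module B₂ M₂] [Module A M₂] [IsScalarTower A B₂ M₂]
  (ψ : B₁ →+* B₂) (hψ : Surjective ψ) (e' : M₁' ≃+ M₂') (e : M₁ ≃ₗ[A] M₂)
  (he' : ∀ (b : B₁) m, e' (b • m) = ψ b • e' m) (he : ∀ (b : B₁) m, e (b • m) = ψ b • e m)
  {u₁ : M₁' →ₗ[B₁] M₁} {u₂ : M₂' →ₗ[B₂] M₂} (hu : ∀ m, e (u₁ m) = u₂ (e' m))
  {q : PrimeSpectrum B₂}

include hψ he' he hu in
/-- `InjFlatAt` goes down along surjections. -/
theorem InjFlatAt.comap (h : InjFlatAt A B₂ u₂ q) :
    InjFlatAt A B₁ u₁ (PrimeSpectrum.comap ψ q) := by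
  refine ⟨fun m hm => ?_, ?_⟩
  · obtain ⟨c, hc, hcm⟩ := h.1 (e' m) (by rw [← hu, hm, map_zero])
    obtain ⟨c, rfl⟩ := hψ c
    exact ⟨c, hc, e'.injective (by rw [he', hcm, map_zero])⟩
  · have hrange : ∀ m, e m ∈ LinearMap.range u₂ ↔ m ∈ LinearMap.range u₁ := fun m => by
      constructor
      · rintro ⟨n, hn⟩
        obtain ⟨n, rfl⟩ := e'.surjective n
        exact ⟨n, e.injective (by rw [hu, hn])⟩
      · rintro ⟨n, rfl⟩
        exact ⟨e' n, (hu n).symm⟩
    let eQ := Submodule.Quotient.equiv ((LinearMap.range u₁).restrictScalars A)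
      ((LinearMap.range u₂).restrictScalars A) e (by
        ext n
        obtain ⟨m, rfl⟩ := e.surjective n
        rw [Submodule.mem_map]
        exact ⟨fun ⟨m', hm', hmm⟩ => by rw [← hmm]; exact (hrange m').2 hm',
          fun hn => ⟨m, (hrange m).1 hn, rfl⟩⟩)
    let eQ' : (M₁ ⧸ LinearMap.range u₁) ≃ₗ[A] (M₂ ⧸ LinearMap.range u₂) :=
      ((Submodule.Quotient.restrictScalarsEquiv A _).symm.trans eQ).trans
        (Submodule.Quotient.restrictScalarsEquiv A _)
    refine (FlatDescent.flat_localized_iff ψ hψ eQ' (fun b x => ?_) q.asIdeal).2 h.2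
    obtain ⟨m, rfl⟩ := Submodule.Quotient.mk_surjective _ x
    show (Submodule.Quotient.mk (e (b • m)) : M₂ ⧸ LinearMap.range u₂) =
      ψ b • Submodule.Quotient.mk (e m)
    rw [he, Submodule.Quotient.mk_smul]

end Transport

end Groth.Agent.EGA43.InjFibre
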