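import Groth.Agent.EGA43.InjFibre.MapModel
import Groth.Agent.EGA43.InjFibre.InjStage
import Groth.Agent.H8Lim.FlatDescent

/-!
# Injectivity with flat cokernel descends to a stage of a filtered colimit (EGA IV 11.3.7)
-/

set_option autoImplicit false
set_option backward.isDefEq.respectTransparency false

universe u v

open TensorProduct Function

namespace Groth.Agent.EGA43.InjFibre

attribute [local instance] FlatDescent.bcModule

theorem exists_algHom_stage_compat {R : Type u} [CommRing R] {ι : Type v} {G : ι → Type u}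
    [∀ i, CommRing (G i)] [∀ i, Algebra R (G i)] {A : Type u} [CommRing A] [Algebra R A]
    {g : ∀ i, G i →ₐ[R] A} (hs : CAlgH.ColimSys g) {R₀ : Type u} [CommRing R₀] [Algebra R₀ R]
    [∀ i, Algebra R₀ (G i)] [∀ i, IsScalarTower R₀ R (G i)] [Algebra R₀ A] [IsScalarTower R₀ R A]
    (B : Type u) [CommRing B] [Algebra R₀ B] [Algebra.FinitePresentation R₀ B] (φ : B →ₐ[R₀] A) :
    ∃ j, ∃ ψ : B →ₐ[R₀] G j, ∀ b, g j (ψ b) = φ b := by
  obtain ⟨n, π, hπ, s, hker⟩ := ‹Algebra.FinitePresentation R₀ B›.out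
  obtain ⟨i, x, hx⟩ := hs.lift_finite fun k : Fin n ↦ φ (π (MvPolynomial.X k))
  let ev : MvPolynomial (Fin n) R₀ →ₐ[R₀] G i := MvPolynomial.aeval x
  have hev : ∀ f, g i (ev f) = φ (π f) := fun f ↦ by
    have : ((g i).restrictScalars R₀).comp ev = φ.comp π :=
      MvPolynomial.algHom_ext fun k ↦ by simp [ev, hx]
    exact AlgHom.congr_fun this f
  obtain ⟨j, h, hh⟩ := hs.kill_finite (fun f : s ↦ ev f.1) fun f ↦ by
    have : (f : MvPolynomial (Fin n) R₀) ∈ RingHom.ker π.toRingHom := hker ▸ Ideal.subset_span f.2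
    rw [hev, show π (f : MvPolynomial (Fin n) R₀) = 0 from this, map_zero]
  have hker' : RingHom.ker π ≤ RingHom.ker ((h.1.restrictScalars R₀).comp ev) := by
    rw [show RingHom.ker π = RingHom.ker π.toRingHom from rfl, ← hker, Ideal.span_le]
    exact fun f hf ↦ hh ⟨f, hf⟩
  refine ⟨j, AlgHom.liftOfSurjective π hπ ((h.1.restrictScalars R₀).comp ev) hker', fun b => ?_⟩
  obtain ⟨f, rfl⟩ := hπ b
  rw [AlgHom.liftOfSurjective_apply]
  exact (AlgHom.congr_fun h.2 (ev f)).trans (hev f)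

section Model

variable {R P₀ L' L : Type u} [CommRing R] [CommRing P₀] [Algebra R P₀] [AddCommGroup L']
  [Module R L'] [Module P₀ L'] [IsScalarTower R P₀ L'] [AddCommGroup L] [Module R L] [Module P₀ L]
  [IsScalarTower R P₀ L]
  {A' B' N' N : Type u} [CommRing A'] [CommRing B'] [Algebra R A'] [Algebra A' B'] [Algebra R B']
  [IsScalarTower R A' B']
  [AddCommGroup N'] [Module B' N'] [Module A' N'] [IsScalarTower A' B' N'] [Module R N']
  [IsScalarTower R A' N']
  [AddCommGroup N] [Module B' N] [Module A' N] [IsScalarTower A' B' N] [Module R N]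
  [IsScalarTower R A' N]
  {μ' : L' →ₗ[R] N'} (hμ' : IsBaseChange A' μ') {μ : L →ₗ[R] N} (hμ : IsBaseChange A' μ)
  (θ₀ : P₀ →ₐ[R] B') (hμ'P : ∀ (c : P₀) m, μ' (c • m) = θ₀ c • μ' m)
  (hμP : ∀ (c : P₀) m, μ (c • m) = θ₀ c • μ m)
  {u₀ : L' →ₗ[P₀] L} {v : N' →ₗ[B'] N} (huv : ∀ m, v (μ' m) = μ (u₀ m)) (q' : PrimeSpectrum B')

/-- `A' ⊗ P₀ → B'`. -/
noncomputable def modelHom : A' ⊗[R] P₀ →ₐ[A'] B' :=
  Algebra.TensorProduct.lift (Algebra.ofId A' B') θ₀ fun _ _ => Commute.all _ _

theorem modelHom_tmul (a : A') (p : P₀) : modelHom θ₀ (a ⊗ₜ[R] p) = algebraMap A' B' a * θ₀ p := rfl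

include hμ' hμ hμ'P hμP huv in
/-- Down to the model over a surjection. -/
theorem InjFlatAt.to_model (hθ : Surjective (modelHom θ₀ : A' ⊗[R] P₀ → B'))
    (h : InjFlatAt A' B' v q') :
    InjFlatAt A' (A' ⊗[R] P₀) (bcMap R A' u₀)
      (PrimeSpectrum.comap (modelHom θ₀).toRingHom q') := by
  have hsmul : ∀ {K W : Type u} [AddCommGroup K] [Module R K] [Module P₀ K] [IsScalarTower R P₀ K]
      [AddCommGroup W] [Module B' W] [Module A' W] [IsScalarTower A' B' W] [Module R W]
      [IsScalarTower R A' W] {ν : K →ₗ[R] W} (hν : IsBaseChange A' ν)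
      (_ : ∀ (c : P₀) m, ν (c • m) = θ₀ c • ν m) (t : A' ⊗[R] P₀) x,
      hν.equiv (t • x) = modelHom θ₀ t • hν.equiv x := by
    intro K W _ _ _ _ _ _ _ _ _ _ ν hν hνP t x
    refine FlatDescent.map_smul_of_tmul (modelHom θ₀).toRingHom
      hν.equiv.toAddEquiv.toAddMonoidHom (fun a p c m => ?_) t x
    show hν.equiv _ = modelHom θ₀ (a ⊗ₜ p) • hν.equiv _
    rw [FlatDescent.bc_smul_tmul, IsBaseChange.equiv_tmul, IsBaseChange.equiv_tmul, hνP,
      modelHom_tmul, ← algebraMap_smul B' (a * c), ← algebraMap_smul B' c, smul_smul, smul_smul,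
      map_mul]
    congr 1
    ring
  refine InjFlatAt.comap (modelHom θ₀).toRingHom hθ hμ'.equiv.toAddEquiv hμ.equiv
    (hsmul hμ' hμ'P) (hsmul hμ hμP) (fun m => ?_) h
  show hμ.equiv (bcMap R A' u₀ m) = v (hμ'.equiv m)
  induction m using TensorProduct.induction_on with
  | zero => simp
  | add a b ha hb => simp only [map_add, ha, hb]
  | tmul a m =>
    rw [bcMap_tmul, IsBaseChange.equiv_tmul, IsBaseChange.equiv_tmul, LinearMap.map_smul_of_tower,
      huv]

include hμ' hμ hμ'P hμP huv in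
/-- Up from a stage. -/
theorem InjFlatAt.of_model {D : Type u} [CommRing D] [Algebra R D] (φ : D →ₐ[R] A')
    (h : InjFlatAt D (D ⊗[R] P₀) (bcMap R D u₀)
      (PrimeSpectrum.comap ((modelHom θ₀).toRingHom.comp
        (Algebra.TensorProduct.map φ (AlgHom.id R P₀)).toRingHom) q')) :
    InjFlatAt A' B' v q' := by
  let θ := (modelHom θ₀).toRingHom.comp (Algebra.TensorProduct.map φ (AlgHom.id R P₀)).toRingHom
  have hθ : ∀ (d : D) p, θ (d ⊗ₜ[R] p) = algebraMap A' B' (φ d) * θ₀ p := fun d p => rfl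
  let _ : Algebra D A' := φ.toRingHom.toAlgebra
  have : IsScalarTower R D A' := .of_algebraMap_eq fun r => (φ.commutes r).symm
  let _ : Algebra (D ⊗[R] P₀) B' := θ.toAlgebra
  let _ : Algebra D B' := ((algebraMap A' B').comp φ.toRingHom).toAlgebra
  have : IsScalarTower D A' B' := .of_algebraMap_eq' rfl
  have : IsScalarTower D (D ⊗[R] P₀) B' := .of_algebraMap_eq fun d => by
    show algebraMap A' B' (φ d) = θ (d ⊗ₜ[R] (1 : P₀))
    rw [hθ, map_one, mul_one]
  let _ : Module D N' := Module.compHom N' φ.toRingHom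
  let _ : Module D N := Module.compHom N φ.toRingHom
  have : IsScalarTower D A' N' := .of_algebraMap_smul fun _ _ => rfl
  have : IsScalarTower D A' N := .of_algebraMap_smul fun _ _ => rfl
  have : IsScalarTower D B' N := .of_algebraMap_smul fun d m => by
    show algebraMap A' B' (φ d) • m = φ d • m
    rw [algebraMap_smul]
  have : IsScalarTower R D N' := .of_algebraMap_smul fun r m => by
    show φ (algebraMap R D r) • m = r • m
    rw [φ.commutes, algebraMap_smul]
  have : IsScalarTower R D N := .of_algebraMap_smul fun r m => by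
    show φ (algebraMap R D r) • m = r • m
    rw [φ.commutes, algebraMap_smul]
  let ν' : D ⊗[R] L' →ₗ[D] N' := μ'.liftBaseChange D
  let ν : D ⊗[R] L →ₗ[D] N := μ.liftBaseChange D
  have hν' : IsBaseChange A' ν' := by
    refine IsBaseChange.of_comp (TensorProduct.isBaseChange R L' D) ?_
    convert hμ' using 1
    ext m
    simp [ν']
  have hν : IsBaseChange A' ν := by
    refine IsBaseChange.of_comp (TensorProduct.isBaseChange R L D) ?_
    convert hμ using 1
    ext m
    simp [ν]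
  have hsmul : ∀ {K W : Type u} [AddCommGroup K] [Module R K] [Module P₀ K] [IsScalarTower R P₀ K]
      [AddCommGroup W] [Module B' W] [Module A' W] [IsScalarTower A' B' W] [Module R W]
      [Module D W] [IsScalarTower D A' W] [IsScalarTower R D W] (μ₁ : K →ₗ[R] W)
      (_ : ∀ (c : P₀) m, μ₁ (c • m) = θ₀ c • μ₁ m) (t : D ⊗[R] P₀) x,
      μ₁.liftBaseChange D (t • x) = θ t • μ₁.liftBaseChange D x := by
    intro K W _ _ _ _ _ _ _ _ _ _ _ _ μ₁ h₁ t x
    refine FlatDescent.map_smul_of_tmul θ (μ₁.liftBaseChange D).toAddMonoidHom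
      (fun a p d n => ?_) t x
    simp only [LinearMap.toAddMonoidHom_coe]
    rw [FlatDescent.bc_smul_tmul, LinearMap.liftBaseChange_tmul, LinearMap.liftBaseChange_tmul, h₁,
      hθ, ← algebraMap_smul A' (a * d), ← algebraMap_smul A' d (μ₁ n)]
    show φ (a * d) • θ₀ p • μ₁ n = _ • φ d • μ₁ n
    rw [map_mul, ← algebraMap_smul B' (φ a * φ d), ← algebraMap_smul B' (φ d), smul_smul, smul_smul,
      map_mul]
    congr 1
    ring
  refine InjFlatAt.baseChange (B := D ⊗[R] P₀) (u := bcMap R D u₀) hν' hν (hsmul μ hμP) (fun m => ?_)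
    (hsmul μ' hμ'P) h
  induction m using TensorProduct.induction_on with
  | zero => simp
  | add a b ha hb => simp only [map_add, ha, hb]
  | tmul d m =>
    show v (φ d • μ' m) = μ.liftBaseChange D (d ⊗ₜ[R] u₀ m)
    rw [LinearMap.liftBaseChange_tmul, LinearMap.map_smul_of_tower, huv]
    rfl

end Model

set_option maxHeartbeats 1600000 in
/-- The limit form in the presence of a model. -/
theorem exists_stage_injFlatAt_of_model {A B M' M : Type u} [CommRing A] [CommRing B] [Algebra A B]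
    [AddCommGroup M'] [Module B M'] [Module A M']
    [IsScalarTower A B M'] [AddCommGroup M] [Module B M] [Module A M] [IsScalarTower A B M]
    (u : M' →ₗ[B] M)
    {R₀ P₀ L' L : Type u} [CommRing R₀] [IsNoetherianRing R₀] [Algebra R₀ A] [CommRing P₀]
    [Algebra R₀ P₀] [Algebra.FiniteType R₀ P₀] [AddCommGroup L'] [Module R₀ L'] [Module P₀ L']
    [IsScalarTower R₀ P₀ L'] [Module.Finite P₀ L'] [AddCommGroup L] [Module R₀ L] [Module P₀ L]
    [IsScalarTower R₀ P₀ L] [Module.Finite P₀ L] [Algebra R₀ B] [IsScalarTower R₀ A B]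
    [Module R₀ M'] [IsScalarTower R₀ A M'] [Module R₀ M] [IsScalarTower R₀ A M]
    (u₀ : L' →ₗ[P₀] L) (θ : P₀ →ₐ[R₀] B) {ν' : L' →ₗ[R₀] M'} (hν' : IsBaseChange A ν')
    {ν : L →ₗ[R₀] M} (hν : IsBaseChange A ν) (hν'P : ∀ (c : P₀) m, ν' (c • m) = θ c • ν' m)
    (hνP : ∀ (c : P₀) m, ν (c • m) = θ c • ν m) (hcomm : ∀ m, u (ν' m) = ν (u₀ m))
    (hθspan : ∀ b : B, b ∈ Submodule.span A (Set.range θ))
    {ι : Type v} {G : ι → Type u} [∀ i, CommRing (G i)] [∀ i, Algebra A (G i)]
    {A' B' N' N : Type u} [CommRing A'] [Algebra A A'] {g : ∀ i, G i →ₐ[A] A'}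
    (hs : CAlgH.ColimSys g)
    [CommRing B'] [Algebra A' B'] [Algebra B B'] [Algebra A B'] [IsScalarTower A A' B']
    [IsScalarTower A B B']
    (hspan : ∀ b' : B', b' ∈ Submodule.span A' (Set.range (algebraMap B B')))
    [AddCommGroup N'] [Module B' N'] [Module A' N'] [IsScalarTower A' B' N'] [Module A N']
    [IsScalarTower A A' N']
    [AddCommGroup N] [Module B' N] [Module A' N] [IsScalarTower A' B' N] [Module A N]
    [IsScalarTower A A' N]
    {μ' : M' →ₗ[A] N'} (hμ' : IsBaseChange A' μ')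
    (hμ'B : ∀ (b : B) m, μ' (b • m) = algebraMap B B' b • μ' m)
    {μ : M →ₗ[A] N} (hμ : IsBaseChange A' μ)
    (hμB : ∀ (b : B) m, μ (b • m) = algebraMap B B' b • μ m)
    {v : N' →ₗ[B'] N} (huv : ∀ m, v (μ' m) = μ (u m)) (q' : PrimeSpectrum B')
    (h : InjFlatAt A' B' v q') :
    ∃ j, ∀ {Bj N'j Nj : Type u} [CommRing Bj] [Algebra (G j) Bj] [Algebra B Bj] [Algebra A Bj]
      [IsScalarTower A (G j) Bj] [IsScalarTower A B Bj]
      [AddCommGroup N'j] [Module Bj N'j] [Module (G j) N'j] [IsScalarTower (G j) Bj N'j]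
      [Module A N'j] [IsScalarTower A (G j) N'j]
      [AddCommGroup Nj] [Module Bj Nj] [Module (G j) Nj] [IsScalarTower (G j) Bj Nj]
      [Module A Nj] [IsScalarTower A (G j) Nj]
      (r : Bj →+* B') (_ : ∀ b, r (algebraMap B Bj b) = algebraMap B B' b)
      (_ : ∀ a, r (algebraMap (G j) Bj a) = algebraMap A' B' (g j a))
      {μ'j : M' →ₗ[A] N'j} (_ : IsBaseChange (G j) μ'j)
      (_ : ∀ (b : B) m, μ'j (b • m) = algebraMap B Bj b • μ'j m)
      {μj : M →ₗ[A] Nj} (_ : IsBaseChange (G j) μj)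
      (_ : ∀ (b : B) m, μj (b • m) = algebraMap B Bj b • μj m)
      {vj : N'j →ₗ[Bj] Nj} (_ : ∀ m, vj (μ'j m) = μj (u m)),
      InjFlatAt (G j) Bj vj (PrimeSpectrum.comap r q') := by
  let _ : Algebra R₀ A' := ((algebraMap A A').comp (algebraMap R₀ A)).toAlgebra
  have : IsScalarTower R₀ A A' := .of_algebraMap_eq fun _ => rfl
  let _ : Algebra R₀ B' := ((algebraMap A' B').comp (algebraMap R₀ A')).toAlgebra
  have : IsScalarTower R₀ A' B' := .of_algebraMap_eq fun _ => rfl
  let _ : Module R₀ N' := Module.compHom N' (algebraMap R₀ A)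
  let _ : Module R₀ N := Module.compHom N (algebraMap R₀ A)
  have : IsScalarTower R₀ A N' := .of_algebraMap_smul fun _ _ => rfl
  have : IsScalarTower R₀ A N := .of_algebraMap_smul fun _ _ => rfl
  have : IsScalarTower R₀ A' N' := .of_algebraMap_smul fun r m => algebraMap_smul A' (algebraMap R₀ A r) m
  have : IsScalarTower R₀ A' N := .of_algebraMap_smul fun r m => algebraMap_smul A' (algebraMap R₀ A r) m
  let θ' : P₀ →ₐ[R₀] B' :=
    { (algebraMap B B').comp θ.toRingHom with
      commutes' := fun r => by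
        show algebraMap B B' (θ (algebraMap R₀ P₀ r)) = algebraMap A' B' (algebraMap A A' _)
        rw [θ.commutes, IsScalarTower.algebraMap_apply R₀ A B, ← IsScalarTower.algebraMap_apply A B B',
          IsScalarTower.algebraMap_apply A A' B'] }
  have hθ' : Surjective (modelHom (A' := A') θ') := fun b' => by
    induction hspan b' using Submodule.span_induction with
    | mem x hx =>
      obtain ⟨b, rfl⟩ := hx
      induction hθspan b using Submodule.span_induction with
      | mem x hx =>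
        obtain ⟨p, rfl⟩ := hx
        exact ⟨(1 : A') ⊗ₜ[R₀] p, by rw [modelHom_tmul, map_one, one_mul]; rfl⟩
      | zero => exact ⟨0, by rw [map_zero, map_zero]⟩
      | add x y _ _ hx hy =>
        obtain ⟨s, hs⟩ := hx
        obtain ⟨t, ht⟩ := hy
        exact ⟨s + t, by rw [map_add, map_add, hs, ht]⟩
      | smul a x _ hx =>
        obtain ⟨s, hs⟩ := hx
        exact ⟨algebraMap A A' a • s, by
          rw [map_smul, hs, Algebra.smul_def, Algebra.smul_def, map_mul,
            ← IsScalarTower.algebraMap_apply A A' B', ← IsScalarTower.algebraMap_apply A B B']⟩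
    | zero => exact ⟨0, map_zero _⟩
    | add x y _ _ hx hy =>
      obtain ⟨s, hs⟩ := hx
      obtain ⟨t, ht⟩ := hy
      exact ⟨s + t, by rw [map_add, hs, ht]⟩
    | smul a x _ hx =>
      obtain ⟨s, hs⟩ := hx
      exact ⟨a • s, by rw [map_smul, hs]⟩
  have h0 := InjFlatAt.to_model (hν'.comp hμ') (hν.comp hμ) θ'
    (fun c m => by show μ' (ν' (c • m)) = _; rw [hν'P, hμ'B]; rfl)
    (fun c m => by show μ (ν (c • m)) = _; rw [hνP, hμB]; rfl) (u₀ := u₀) (v := v)
    (fun m => by
      show v (μ' (ν' m)) = μ (ν (u₀ m))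
      rw [huv, hcomm]) q' hθ' h
  obtain ⟨D, hD, hDinj⟩ := exists_stage_injFlatAt (R := R₀) u₀ _ h0
  have : Algebra.FiniteType R₀ D := D.fg_iff_finiteType.1 hD
  have : Algebra.FinitePresentation R₀ D := Algebra.FinitePresentation.of_finiteType.1 inferInstance
  let : ∀ i, Algebra R₀ (G i) := fun i => ((algebraMap A (G i)).comp (algebraMap R₀ A)).toAlgebra
  have : ∀ i, IsScalarTower R₀ A (G i) := fun i => .of_algebraMap_eq fun _ => rfl
  obtain ⟨j, ψ, hψ⟩ := exists_algHom_stage_compat hs (R₀ := R₀) D D.val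
  refine ⟨j, ?_⟩
  intro Bj N'j Nj _ _ _ _ _ _ _ _ _ _ _ _ _ _ _ _ _ _ r hr hrG μ'j hμ'j hμ'jB μj hμj hμjB vj huvj
  let _ : Algebra R₀ Bj := ((algebraMap (G j) Bj).comp (algebraMap R₀ (G j))).toAlgebra
  have : IsScalarTower R₀ (G j) Bj := .of_algebraMap_eq fun _ => rfl
  let _ : Module R₀ N'j := Module.compHom N'j (algebraMap R₀ A)
  let _ : Module R₀ Nj := Module.compHom Nj (algebraMap R₀ A)
  have : IsScalarTower R₀ A N'j := .of_algebraMap_smul fun _ _ => rfl
  have : IsScalarTower R₀ A Nj := .of_algebraMap_smul fun _ _ => rfl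
  have : IsScalarTower R₀ (G j) N'j :=
    .of_algebraMap_smul fun r m => algebraMap_smul (G j) (algebraMap R₀ A r) m
  have : IsScalarTower R₀ (G j) Nj :=
    .of_algebraMap_smul fun r m => algebraMap_smul (G j) (algebraMap R₀ A r) m
  let θj : P₀ →ₐ[R₀] Bj :=
    { (algebraMap B Bj).comp θ.toRingHom with
      commutes' := fun r => by
        show algebraMap B Bj (θ (algebraMap R₀ P₀ r)) =
          algebraMap (G j) Bj (algebraMap A (G j) _)
        rw [θ.commutes, IsScalarTower.algebraMap_apply R₀ A B, ← IsScalarTower.algebraMap_apply A B Bj,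
          IsScalarTower.algebraMap_apply A (G j) Bj] }
  refine InjFlatAt.of_model (hν'.comp hμ'j) (hν.comp hμj) θj
    (fun c m => by show μ'j (ν' (c • m)) = _; rw [hν'P, hμ'jB]; rfl)
    (fun c m => by show μj (ν (c • m)) = _; rw [hνP, hμjB]; rfl) (u₀ := u₀) (v := vj)
    (fun m => by
      show vj (μ'j (ν' m)) = μj (ν (u₀ m))
      rw [huvj, hcomm]) (PrimeSpectrum.comap r q') ψ ?_
  convert hDinj using 1
  refine PrimeSpectrum.ext ?_
  show ((q'.asIdeal.comap r).comap _) = (q'.asIdeal.comap _).comap _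
  rw [Ideal.comap_comap, Ideal.comap_comap]
  congr 1
  refine Algebra.TensorProduct.ringHom_ext ?_ ?_
  · refine RingHom.ext fun d => ?_
    show r (algebraMap (G j) Bj (ψ d) * θj 1) = algebraMap A' B' (D.val d) * θ' 1
    rw [map_one, map_one, mul_one, mul_one, hrG, hψ]
  · refine RingHom.ext fun p => ?_
    show r (algebraMap (G j) Bj (ψ 1) * algebraMap B Bj (θ p)) =
      algebraMap A' B' (D.val 1) * algebraMap B B' (θ p)
    rw [map_one, map_one, one_mul, map_one, map_one, one_mul, hr]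

set_option maxHeartbeats 1600000 in
/-- **EGA IV 11.3.7, limit form**. -/
theorem exists_stage_injFlatAt_colimit {A B M' M : Type u} [CommRing A] [CommRing B] [Algebra A B]
    [Algebra.FinitePresentation A B] [AddCommGroup M'] [Module B M'] [Module A M']
    [IsScalarTower A B M'] [AddCommGroup M] [Module B M] [Module A M] [IsScalarTower A B M]
    [Module.FinitePresentation B M'] [Module.FinitePresentation B M] (u : M' →ₗ[B] M)
    {ι : Type v} {G : ι → Type u} [∀ i, CommRing (G i)] [∀ i, Algebra A (G i)]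
    {A' B' N' N : Type u} [CommRing A'] [Algebra A A'] {g : ∀ i, G i →ₐ[A] A'}
    (hs : CAlgH.ColimSys g)
    [CommRing B'] [Algebra A' B'] [Algebra B B'] [Algebra A B'] [IsScalarTower A A' B']
    [IsScalarTower A B B']
    (hspan : ∀ b' : B', b' ∈ Submodule.span A' (Set.range (algebraMap B B')))
    [AddCommGroup N'] [Module B' N'] [Module A' N'] [IsScalarTower A' B' N'] [Module A N']
    [IsScalarTower A A' N']
    [AddCommGroup N] [Module B' N] [Module A' N] [IsScalarTower A' B' N] [Module A N]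
    [IsScalarTower A A' N]
    {μ' : M' →ₗ[A] N'} (hμ' : IsBaseChange A' μ')
    (hμ'B : ∀ (b : B) m, μ' (b • m) = algebraMap B B' b • μ' m)
    {μ : M →ₗ[A] N} (hμ : IsBaseChange A' μ)
    (hμB : ∀ (b : B) m, μ (b • m) = algebraMap B B' b • μ m)
    {v : N' →ₗ[B'] N} (huv : ∀ m, v (μ' m) = μ (u m)) (q' : PrimeSpectrum B')
    (h : InjFlatAt A' B' v q') :
    ∃ j, ∀ {Bj N'j Nj : Type u} [CommRing Bj] [Algebra (G j) Bj] [Algebra B Bj] [Algebra A Bj]
      [IsScalarTower A (G j) Bj] [IsScalarTower A B Bj]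
      [AddCommGroup N'j] [Module Bj N'j] [Module (G j) N'j] [IsScalarTower (G j) Bj N'j]
      [Module A N'j] [IsScalarTower A (G j) N'j]
      [AddCommGroup Nj] [Module Bj Nj] [Module (G j) Nj] [IsScalarTower (G j) Bj Nj]
      [Module A Nj] [IsScalarTower A (G j) Nj]
      (r : Bj →+* B') (_ : ∀ b, r (algebraMap B Bj b) = algebraMap B B' b)
      (_ : ∀ a, r (algebraMap (G j) Bj a) = algebraMap A' B' (g j a))
      {μ'j : M' →ₗ[A] N'j} (_ : IsBaseChange (G j) μ'j)
      (_ : ∀ (b : B) m, μ'j (b • m) = algebraMap B Bj b • μ'j m)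
      {μj : M →ₗ[A] Nj} (_ : IsBaseChange (G j) μj)
      (_ : ∀ (b : B) m, μj (b • m) = algebraMap B Bj b • μj m)
      {vj : N'j →ₗ[Bj] Nj} (_ : ∀ m, vj (μ'j m) = μj (u m)),
      InjFlatAt (G j) Bj vj (PrimeSpectrum.comap r q') := by
  obtain ⟨W⟩ := nonempty_mapModel (A := A) u
  obtain ⟨R₀, hR₀, P₀, L', L, u₀, θ, ν', ν, hν', hν, hν'P, hνP, hcomm, hθspan⟩ := W
  exact exists_stage_injFlatAt_of_model u u₀ θ hν' hν hν'P hνP hcomm hθspan hs hspan hμ' hμ'B hμ hμB
    huv q' h

end Groth.Agent.EGA43.InjFibre
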