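import Groth.Agent.EGA43.InjFibre.General
import Groth.Agent.EGA43.InjFibre.InjFlat

/-!
# A Noetherian model of a map of finitely presented modules
-/

set_option autoImplicit false
set_option backward.isDefEq.respectTransparency false

universe u

open TensorProduct Function

namespace Groth.Agent.EGA43.InjFibre

/-- A Noetherian model of a map of modules. -/
structure MapModel (A B : Type u) [CommRing A] [CommRing B] [Algebra A B] {M' M : Type u}
    [AddCommGroup M'] [Module B M'] [Module A M'] [IsScalarTower A B M'] [AddCommGroup M]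
    [Module B M] [Module A M] [IsScalarTower A B M] (u : M' →ₗ[B] M) where
  R₀ : Subalgebra ℤ A
  noeth : IsNoetherianRing R₀
  P₀ : Type u
  [ringP : CommRing P₀]
  [algP : Algebra R₀ P₀]
  [ftP : Algebra.FiniteType R₀ P₀]
  N' : Type u
  N : Type u
  [acgN' : AddCommGroup N']
  [modN' : Module R₀ N']
  [modPN' : Module P₀ N']
  [towN' : IsScalarTower R₀ P₀ N']
  [finN' : Module.Finite P₀ N']
  [acgN : AddCommGroup N]
  [modN : Module R₀ N]
  [modPN : Module P₀ N]
  [towN : IsScalarTower R₀ P₀ N]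
  [finN : Module.Finite P₀ N]
  u₀ : N' →ₗ[P₀] N
  θ : P₀ →ₐ[R₀] B
  μ' : N' →ₗ[R₀] M'
  μ : N →ₗ[R₀] M
  bc' : IsBaseChange A μ'
  bc : IsBaseChange A μ
  smul' : ∀ (c : P₀) m, μ' (c • m) = θ c • μ' m
  smul : ∀ (c : P₀) m, μ (c • m) = θ c • μ m
  comm : ∀ m, u (μ' m) = μ (u₀ m)
  span : ∀ b : B, b ∈ Submodule.span A (Set.range θ)

set_option maxHeartbeats 1600000 in
/-- Over a polynomial algebra. -/
theorem nonempty_mapModel_mvPolynomial (A : Type u) [CommRing A] (n : ℕ) {k k' : ℕ}
    (s' : Finset (Fin k' → MvPolynomial (Fin n) A)) (s : Finset (Fin k → MvPolynomial (Fin n) A))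
    (T : (Fin k' → MvPolynomial (Fin n) A) →ₗ[MvPolynomial (Fin n) A]
      (Fin k → MvPolynomial (Fin n) A))
    (hTs : ∀ x ∈ s', T x ∈ Submodule.span (MvPolynomial (Fin n) A) (s : Set _))
    (u : ((Fin k' → MvPolynomial (Fin n) A) ⧸
      Submodule.span (MvPolynomial (Fin n) A) (s' : Set (Fin k' → MvPolynomial (Fin n) A))) →ₗ[
      MvPolynomial (Fin n) A] (Fin k → MvPolynomial (Fin n) A) ⧸
      Submodule.span (MvPolynomial (Fin n) A) (s : Set (Fin k → MvPolynomial (Fin n) A)))
    (hu : ∀ v, u (Submodule.Quotient.mk v) = Submodule.Quotient.mk (T v)) :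
    Nonempty (MapModel A (MvPolynomial (Fin n) A) u) := by
  classical
  have hc : ∀ x : s', ∃ c : (Fin k → MvPolynomial (Fin n) A) → MvPolynomial (Fin n) A,
      T x.1 = ∑ v ∈ s, c v • v := fun x => by
    obtain ⟨c, -, hc⟩ := Submodule.mem_span_finset.1 (hTs x.1 x.2)
    exact ⟨c, hc.symm⟩
  choose cf hcf using hc
  let coeffset : Set A := (⋃ x ∈ s', ⋃ j, ((x j).coeffs : Set A)) ∪
    (⋃ x ∈ s, ⋃ j, ((x j).coeffs : Set A)) ∪
    (⋃ i, ⋃ j, ((T (Pi.single i 1) j).coeffs : Set A)) ∪
    (⋃ x : s', ⋃ v ∈ s, ((cf x v).coeffs : Set A))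
  have hfin : coeffset.Finite := by
    refine ((Set.Finite.union ?_ ?_).union ?_).union ?_
    · exact s'.finite_toSet.biUnion fun w _ => Set.finite_iUnion fun j => Finset.finite_toSet _
    · exact s.finite_toSet.biUnion fun w _ => Set.finite_iUnion fun j => Finset.finite_toSet _
    · exact Set.finite_iUnion fun i => Set.finite_iUnion fun j => Finset.finite_toSet _
    · exact Set.finite_iUnion fun x => s.finite_toSet.biUnion fun w _ => Finset.finite_toSet _
  let R₀ : Subalgebra ℤ A := Algebra.adjoin ℤ coeffset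
  have : IsNoetherianRing R₀ :=
    isNoetherianRing_of_fg (Subalgebra.fg_def.2 ⟨_, hfin, rfl⟩)
  let _ : Algebra (MvPolynomial (Fin n) R₀) (MvPolynomial (Fin n) A) :=
    MvPolynomial.algebraMvPolynomial
  have hlift : ∀ p : MvPolynomial (Fin n) A, (p.coeffs : Set A) ⊆ coeffset →
      ∃ p₀ : MvPolynomial (Fin n) R₀,
        algebraMap (MvPolynomial (Fin n) R₀) (MvPolynomial (Fin n) A) p₀ = p := fun p hp => by
    show p ∈ Set.range (MvPolynomial.map (algebraMap R₀ A))
    rw [MvPolynomial.mem_range_map_iff_coeffs_subset]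
    exact fun c hc => ⟨⟨c, Algebra.subset_adjoin (hp hc)⟩, rfl⟩
  have hl' : ∀ (x : s') j, _ := fun x j => hlift ((x : Fin k' → MvPolynomial (Fin n) A) j)
    fun c hc => Or.inl (Or.inl (Or.inl (Set.mem_biUnion x.2 (Set.mem_iUnion.2 ⟨j, hc⟩))))
  have hl : ∀ (x : s) j, _ := fun x j => hlift ((x : Fin k → MvPolynomial (Fin n) A) j)
    fun c hc => Or.inl (Or.inl (Or.inr (Set.mem_biUnion x.2 (Set.mem_iUnion.2 ⟨j, hc⟩))))
  have hlT : ∀ i j, _ := fun i j => hlift (T (Pi.single i 1) j)
    fun c hc => Or.inl (Or.inr (Set.mem_iUnion.2 ⟨i, Set.mem_iUnion.2 ⟨j, hc⟩⟩))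
  have hlc : ∀ (x : s') (v : s), _ := fun x v => hlift (cf x v.1)
    fun c hc => Or.inr (Set.mem_iUnion.2 ⟨x, Set.mem_biUnion v.2 hc⟩)
  choose w' hw' using hl'
  choose w hw using hl
  choose t ht using hlT
  choose c₀ hc₀ using hlc
  let T₁ : (Fin k' → MvPolynomial (Fin n) R₀) →ₗ[MvPolynomial (Fin n) R₀]
      (Fin k → MvPolynomial (Fin n) R₀) :=
    (Pi.basisFun (MvPolynomial (Fin n) R₀) (Fin k')).constr (MvPolynomial (Fin n) R₀) t
  have hT : ∀ i, T₁ (Pi.single i 1) = t i := fun i => by
    rw [← Pi.basisFun_apply (MvPolynomial (Fin n) R₀) (Fin k') i]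
    exact Module.Basis.constr_basis _ _ _ _
  let ι := algebraMap (MvPolynomial (Fin n) R₀) (MvPolynomial (Fin n) A)
  have hinj : Injective ι := MvPolynomial.map_injective _ Subtype.val_injective
  have hrel : ∀ x, T₁ (w' x) ∈ Submodule.span (MvPolynomial (Fin n) R₀) (Set.range w) := fun x => by
    have hmap : ∀ v, (fun j => ι (T₁ v j)) = T fun j => ι (v j) := fun v => by
      have hv : v = ∑ i, v i • (Pi.single i (1 : MvPolynomial (Fin n) R₀) : Fin k' → _) :=
        (Finset.univ_sum_single v).symm.trans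
          (Finset.sum_congr rfl fun i _ => by rw [← Pi.single_smul, smul_eq_mul, mul_one])
      have hv' : (fun j => ι (v j)) =
          ∑ i, ι (v i) • (Pi.single i (1 : MvPolynomial (Fin n) A) : Fin k' → _) :=
        (Finset.univ_sum_single (fun j => ι (v j))).symm.trans
          (Finset.sum_congr rfl fun i _ => by rw [← Pi.single_smul, smul_eq_mul, mul_one])
      rw [hv', map_sum]
      conv_lhs => rw [hv, map_sum]
      funext j
      simp only [map_smul, hT, Finset.sum_apply, Pi.smul_apply, smul_eq_mul, map_sum, map_mul]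
      exact Finset.sum_congr rfl fun i _ => by rw [ht]
    have key : T₁ (w' x) = ∑ v : s, c₀ x v • w v := by
      funext j
      apply hinj
      rw [congrFun (hmap (w' x)) j, show (fun j => ι (w' x j)) = x.1 from funext (hw' x), hcf x,
        Finset.sum_apply, Finset.sum_apply, map_sum, ← Finset.sum_attach s]
      refine Finset.sum_congr rfl fun v _ => ?_
      rw [Pi.smul_apply, Pi.smul_apply, smul_eq_mul, smul_eq_mul, map_mul, hc₀, hw]
    rw [key]
    exact Submodule.sum_mem _ fun v _ => Submodule.smul_mem _ _ (Submodule.subset_span ⟨v, rfl⟩)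
  let K' := Submodule.span (MvPolynomial (Fin n) A) (s' : Set (Fin k' → (MvPolynomial (Fin n) A)))
  let K := Submodule.span (MvPolynomial (Fin n) A) (s : Set (Fin k → (MvPolynomial (Fin n) A)))
  let K₁' : Submodule (MvPolynomial (Fin n) R₀) (Fin k' → (MvPolynomial (Fin n) R₀)) := Submodule.span _ (Set.range w')
  let K₁ : Submodule (MvPolynomial (Fin n) R₀) (Fin k → (MvPolynomial (Fin n) R₀)) := Submodule.span _ (Set.range w)
  let f' : (Fin k' → (MvPolynomial (Fin n) R₀)) →ₗ[(MvPolynomial (Fin n) R₀)] (Fin k' → (MvPolynomial (Fin n) A)) := LinearMap.compLeft (Algebra.linearMap (MvPolynomial (Fin n) R₀) (MvPolynomial (Fin n) A)) (Fin k')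
  let f : (Fin k → (MvPolynomial (Fin n) R₀)) →ₗ[(MvPolynomial (Fin n) R₀)] (Fin k → (MvPolynomial (Fin n) A)) := LinearMap.compLeft (Algebra.linearMap (MvPolynomial (Fin n) R₀) (MvPolynomial (Fin n) A)) (Fin k)
  have hf' : IsBaseChange (MvPolynomial (Fin n) A) f' := IsBaseChange.finitePow (Fin k') (IsBaseChange.linearMap _ _)
  have hf : IsBaseChange (MvPolynomial (Fin n) A) f := IsBaseChange.finitePow (Fin k) (IsBaseChange.linearMap _ _)
  have hK' : K' = Submodule.span (MvPolynomial (Fin n) A) (f' '' K₁') := by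
    refine le_antisymm (Submodule.span_le.2 fun x hx => Submodule.subset_span
      ⟨w' ⟨x, hx⟩, Submodule.subset_span ⟨_, rfl⟩, funext fun j => hw' ⟨x, hx⟩ j⟩) ?_
    rw [Submodule.span_le]
    rintro _ ⟨x, hx, rfl⟩
    induction hx using Submodule.span_induction with
    | mem x hx => obtain ⟨y, rfl⟩ := hx; rw [show f' (w' y) = y.1 from funext fun j => hw' y j]
                  exact Submodule.subset_span y.2
    | zero => rw [map_zero]; exact zero_mem _
    | add x y _ _ hx hy => rw [map_add]; exact add_mem hx hy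
    | smul c x _ hx => rw [map_smul, ← algebraMap_smul (MvPolynomial (Fin n) A) c (f' x)]; exact K'.smul_mem _ hx
  have hK : K = Submodule.span (MvPolynomial (Fin n) A) (f '' K₁) := by
    refine le_antisymm (Submodule.span_le.2 fun x hx => Submodule.subset_span
      ⟨w ⟨x, hx⟩, Submodule.subset_span ⟨_, rfl⟩, funext fun j => hw ⟨x, hx⟩ j⟩) ?_
    rw [Submodule.span_le]
    rintro _ ⟨x, hx, rfl⟩
    induction hx using Submodule.span_induction with
    | mem x hx => obtain ⟨y, rfl⟩ := hx; rw [show f (w y) = y.1 from funext fun j => hw y j]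
                  exact Submodule.subset_span y.2
    | zero => rw [map_zero]; exact zero_mem _
    | add x y _ _ hx hy => rw [map_add]; exact add_mem hx hy
    | smul c x _ hx => rw [map_smul, ← algebraMap_smul (MvPolynomial (Fin n) A) c (f x)]; exact K.smul_mem _ hx
  let μ' : ((Fin k' → (MvPolynomial (Fin n) R₀)) ⧸ K₁') →ₗ[(MvPolynomial (Fin n) R₀)] (Fin k' → (MvPolynomial (Fin n) A)) ⧸ K' :=
    K₁'.liftQ ((K'.mkQ.restrictScalars (MvPolynomial (Fin n) R₀)) ∘ₗ f') fun x hx =>
      (Submodule.Quotient.mk_eq_zero K').2 (hK'.ge (Submodule.subset_span ⟨x, hx, rfl⟩))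
  let μ : ((Fin k → (MvPolynomial (Fin n) R₀)) ⧸ K₁) →ₗ[(MvPolynomial (Fin n) R₀)] (Fin k → (MvPolynomial (Fin n) A)) ⧸ K :=
    K₁.liftQ ((K.mkQ.restrictScalars (MvPolynomial (Fin n) R₀)) ∘ₗ f) fun x hx =>
      (Submodule.Quotient.mk_eq_zero K).2 (hK.ge (Submodule.subset_span ⟨x, hx, rfl⟩))
  have hμ' : IsBaseChange A (μ'.restrictScalars R₀) :=
    (Cons.isBaseChange_iff_of_isPushout (R := R₀) (T := A) (R' := (MvPolynomial (Fin n) R₀)) (T' := (MvPolynomial (Fin n) A)) μ').1
      (Cons.isBaseChange_quotient hf' K₁' K' hK' μ' fun v => rfl)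
  have hμ : IsBaseChange A (μ.restrictScalars R₀) :=
    (Cons.isBaseChange_iff_of_isPushout (R := R₀) (T := A) (R' := (MvPolynomial (Fin n) R₀)) (T' := (MvPolynomial (Fin n) A)) μ).1
      (Cons.isBaseChange_quotient hf K₁ K hK μ fun v => rfl)
  have hle : K₁' ≤ LinearMap.ker (K₁.mkQ ∘ₗ T₁) := Submodule.span_le.2 (by
    rintro _ ⟨x, rfl⟩
    exact (Submodule.Quotient.mk_eq_zero K₁).2 (hrel x))
  let u₁ : ((Fin k' → (MvPolynomial (Fin n) R₀)) ⧸ K₁') →ₗ[(MvPolynomial (Fin n) R₀)] (Fin k → (MvPolynomial (Fin n) R₀)) ⧸ K₁ := K₁'.liftQ (K₁.mkQ ∘ₗ T₁) hle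
  have hTf : ∀ v, T (f' v) = f (T₁ v) := by
    have : (T.restrictScalars (MvPolynomial (Fin n) R₀)) ∘ₗ f' = f ∘ₗ T₁ := by
      refine LinearMap.pi_ext' fun i => LinearMap.ext_ring ?_
      funext j
      show T (f' (Pi.single i 1)) j = algebraMap (MvPolynomial (Fin n) R₀) (MvPolynomial (Fin n) A) (T₁ (Pi.single i 1) j)
      rw [hT, ht, show f' (Pi.single i 1) = Pi.single i 1 from funext fun l => by
        show algebraMap (MvPolynomial (Fin n) R₀) (MvPolynomial (Fin n) A) ((Pi.single i (1 : (MvPolynomial (Fin n) R₀)) : Fin k' → (MvPolynomial (Fin n) R₀)) l) = _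
        rcases eq_or_ne l i with rfl | hl
        · simp
        · simp [Pi.single_eq_of_ne hl]]
    exact fun v => LinearMap.congr_fun this v
  have hpi' : Module.Finite (MvPolynomial (Fin n) R₀) (Fin k' → (MvPolynomial (Fin n) R₀)) :=
    @Module.Finite.pi _ _ _ _ _ _ _ (fun _ => Module.Finite.self _)
  have hpi : Module.Finite (MvPolynomial (Fin n) R₀) (Fin k → (MvPolynomial (Fin n) R₀)) :=
    @Module.Finite.pi _ _ _ _ _ _ _ (fun _ => Module.Finite.self _)
  have hfin' : Module.Finite (MvPolynomial (Fin n) R₀) ((Fin k' → (MvPolynomial (Fin n) R₀)) ⧸ K₁') :=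
    Module.Finite.of_surjective K₁'.mkQ K₁'.mkQ_surjective
  have hfin₁ : Module.Finite (MvPolynomial (Fin n) R₀) ((Fin k → (MvPolynomial (Fin n) R₀)) ⧸ K₁) :=
    Module.Finite.of_surjective K₁.mkQ K₁.mkQ_surjective
  let θ : MvPolynomial (Fin n) R₀ →ₐ[R₀] MvPolynomial (Fin n) A :=
    IsScalarTower.toAlgHom R₀ (MvPolynomial (Fin n) R₀) (MvPolynomial (Fin n) A)
  refine ⟨{ R₀ := R₀, noeth := inferInstance, P₀ := MvPolynomial (Fin n) R₀,
            N' := (Fin k' → MvPolynomial (Fin n) R₀) ⧸ K₁', N := (Fin k → MvPolynomial (Fin n) R₀) ⧸ K₁,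
            u₀ := u₁, θ := θ, μ' := μ'.restrictScalars R₀, μ := μ.restrictScalars R₀,
            finN' := hfin', finN := hfin₁, bc' := hμ', bc := hμ,
            smul' := fun c m => (μ'.map_smul c m).trans (algebraMap_smul _ c _).symm,
            smul := fun c m => (μ.map_smul c m).trans (algebraMap_smul _ c _).symm,
            comm := fun m => ?_, span := fun b => ?_ }⟩
  · obtain ⟨m, rfl⟩ := Submodule.Quotient.mk_surjective _ m
    show u (Submodule.Quotient.mk (f' m)) = Submodule.Quotient.mk (f (T₁ m))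
    rw [hu, hTf]
  · induction b using MvPolynomial.induction_on' with
    | monomial d a =>
      have : MvPolynomial.monomial d a = a • θ (MvPolynomial.monomial d 1) := by
        show _ = a • MvPolynomial.map (algebraMap R₀ A) (MvPolynomial.monomial d 1)
        rw [MvPolynomial.map_monomial, map_one, MvPolynomial.smul_monomial, smul_eq_mul, mul_one]
      rw [this]
      exact Submodule.smul_mem _ _ (Submodule.subset_span ⟨_, rfl⟩)
    | add p q hp hq => exact Submodule.add_mem _ hp hq

set_option maxHeartbeats 1600000 in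
theorem nonempty_mapModel {A B M' M : Type u} [CommRing A] [CommRing B] [Algebra A B]
    [Algebra.FinitePresentation A B] [AddCommGroup M'] [Module B M'] [Module A M']
    [IsScalarTower A B M'] [AddCommGroup M] [Module B M] [Module A M] [IsScalarTower A B M]
    [Module.FinitePresentation B M'] [Module.FinitePresentation B M] (u : M' →ₗ[B] M) :
    Nonempty (MapModel A B u) := by
  obtain ⟨n, π, hπ, hπker⟩ := ‹Algebra.FinitePresentation A B›.out
  let _ : Algebra (MvPolynomial (Fin n) A) B := π.toRingHom.toAlgebra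
  let _ := Module.compHom M' π.toRingHom
  let _ := Module.compHom M π.toRingHom
  have : IsScalarTower (MvPolynomial (Fin n) A) B M' := .of_algebraMap_smul fun _ _ => rfl
  have : IsScalarTower (MvPolynomial (Fin n) A) B M := .of_algebraMap_smul fun _ _ => rfl
  have : IsScalarTower A (MvPolynomial (Fin n) A) M' := .of_algebraMap_smul fun a m => by
    show π (algebraMap A _ a) • m = a • m
    rw [π.commutes, algebraMap_smul]
  have : IsScalarTower A (MvPolynomial (Fin n) A) M := .of_algebraMap_smul fun a m => by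
    show π (algebraMap A _ a) • m = a • m
    rw [π.commutes, algebraMap_smul]
  obtain ⟨k', s', ⟨e'⟩⟩ := Cons.exists_presentation (P := MvPolynomial (Fin n) A) (C := B) (M := M')
    hπ hπker
  obtain ⟨k, s, ⟨e⟩⟩ := Cons.exists_presentation (P := MvPolynomial (Fin n) A) (C := B) (M := M)
    hπ hπker
  let u₀ := (e.symm.toLinearMap ∘ₗ u.restrictScalars (MvPolynomial (Fin n) A)) ∘ₗ e'.toLinearMap
  obtain ⟨T, hT⟩ := Module.projective_lifting_property
    (Submodule.span (MvPolynomial (Fin n) A) (s : Set (Fin k → MvPolynomial (Fin n) A))).mkQ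
    (u₀ ∘ₗ (Submodule.span (MvPolynomial (Fin n) A) (s' : Set (Fin k' → MvPolynomial (Fin n) A))).mkQ)
    (Submodule.mkQ_surjective _)
  have hu₀ : ∀ v, u₀ (Submodule.Quotient.mk v) = Submodule.Quotient.mk (T v) := fun v =>
    (LinearMap.congr_fun hT v).symm
  have hTs : ∀ x ∈ s', T x ∈ Submodule.span (MvPolynomial (Fin n) A) (s : Set _) := fun x hx => by
    rw [← Submodule.Quotient.mk_eq_zero, ← hu₀,
      (Submodule.Quotient.mk_eq_zero _).2 (Submodule.subset_span hx), map_zero]
  have hcomm : ∀ m, e (u₀ m) = u (e' m) := fun m => e.apply_symm_apply _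
  obtain ⟨W⟩ := nonempty_mapModel_mvPolynomial A n s' s T hTs u₀ hu₀
  letI := W.ringP; letI := W.algP; letI := W.acgN'; letI := W.modN'; letI := W.modPN'
  haveI := W.towN'; letI := W.acgN; letI := W.modN; letI := W.modPN; haveI := W.towN
  haveI := W.ftP; haveI := W.finN'; haveI := W.finN
  refine ⟨{ R₀ := W.R₀, noeth := W.noeth, P₀ := W.P₀, N' := W.N', N := W.N, u₀ := W.u₀,
            θ := (π.restrictScalars W.R₀).comp W.θ,
            μ' := ((e'.restrictScalars A).toLinearMap.restrictScalars W.R₀) ∘ₗ W.μ',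
            μ := ((e.restrictScalars A).toLinearMap.restrictScalars W.R₀) ∘ₗ W.μ,
            bc' := IsBaseChange.of_equiv (W.bc'.equiv.trans (e'.restrictScalars A)) fun m => by simp,
            bc := IsBaseChange.of_equiv (W.bc.equiv.trans (e.restrictScalars A)) fun m => by simp,
            smul' := fun c m => by
              show e' (W.μ' (c • m)) = π (W.θ c) • e' (W.μ' m)
              rw [W.smul' c m, map_smul]
              rfl
            smul := fun c m => by
              show e (W.μ (c • m)) = π (W.θ c) • e (W.μ m)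
              rw [W.smul c m, map_smul]
              rfl
            comm := fun m => by
              show u (e' (W.μ' m)) = e (W.μ (W.u₀ m))
              rw [← W.comm, hcomm]
            span := fun b => ?_ }⟩
  obtain ⟨p, rfl⟩ := hπ b
  have := W.span p
  induction this using Submodule.span_induction with
  | mem x hx => obtain ⟨y, rfl⟩ := hx; exact Submodule.subset_span ⟨y, rfl⟩
  | zero => rw [map_zero]; exact zero_mem _
  | add x y _ _ hx hy => rw [map_add]; exact add_mem hx hy
  | smul a x _ hx => rw [map_smul]; exact Submodule.smul_mem _ _ hx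

end Groth.Agent.EGA43.InjFibre
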