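import Groth.Agent.EGA43.InjFibre.Basic

/-!
# Injective on the fibre implies universally injective: Noetherian case
-/

set_option autoImplicit false
set_option backward.isDefEq.respectTransparency false

universe u

open TensorProduct Function

namespace Groth.Agent.EGA43.InjFibre

open IsLocalRing in
/-- The local statement. -/
theorem injective_and_flat {R S N' N : Type u} [CommRing R] [IsLocalRing R] [CommRing S]
    [IsLocalRing S] [IsNoetherianRing S] [Algebra R S] [IsLocalHom (algebraMap R S)]
    [AddCommGroup N'] [Module S N'] [Module R N'] [IsScalarTower R S N'] [Module.Finite S N']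
    [AddCommGroup N] [Module R N] [Module.Flat R N] (w : N' →ₗ[R] N)
    (h : ∀ x, w x ∈ maximalIdeal R • (⊤ : Submodule R N) → x ∈ maximalIdeal R • (⊤ : Submodule R N')) :
    Injective w ∧ Module.Flat R (N ⧸ LinearMap.range w) := by
  have hjac : (maximalIdeal R).map (algebraMap R S) ≤ Ideal.jacobson ⊥ := by
    rw [jacobson_eq_maximalIdeal ⊥ bot_ne_top, Ideal.map_le_iff_le_comap]
    exact fun a ha => map_nonunit (algebraMap R S) a ha
  have hk : Injective (w.lTensor (ResidueField R)) := by
    refine (injective_iff_map_eq_zero _).2 fun t ht => ?_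
    obtain ⟨x, rfl⟩ := TensorProduct.mk_surjective R N' (ResidueField R)
      (Ideal.Quotient.mk_surjective (I := maximalIdeal R)) t
    rw [TensorProduct.mk_apply, LinearMap.lTensor_tmul] at ht
    have hx : w x ∈ maximalIdeal R • (⊤ : Submodule R N) := by
      rw [← LinearMap.ker_tensorProductMk]; exact ht
    have := h x hx
    rwa [← LinearMap.ker_tensorProductMk] at this
  exact ⟨FlatCrit.injective_of_injective_mod_max w hk hjac,
    FlatCrit.flat_coker_of_injective_mod_max w hk hjac⟩

variable {A B M' M : Type u} [CommRing A] [CommRing B] [Algebra A B] [AddCommGroup M']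
  [Module B M'] [Module A M'] [IsScalarTower A B M'] [AddCommGroup M] [Module B M] [Module A M]
  [IsScalarTower A B M] {u : M' →ₗ[B] M} {q : PrimeSpectrum B}

set_option maxHeartbeats 800000 in
theorem uInjAt_of_fibInjAt_local {R S N' N : Type u} [CommRing R] [IsLocalRing R] [CommRing S]
    [IsLocalRing S] [IsNoetherianRing S] [Algebra A R]
    [IsLocalization.AtPrime R (q.asIdeal.comap (algebraMap A B))]
    [Algebra R S] [IsLocalHom (algebraMap R S)]
    [Algebra B S] [IsLocalization.AtPrime S q.asIdeal] [Algebra A S] [IsScalarTower A R S]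
    [IsScalarTower A B S]
    [AddCommGroup N'] [Module S N'] [Module R N'] [IsScalarTower R S N'] [Module.Finite S N']
    [Module A N'] [IsScalarTower A R N'] [Module B N'] [IsScalarTower B S N'] [IsScalarTower A B N']
    [AddCommGroup N] [Module S N] [Module R N] [IsScalarTower R S N] [Module A N]
    [IsScalarTower A R N] [Module B N] [IsScalarTower B S N] [IsScalarTower A B N] [Module.Flat A N]
    (φ' : M' →ₗ[B] N') [IsLocalizedModule q.asIdeal.primeCompl φ']
    (φ : M →ₗ[B] N) [IsLocalizedModule q.asIdeal.primeCompl φ]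
    (w : N' →ₗ[R] N) (hw : ∀ m, w (φ' m) = φ (u m))
    (hwB : ∀ (b : B) x, w (b • x) = b • w x) (h : FibInjAt A B u q) :
    Injective w ∧ Module.Flat A (N ⧸ LinearMap.range w) := by
  let p := q.asIdeal.comap (algebraMap A B)
  have : Module.Flat R N :=
    (Module.flat_iff_of_isLocalization R p.primeCompl N).2 inferInstance
  have hmax : IsLocalRing.maximalIdeal R = p.map (algebraMap A R) :=
    (IsLocalization.AtPrime.map_eq_maximalIdeal p R).symm
  have hloc : ∀ {L L₀ : Type u} [AddCommGroup L] [Module B L] [Module A L] [IsScalarTower A B L]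
      [AddCommGroup L₀] [Module B L₀] [Module A L₀] [IsScalarTower A B L₀] [Module R L₀]
      [IsScalarTower A R L₀] (ψ : L →ₗ[B] L₀) [IsLocalizedModule q.asIdeal.primeCompl ψ] (l : L),
      (ψ l ∈ IsLocalRing.maximalIdeal R • (⊤ : Submodule R L₀)) →
        ∃ c ∉ q.asIdeal, c • l ∈ p • (⊤ : Submodule A L) := fun {L L₀} _ _ _ _ _ _ _ _ _ _ ψ _ l hl => by
    have hl' : ψ l ∈ p • (⊤ : Submodule A L₀) := by
      have := hl
      rw [hmax] at this
      have e := Ideal.smul_restrictScalars (R := A) (M := L₀) p (⊤ : Submodule R L₀)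
      rw [Submodule.restrictScalars_top] at e
      rw [← e, Submodule.restrictScalars_mem]
      exact this
    have key : ∀ y ∈ p • (⊤ : Submodule A L₀), ∃ (c : q.asIdeal.primeCompl) (l' : L),
        l' ∈ p • (⊤ : Submodule A L) ∧ (c : B) • y = ψ l' := fun y hy => by
      refine Submodule.smul_induction_on hy (fun a ha z _ => ?_) ?_
      · obtain ⟨⟨z₀, c⟩, hz⟩ := IsLocalizedModule.surj q.asIdeal.primeCompl ψ z
        refine ⟨c, a • z₀, Submodule.smul_mem_smul ha trivial, ?_⟩
        rw [smul_comm, LinearMap.map_smul_of_tower]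
        exact congrArg (a • ·) hz
      · rintro y z ⟨c, l₁, h₁, e₁⟩ ⟨d, l₂, h₂, e₂⟩
        refine ⟨c * d, (d : B) • l₁ + (c : B) • l₂, ?_, ?_⟩
        · have hsm : ∀ (b : B) (x : L), x ∈ p • (⊤ : Submodule A L) →
              b • x ∈ p • (⊤ : Submodule A L) := fun b x hx => by
            refine Submodule.smul_induction_on hx (fun a ha v _ => ?_) fun v v' hv hv' => by
              rw [smul_add]; exact add_mem hv hv'
            rw [smul_comm]
            exact Submodule.smul_mem_smul ha trivial
          exact add_mem (hsm _ _ h₁) (hsm _ _ h₂)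
        · rw [map_add, map_smul, map_smul, ← e₁, ← e₂, Submonoid.coe_mul, smul_add, mul_smul,
            mul_smul, smul_comm (c : B) (d : B) y]
    obtain ⟨c, l', hl'm, e⟩ := key _ hl'
    rw [← map_smul] at e
    obtain ⟨d, hd⟩ := IsLocalizedModule.exists_of_eq (S := q.asIdeal.primeCompl) e
    refine ⟨(d : B) * c, fun hm => (q.isPrime.mem_or_mem hm).elim d.2 c.2, ?_⟩
    rw [mul_smul, show (d : B) • (c : B) • l = (d : B) • l' from hd]
    refine Submodule.smul_induction_on hl'm (fun a ha v _ => ?_) fun v v' hv hv' => by
      rw [smul_add]; exact add_mem hv hv'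
    rw [smul_comm]
    exact Submodule.smul_mem_smul ha trivial
  have hfib : ∀ x, w x ∈ IsLocalRing.maximalIdeal R • (⊤ : Submodule R N) →
      x ∈ IsLocalRing.maximalIdeal R • (⊤ : Submodule R N') := fun x hx => by
    obtain ⟨⟨m, c⟩, hm⟩ := IsLocalizedModule.surj q.asIdeal.primeCompl φ' x
    have hm' : φ' m = (c : B) • x := hm.symm
    have hsmB : ∀ {L₀ : Type u} [AddCommGroup L₀] [Module B L₀] [Module S L₀] [Module R L₀]
        [IsScalarTower B S L₀] [IsScalarTower R S L₀] (b : B) (z : L₀),
        z ∈ IsLocalRing.maximalIdeal R • (⊤ : Submodule R L₀) →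
          b • z ∈ IsLocalRing.maximalIdeal R • (⊤ : Submodule R L₀) := fun b z hz => by
      refine Submodule.smul_induction_on hz (fun r hr v _ => ?_) fun v v' hv hv' => by
        rw [smul_add]; exact add_mem hv hv'
      rw [← algebraMap_smul S b (r • v), ← algebraMap_smul S r v, smul_comm, algebraMap_smul S r]
      exact Submodule.smul_mem_smul hr trivial
    obtain ⟨d, hd, hdm⟩ := hloc φ (u m) (by
      rw [← hw, hm', hwB]
      exact hsmB _ _ hx)
    obtain ⟨e, he, hem⟩ := h m ⟨d, hd, hdm⟩
    have hmem : (e * c) • x ∈ IsLocalRing.maximalIdeal R • (⊤ : Submodule R N') := by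
      rw [mul_smul, ← hm', ← map_smul]
      generalize e • m = l at hem
      refine Submodule.smul_induction_on hem (fun a ha v _ => ?_) fun v v' hv hv' => by
        rw [map_add]; exact add_mem hv hv'
      rw [LinearMap.map_smul_of_tower, ← algebraMap_smul R a]
      exact Submodule.smul_mem_smul (hmax ▸ Ideal.mem_map_of_mem _ ha) trivial
    have hu : IsUnit (algebraMap B S (e * c)) :=
      IsLocalization.map_units S (⟨e * c, fun hm => (q.isPrime.mem_or_mem hm).elim he c.2⟩ :
        q.asIdeal.primeCompl)
    obtain ⟨s, hs⟩ := hu.exists_left_inv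
    have hxeq : x = s • ((e * c) • x) := by
      rw [← algebraMap_smul S (e * c) x, ← mul_smul, hs, one_smul]
    rw [hxeq]
    refine Submodule.smul_induction_on hmem (fun r hr v _ => ?_) fun v v' hv hv' => by
      rw [smul_add]; exact add_mem hv hv'
    rw [← algebraMap_smul S r v, smul_comm, algebraMap_smul]
    exact Submodule.smul_mem_smul hr trivial
  obtain ⟨hinj, hflat⟩ := injective_and_flat (S := S) w hfib
  exact ⟨hinj, (Module.flat_iff_of_isLocalization R p.primeCompl _).1 hflat⟩

set_option maxHeartbeats 800000 in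
/-- Injective on the fibre into a flat module implies universally injective (Noetherian case). -/
theorem uInjAt_of_fibInjAt_of_isNoetherianRing [IsNoetherianRing B] [Module.Finite B M']
    (hM : Module.Flat A (LocalizedModule q.asIdeal.primeCompl M)) (h : FibInjAt A B u q) :
    UInjAt A B u q := by
  let p := q.asIdeal.comap (algebraMap A B)
  let R := Localization.AtPrime p
  let S := Localization.AtPrime q.asIdeal
  let N' := LocalizedModule q.asIdeal.primeCompl M'
  let N := LocalizedModule q.asIdeal.primeCompl M
  let j : R →+* S := Localization.localRingHom p q.asIdeal (algebraMap A B) rfl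
  let _ : Algebra R S := j.toAlgebra
  have : IsLocalHom (algebraMap R S) := Localization.isLocalHom_localRingHom p q.asIdeal (algebraMap A B) rfl
  have : IsScalarTower A R S := IsScalarTower.of_algebraMap_eq fun a => by
    rw [IsScalarTower.algebraMap_apply A B S]
    exact (Localization.localRingHom_to_map p q.asIdeal (algebraMap A B) rfl a).symm
  let _ : Module R N' := Module.compHom N' j
  let _ : Module R N := Module.compHom N j
  have : IsScalarTower R S N' := .of_algebraMap_smul fun _ _ => rfl
  have : IsScalarTower R S N := .of_algebraMap_smul fun _ _ => rfl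
  have : IsScalarTower A R N' := .of_algebraMap_smul fun a x => by
    rw [← algebraMap_smul S (algebraMap A R a), ← IsScalarTower.algebraMap_apply, algebraMap_smul]
  have : IsScalarTower A R N := .of_algebraMap_smul fun a x => by
    rw [← algebraMap_smul S (algebraMap A R a), ← IsScalarTower.algebraMap_apply, algebraMap_smul]
  let w : N' →ₗ[R] N := ((LocalizedModule.map q.asIdeal.primeCompl u).restrictScalars R)
  have hb := IsLocalizedModule.isBaseChange q.asIdeal.primeCompl S
    (LocalizedModule.mkLinearMap q.asIdeal.primeCompl M')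
  have : Module.Finite S N' := Module.Finite.equiv hb.equiv
  have : IsNoetherianRing S := IsLocalization.isNoetherianRing q.asIdeal.primeCompl S inferInstance
  have hMN : Module.Flat A N := hM
  obtain ⟨hinj, hflat⟩ := uInjAt_of_fibInjAt_local (A := A) (u := u) (q := q) (R := R) (S := S)
    (LocalizedModule.mkLinearMap q.asIdeal.primeCompl M')
    (LocalizedModule.mkLinearMap q.asIdeal.primeCompl M) w
    (fun m => by simp [w, LocalizedModule.map_mk, LocalizedModule.mkLinearMap_apply])
    (fun b x => (LocalizedModule.map q.asIdeal.primeCompl u).map_smul_of_tower b x) h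
  have hw : ∀ x, w x = LocalizedModule.map q.asIdeal.primeCompl u x := fun x => rfl
  have hinj' : Injective (LocalizedModule.map q.asIdeal.primeCompl u) := fun x y hxy =>
    hinj (by rw [hw, hw, hxy])
  clear_value w
  let gq : N →ₗ[A] N ⧸ LinearMap.range w := (LinearMap.range w).mkQ.restrictScalars A
  have hgq : ∀ y, gq y = Submodule.Quotient.mk y := fun y => rfl
  exact uInjAt_of_exact_localized (P := N ⧸ LinearMap.range w) hinj' gq
    (fun y => by
      obtain ⟨y, rfl⟩ := Submodule.Quotient.mk_surjective _ y
      exact ⟨y, hgq y⟩)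
    (fun y => by
      rw [hgq, Submodule.Quotient.mk_eq_zero, LinearMap.mem_range]
      exact exists_congr fun x => by rw [hw]; rfl)

end Groth.Agent.EGA43.InjFibre
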