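import Groth.Agent.EGA43.InjFibre.RegularSeq
import Groth.Agent.EGA43.InjFibre.StalkBridge
import Groth.Agent.EGA43.QcohFlat
import Mathlib.RingTheory.Spectrum.Prime.Module
import Groth.Prelude.Def_Coh
import Groth.Prelude.Def_FlatMod2

/-!
# The locus where a sequence is regular on the fibres of a flat module is open (EGA IV 11.3.8)
-/

set_option autoImplicit false
set_option backward.isDefEq.respectTransparency false

universe u

open CategoryTheory CategoryTheory.Limits AlgebraicGeometry Opposite TopologicalSpace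
open Groth.Agent.Coherent TensorProduct Function RingTheory.Sequence
open scoped Pointwise

namespace Groth.Agent.EGA43.InjFibre

section Algebra

variable {A B : Type u} [CommRing A] [CommRing B] [Algebra A B]

/-- `ψ : M → G` exhibits `G` as the fibre of `M` at `q`. -/
structure IsFibModel (q : PrimeSpectrum B) {M G : Type u} [AddCommGroup M] [Module B M] [Module A M]
    [IsScalarTower A B M] [AddCommGroup G] [Module B G] (ψ : M →ₗ[B] G) : Prop where
  units : ∀ c ∉ q.asIdeal, Bijective fun z : G => c • z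
  surj : ∀ z : G, ∃ c ∉ q.asIdeal, ∃ m, c • z = ψ m
  ker : ∀ m, ψ m = 0 ↔
    ∃ c ∉ q.asIdeal, c • m ∈ q.asIdeal.comap (algebraMap A B) • (⊤ : Submodule A M)

variable {q : PrimeSpectrum B} {M G : Type u} [AddCommGroup M] [Module B M] [Module A M]
  [IsScalarTower A B M] [AddCommGroup G] [Module B G] {ψ : M →ₗ[B] G}

theorem IsFibModel.isSMulRegular_iff (h : IsFibModel (A := A) q ψ) (b : B) :
    IsSMulRegular G b ↔ FibInjAt A B (LinearMap.lsmul B M b) q := by
  constructor
  · intro hb m hm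
    rw [← h.ker]
    refine hb ?_
    show b • ψ m = b • 0
    rw [smul_zero, ← map_smul, h.ker]
    exact hm
  · intro hu
    refine isSMulRegular_iff_right_eq_zero_of_smul.2 fun z hz => ?_
    obtain ⟨c, hc, m, hm⟩ := h.surj z
    refine (h.units c hc).1 (show c • z = c • 0 from ?_)
    rw [smul_zero, hm, h.ker]
    refine hu m ((h.ker _).1 ?_)
    show ψ (b • m) = 0
    rw [map_smul, ← hm, smul_comm, hz, smul_zero]

theorem mk_mem_smul_top_iff (N' : Submodule B M) (p : Ideal A) (m : M) :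
    (Submodule.Quotient.mk m : M ⧸ N') ∈ p • (⊤ : Submodule A (M ⧸ N')) ↔
      ∃ x ∈ p • (⊤ : Submodule A M), x - m ∈ N' := by
  let π : M →ₗ[A] M ⧸ N' :=
    { toFun := Submodule.Quotient.mk
      map_add' := fun _ _ => rfl
      map_smul' := fun _ _ => rfl }
  have hπ : Surjective π := Submodule.Quotient.mk_surjective N'
  have htop : (⊤ : Submodule A (M ⧸ N')) = Submodule.map π ⊤ := by
    rw [Submodule.map_top, LinearMap.range_eq_top.2 hπ]
  rw [htop, ← Submodule.map_smul'', Submodule.mem_map]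
  exact exists_congr fun x => and_congr_right fun _ => Submodule.Quotient.eq N'

theorem IsFibModel.quotSMulTop (h : IsFibModel (A := A) q ψ) (b : B) :
    IsFibModel (A := A) q ((b • (⊤ : Submodule B M)).mapQ (b • (⊤ : Submodule B G)) ψ
      (fun x hx => by
        obtain ⟨y, -, rfl⟩ := (Submodule.mem_smul_pointwise_iff_exists _ _ _).1 hx
        exact (Submodule.mem_smul_pointwise_iff_exists _ _ _).2 ⟨ψ y, trivial, (map_smul ψ b y).symm⟩)) where
  units c hc := by
    constructor
    · intro x y hxy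
      rw [← sub_eq_zero]
      replace hxy : c • (x - y) = 0 := by rw [smul_sub, sub_eq_zero]; exact hxy
      obtain ⟨d, hd⟩ := Submodule.Quotient.mk_surjective _ (x - y)
      rw [← hd] at hxy ⊢
      rw [← Submodule.Quotient.mk_smul, Submodule.Quotient.mk_eq_zero,
        Submodule.mem_smul_pointwise_iff_exists] at hxy
      obtain ⟨e, -, he⟩ := hxy
      obtain ⟨e', rfl⟩ := (h.units c hc).2 e
      rw [Submodule.Quotient.mk_eq_zero, Submodule.mem_smul_pointwise_iff_exists]
      exact ⟨e', trivial, (h.units c hc).1 (show c • b • e' = c • d by rw [← he, smul_comm])⟩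
    · intro z
      obtain ⟨z, rfl⟩ := Submodule.Quotient.mk_surjective _ z
      obtain ⟨w, rfl⟩ := (h.units c hc).2 z
      exact ⟨Submodule.Quotient.mk w, (Submodule.Quotient.mk_smul _ c w).symm⟩
  surj z := by
    obtain ⟨z, rfl⟩ := Submodule.Quotient.mk_surjective _ z
    obtain ⟨c, hc, m, hm⟩ := h.surj z
    exact ⟨c, hc, Submodule.Quotient.mk m, by rw [← Submodule.Quotient.mk_smul, hm, Submodule.mapQ_apply]⟩
  ker m := by
    obtain ⟨m, rfl⟩ := Submodule.Quotient.mk_surjective _ m
    rw [Submodule.mapQ_apply, Submodule.Quotient.mk_eq_zero, Submodule.mem_smul_pointwise_iff_exists]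
    constructor
    · rintro ⟨z, -, hz⟩
      obtain ⟨c, hc, m', hm'⟩ := h.surj z
      obtain ⟨d, hd, hdm⟩ := (h.ker (c • m - b • m')).1
        (by rw [map_sub, map_smul, map_smul, ← hz, ← hm', smul_comm, sub_self])
      refine ⟨d * c, q.asIdeal.primeCompl.mul_mem hd hc, ?_⟩
      rw [← Submodule.Quotient.mk_smul, mk_mem_smul_top_iff]
      refine ⟨_, hdm, ?_⟩
      rw [smul_sub, ← mul_smul, sub_sub_cancel_left, neg_mem_iff, smul_comm]
      exact Submodule.smul_mem_pointwise_smul _ _ _ trivial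
    · rintro ⟨c, hc, hcm⟩
      rw [← Submodule.Quotient.mk_smul, mk_mem_smul_top_iff] at hcm
      obtain ⟨x, hx, hxm⟩ := hcm
      rw [Submodule.mem_smul_pointwise_iff_exists] at hxm
      obtain ⟨y, -, hy⟩ := hxm
      obtain ⟨w, hw⟩ := (h.units c hc).2 (ψ y)
      have hx0 : ψ x = 0 := (h.ker x).2 ⟨1, q.asIdeal.primeCompl.one_mem, by rwa [one_smul]⟩
      refine ⟨-w, trivial, (h.units c hc).1 ?_⟩
      show c • b • -w = c • ψ m
      have hw' : c • w = ψ y := hw
      rw [smul_comm c b, smul_neg, hw', smul_neg, ← map_smul, hy, map_sub, hx0, zero_sub, neg_neg,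
        map_smul]

variable (A)

theorem exists_open_weaklyRegular [IsNoetherianRing A] [Algebra.FiniteType A B] (g : List B) :
    ∀ (M : Type u) [AddCommGroup M] [Module B M] [Module A M] [IsScalarTower A B M] [Module.Finite B M],
      ∃ (W : Set (PrimeSpectrum B)) (_ : IsOpen W), ∀ (q : PrimeSpectrum B) (G : Type u) [AddCommGroup G]
        [Module B G] (ψ : M →ₗ[B] G), IsFibModel (A := A) q ψ →
          (q ∈ W ↔ Module.Flat A (LocalizedModule q.asIdeal.primeCompl M) ∧ IsWeaklyRegular G g) := by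
  haveI : Algebra.FinitePresentation A B := Algebra.FinitePresentation.of_finiteType.mp inferInstance
  haveI : IsNoetherianRing B := Algebra.FiniteType.isNoetherianRing A B
  induction g with
  | nil =>
    intro M _ _ _ _ _
    haveI := Module.finitePresentation_of_finite B M
    exact ⟨_, FlatDescent.isOpen_setOf_flat (A := A) (S := B) (N := M),
      fun q G _ _ ψ _ => ⟨fun h => ⟨h, IsWeaklyRegular.nil _ _⟩, fun h => h.1⟩⟩
  | cons b t ih =>
    intro M _ _ _ _ _
    haveI := Module.finitePresentation_of_finite B M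
    haveI := Module.finitePresentation_of_finite B (QuotSMulTop b M)
    obtain ⟨W', hW', hWt⟩ := ih (QuotSMulTop b M)
    let u := LinearMap.lsmul B M b
    refine ⟨{q | Module.Flat A (LocalizedModule q.asIdeal.primeCompl M)} ∩
      (Module.support B (LinearMap.ker u))ᶜ ∩
      {q | Module.Flat A (LocalizedModule q.asIdeal.primeCompl (QuotSMulTop b M))} ∩ W',
      ((((FlatDescent.isOpen_setOf_flat (A := A) (S := B) (N := M)).inter
        (Module.isClosed_support (R := B) (M := LinearMap.ker u)).isOpen_compl).inter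
        (FlatDescent.isOpen_setOf_flat (A := A) (S := B) (N := QuotSMulTop b M))).inter hW'),
      fun q G _ _ ψ hψ => ?_⟩
    rw [isWeaklyRegular_cons_iff]
    constructor
    · rintro ⟨⟨⟨h1, h2⟩, h3⟩, h4⟩
      have hinj : Injective (LocalizedModule.map q.asIdeal.primeCompl u) := by
        refine injective_localized_of_forall u q fun m hm => ?_
        obtain ⟨r, hr, hrm⟩ := (Module.notMem_support_iff'.1 h2) ⟨m, hm⟩
        exact ⟨r, hr, congrArg Subtype.val hrm⟩
      refine ⟨h1, (hψ.isSMulRegular_iff b).2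
        (uInjAt_of_flat_coker hinj _ (Submodule.mkQ_surjective _) (exact_mkQ_lsmul b) h3).fibInjAt, ?_⟩
      exact ((hWt q _ _ (hψ.quotSMulTop b)).1 h4).2
    · rintro ⟨h1, hb, ht⟩
      have hU : UInjAt A B u q := uInjAt_of_fibInjAt h1 ((hψ.isSMulRegular_iff b).1 hb)
      have h3 := hU.flat_coker h1 _ (Submodule.mkQ_surjective (b • (⊤ : Submodule B M))) (exact_mkQ_lsmul b)
      refine ⟨⟨⟨h1, Module.notMem_support_iff'.2 fun m => ?_⟩, h3⟩, (hWt q _ _ (hψ.quotSMulTop b)).2 ⟨h3, ht⟩⟩
      obtain ⟨c, hc, hcm⟩ := hU.exists_smul_eq_zero m.2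
      exact ⟨c, hc, Subtype.ext hcm⟩

end Algebra

variable {X Y : Scheme.{u}}

theorem isOpen_fibreWeaklyRegular [IsLocallyNoetherian Y] (f : X ⟶ Y) [LocallyOfFiniteType f]
    (F : X.Modules) (hF : Coh.IsCoh F) (hflat : FlatMod.IsFlatOver f F) (n : ℕ) (g : Fin n → Γ(X, ⊤)) :
    IsOpen {x : X |
      RingTheory.Sequence.IsWeaklyRegular
        (↑(F.presheaf.stalk x) ⧸ (Ideal.map (f.stalkMap x).hom (IsLocalRing.maximalIdeal ↑(Y.presheaf.stalk (f x))) •
          (⊤ : Submodule ↑(X.presheaf.stalk x) ↑(F.presheaf.stalk x))))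
        (List.ofFn fun i => (X.presheaf.germ ⊤ x trivial) (g i))} := by
  have : IsLocallyNoetherian X := LocallyOfFiniteType.isLocallyNoetherian f
  haveI := hF.1
  rw [isOpen_iff_forall_mem_open]
  intro x₀ hx₀
  obtain ⟨V, hV, hxV, -⟩ := exists_isAffineOpen_mem_and_subset (x := f x₀) (U := ⊤) (Set.mem_univ _)
  obtain ⟨U, hU, hxU, e⟩ := exists_isAffineOpen_mem_and_subset (x := x₀) (U := f ⁻¹ᵁ V) hxV
  let _ := (f.appLE V U e).hom.toAlgebra
  let _ := QcohFlat.overModule f F V U e
  have : IsScalarTower Γ(Y, V) Γ(X, U) Γ(F, U) := IsScalarTower.of_algebraMap_smul fun _ _ => rfl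
  have : IsNoetherianRing Γ(Y, V) := IsLocallyNoetherian.component_noetherian ⟨V, hV⟩
  have : Algebra.FiniteType Γ(Y, V) Γ(X, U) := f.finiteType_appLE hV hU e
  have : Module.Finite Γ(X, U) Γ(F, U) := ((Coherent.isCoh_iff_finite_sections F).1 hF).2 U hU
  let res : Γ(X, ⊤) →+* Γ(X, U) := (X.presheaf.map (homOfLE le_top).op).hom
  obtain ⟨W, hW, hWq⟩ := exists_open_weaklyRegular Γ(Y, V) (List.ofFn fun i => res (g i)) Γ(F, U)
  have key : ∀ (x : X) (hx : x ∈ U), hU.primeIdealOf ⟨x, hx⟩ ∈ W ↔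
      RingTheory.Sequence.IsWeaklyRegular
        (↑(F.presheaf.stalk x) ⧸ (Ideal.map (f.stalkMap x).hom (IsLocalRing.maximalIdeal ↑(Y.presheaf.stalk (f x))) •
          (⊤ : Submodule ↑(X.presheaf.stalk x) ↑(F.presheaf.stalk x))))
        (List.ofFn fun i => (X.presheaf.germ ⊤ x trivial) (g i)) := by
    intro x hx
    let _ := (X.presheaf.germ U x hx).hom.toAlgebra
    let _ := Module.compHom (F.presheaf.stalk x) (X.presheaf.germ U x hx).hom
    have : IsScalarTower Γ(X, U) (X.presheaf.stalk x) (F.presheaf.stalk x) :=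
      IsScalarTower.of_algebraMap_smul fun _ _ => rfl
    let φ : Γ(F, U) →ₗ[Γ(X, U)] F.presheaf.stalk x :=
      { toFun := fun m => F.presheaf.germ U x hx m
        map_add' := fun a b => map_add _ a b
        map_smul' := fun r m => QCohLoc.germ_smul' F hx r m }
    have hlocM := QcohFP.isLocalizedModule_germ F hU hx φ fun _ => rfl
    have hlocR := hU.isLocalization_stalk ⟨x, hx⟩
    set q := hU.primeIdealOf ⟨x, hx⟩
    set J : Ideal ↑(X.presheaf.stalk x) :=
      Ideal.map (f.stalkMap x).hom (IsLocalRing.maximalIdeal ↑(Y.presheaf.stalk (f x)))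
    let p := q.asIdeal.comap (algebraMap Γ(Y, V) Γ(X, U))
    have hJ : J = (p.map (algebraMap Γ(Y, V) Γ(X, U))).map
        (algebraMap Γ(X, U) (X.presheaf.stalk x)) := Cons.map_maximalIdeal_eq f hV hU e hx
    let ψ : Γ(F, U) →ₗ[Γ(X, U)]
        ↑(F.presheaf.stalk x) ⧸ (J • (⊤ : Submodule ↑(X.presheaf.stalk x) ↑(F.presheaf.stalk x))) :=
      ((J • (⊤ : Submodule ↑(X.presheaf.stalk x) ↑(F.presheaf.stalk x))).mkQ.restrictScalars Γ(X, U)) ∘ₗ φ
    have hψ : IsFibModel (A := Γ(Y, V)) q ψ := by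
      refine ⟨fun c hc => ?_, fun z => ?_, fun m => ?_⟩
      · have hu : IsUnit (algebraMap Γ(X, U) (X.presheaf.stalk x) c) :=
          IsLocalization.map_units (X.presheaf.stalk x) (⟨c, hc⟩ : q.asIdeal.primeCompl)
        obtain ⟨v, hv⟩ := hu
        have : Bijective fun z : ↑(F.presheaf.stalk x) ⧸ (J • (⊤ : Submodule ↑(X.presheaf.stalk x) ↑(F.presheaf.stalk x))) =>
            v • z := MulAction.bijective v
        simpa only [Units.smul_def, hv, algebraMap_smul] using this
      · obtain ⟨z, rfl⟩ := Submodule.Quotient.mk_surjective _ z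
        obtain ⟨⟨m, c⟩, hm⟩ := IsLocalizedModule.surj q.asIdeal.primeCompl φ z
        refine ⟨c, c.2, m, ?_⟩
        show (c : Γ(X, U)) • Submodule.Quotient.mk z = Submodule.Quotient.mk (φ m)
        rw [← Submodule.Quotient.mk_smul, ← hm]
        rfl
      · show Submodule.Quotient.mk (φ m) = 0 ↔ _
        rw [Submodule.Quotient.mk_eq_zero, hJ, mem_map_smul_top_localized q.asIdeal.primeCompl φ]
        simp only [mem_map_smul_top_iff]
        rfl
    rw [hWq q _ ψ hψ, and_iff_right ((QcohFlat.isFlatOverAt_iff f F hV hU e hx).1 (hflat x)),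
      ← isWeaklyRegular_map_algebraMap_iff (X.presheaf.stalk x), List.map_ofFn]
    refine iff_of_eq (congrArg _ (congrArg List.ofFn (funext fun i => ?_)))
    show (X.presheaf.germ U x hx) (X.presheaf.map (homOfLE le_top).op (g i)) = _
    exact TopCat.Presheaf.germ_res_apply X.presheaf _ x hx (g i)
  refine ⟨hU.fromSpec '' W, ?_, hU.fromSpec.isOpenEmbedding.isOpenMap _ hW,
    ⟨_, (key x₀ hxU).2 hx₀, hU.fromSpec_primeIdealOf _⟩⟩
  rintro _ ⟨q, hq, rfl⟩
  have hy : hU.fromSpec q ∈ U := by
    have : hU.fromSpec q ∈ Set.range hU.fromSpec := ⟨q, rfl⟩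
    rwa [hU.range_fromSpec] at this
  refine (key _ hy).1 ?_
  rwa [show hU.primeIdealOf ⟨_, hy⟩ = q from
    hU.fromSpec.isOpenEmbedding.injective (hU.fromSpec_primeIdealOf _)]

end Groth.Agent.EGA43.InjFibre
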