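import Groth.Agent.EGA43.InjFibre.InjFlat
import Groth.Agent.EGA43.InjFibre.General
import Mathlib.RingTheory.Regular.RegularSequence
import Mathlib.RingTheory.LocalRing.ResidueField.Ideal
import Mathlib.Algebra.Module.FinitePresentation
import Mathlib.RingTheory.Nakayama

/-!
# Regular sequences on the fibres of flat modules (EGA IV 11.3.8)
-/

set_option autoImplicit false
set_option backward.isDefEq.respectTransparency false

universe u

open TensorProduct Function RingTheory.Sequence
open scoped Pointwise

namespace Groth.Agent.EGA43.InjFibre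

section Equivs

variable {B N N' : Type u} [CommRing B] [AddCommGroup N] [Module B N] [AddCommGroup N'] [Module B N']

theorem range_lsmul_eq (b : B) : LinearMap.range (LinearMap.lsmul B N b) = b • (⊤ : Submodule B N) := by
  ext x
  simp [Submodule.mem_smul_pointwise_iff_exists]

theorem nonempty_quotSMulTop_equiv (b : B) (π : N →ₗ[B] N') (hπ : Surjective π)
    (hex : Exact (LinearMap.lsmul B N b) π) : Nonempty (QuotSMulTop b N ≃ₗ[B] N') :=
  ⟨(Submodule.quotEquivOfEq _ _ ((range_lsmul_eq b).symm.trans hex.linearMap_ker_eq.symm)).trans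
    (LinearMap.quotKerEquivOfSurjective π hπ)⟩

theorem nonempty_localized_equiv (S : Submonoid B) (e : N ≃ₗ[B] N') :
    Nonempty (LocalizedModule S N ≃ₗ[B] LocalizedModule S N') :=
  have := IsLocalizedModule.of_linearEquiv_right S (LocalizedModule.mkLinearMap S N') e
  ⟨IsLocalizedModule.linearEquiv S (LocalizedModule.mkLinearMap S N)
    (LocalizedModule.mkLinearMap S N' ∘ₗ e.toLinearMap)⟩

theorem map_lsmul (S : Submonoid B) (b : B) (x : LocalizedModule S N) :
    LocalizedModule.map S (LinearMap.lsmul B N b) x = b • x := by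
  induction x using LocalizedModule.induction_on with
  | h m s => rw [LocalizedModule.map_mk, LinearMap.lsmul_apply, LocalizedModule.smul'_mk]

theorem exact_lsmul_localized (S : Submonoid B) (b : B) (π : N →ₗ[B] N') (hex : Exact (LinearMap.lsmul B N b) π) :
    Exact (LinearMap.lsmul B (LocalizedModule S N) b) ((LocalizedModule.map S π).restrictScalars B) := by
  intro x
  have h := (LocalizedModule.map_exact S _ π hex) x
  simp only [LinearMap.restrictScalars_apply, Set.mem_range, LinearMap.lsmul_apply] at h ⊢
  refine h.trans ⟨fun ⟨y, hy⟩ => ⟨y, (map_lsmul S b y).symm.trans hy⟩, fun ⟨y, hy⟩ => ⟨y, (map_lsmul S b y).trans hy⟩⟩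

theorem exact_mkQ_lsmul (b : B) : Exact (LinearMap.lsmul B N b) (b • (⊤ : Submodule B N)).mkQ := by
  rw [LinearMap.exact_iff, Submodule.ker_mkQ, range_lsmul_eq]

end Equivs

section Fibre

variable {A B M : Type u} [CommRing A] [CommRing B] [Algebra A B] [AddCommGroup M] [Module B M] [Module A M]
  [IsScalarTower A B M] (q : Ideal B) [q.IsPrime]

/-- The fibre at `q` of `M`. -/
abbrev FibLoc (M : Type u) [AddCommGroup M] [Module B M] [Module A M] [IsScalarTower A B M] : Type u :=
  LocalizedModule q.primeCompl (M ⊗[A] (q.comap (algebraMap A B)).ResidueField)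

theorem mk_tmul_eq_zero_iff (m : M) :
    LocalizedModule.mkLinearMap q.primeCompl (M ⊗[A] (q.comap (algebraMap A B)).ResidueField) (m ⊗ₜ[A] 1) = 0 ↔
      ∃ c ∉ q, c • m ∈ q.comap (algebraMap A B) • (⊤ : Submodule A M) := by
  let p := q.comap (algebraMap A B)
  let g : (A ⧸ p) →ₗ[A] p.ResidueField := (IsScalarTower.toAlgHom A (A ⧸ p) p.ResidueField).toLinearMap
  have hu : ∀ a ∈ p.primeCompl, algebraMap A p.ResidueField a ≠ 0 := fun a ha h =>
    ha (Ideal.algebraMap_residueField_eq_zero.1 h)
  have hg : IsLocalizedModule p.primeCompl g := by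
    refine { map_units := fun s => ?_, surj := fun y => ?_, exists_of_eq := fun {a b} hab => ?_ }
    · rw [Module.End.isUnit_iff]
      constructor
      · intro x y hxy
        simp only [Module.algebraMap_end_apply, Algebra.smul_def] at hxy
        exact mul_left_cancel₀ (hu _ s.2) hxy
      · intro y
        refine ⟨(algebraMap A p.ResidueField (s : A))⁻¹ * y, ?_⟩
        simp only [Module.algebraMap_end_apply, Algebra.smul_def]
        rw [← mul_assoc, mul_inv_cancel₀ (hu _ s.2), one_mul]
    · obtain ⟨a, s, hs, rfl⟩ := IsFractionRing.div_surjective (A ⧸ p) y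
      obtain ⟨s, rfl⟩ := Ideal.Quotient.mk_surjective s
      have hsp : s ∈ p.primeCompl := fun h =>
        nonZeroDivisors.ne_zero hs (Ideal.Quotient.eq_zero_iff_mem.2 h)
      refine ⟨⟨a, s, hsp⟩, ?_⟩
      rw [Submonoid.smul_def, Algebra.smul_def, IsScalarTower.algebraMap_apply A (A ⧸ p) p.ResidueField,
        Ideal.Quotient.algebraMap_eq, mul_div_cancel₀]
      · rfl
      · rw [← Ideal.Quotient.algebraMap_eq, ← IsScalarTower.algebraMap_apply]
        exact hu _ hsp
    · exact ⟨1, by rw [one_smul, one_smul]; exact IsFractionRing.injective (A ⧸ p) p.ResidueField hab⟩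
  let gM : (A ⧸ p) ⊗[A] M →ₗ[A] p.ResidueField ⊗[A] M := AlgebraTensorModule.rTensor A M g
  have hgM : IsLocalizedModule p.primeCompl gM :=
    inferInstanceAs (IsLocalizedModule p.primeCompl (AlgebraTensorModule.rTensor A M g))
  constructor
  · intro h
    obtain ⟨⟨c, hc⟩, hcm⟩ := (IsLocalizedModule.eq_zero_iff q.primeCompl (LocalizedModule.mkLinearMap q.primeCompl _)).1 h
    have h1 : gM ((1 : A ⧸ p) ⊗ₜ (c • m)) = 0 := by
      rw [← (TensorProduct.comm A M p.ResidueField).symm.map_eq_zero_iff]
      rw [Submonoid.smul_def, TensorProduct.smul_tmul'] at hcm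
      show (TensorProduct.comm A M p.ResidueField).symm (g 1 ⊗ₜ[A] (c • m)) = 0
      rw [TensorProduct.comm_symm_tmul, show g 1 = 1 from map_one (IsScalarTower.toAlgHom A (A ⧸ p) p.ResidueField)]
      exact hcm
    obtain ⟨⟨a, ha⟩, ham⟩ := (IsLocalizedModule.eq_zero_iff p.primeCompl gM).1 h1
    refine ⟨algebraMap A B a * c, q.primeCompl.mul_mem ha hc, ?_⟩
    rw [← tmul_one_quotient_eq_zero_iff, ← (TensorProduct.comm A M (A ⧸ p)).map_eq_zero_iff, TensorProduct.comm_tmul,
      mul_smul, algebraMap_smul, TensorProduct.tmul_smul]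
    exact ham
  · rintro ⟨c, hc, hcm⟩
    refine (IsLocalizedModule.eq_zero_iff q.primeCompl (LocalizedModule.mkLinearMap q.primeCompl _)).2 ⟨⟨c, hc⟩, ?_⟩
    show c • (m ⊗ₜ[A] (1 : p.ResidueField)) = 0
    rw [TensorProduct.smul_tmul']
    refine Submodule.smul_induction_on hcm (fun a ha x _ => ?_) fun x y hx hy => by rw [add_tmul, hx, hy, add_zero]
    rw [TensorProduct.smul_tmul, Algebra.smul_def, mul_one, Ideal.algebraMap_residueField_eq_zero.2 ha, tmul_zero]

theorem fibInjAt_lsmul (b : B) (hb : IsSMulRegular (FibLoc (A := A) q M) b) :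
    FibInjAt A B (LinearMap.lsmul B M b) ⟨q, inferInstance⟩ := by
  intro m hm
  rw [← mk_tmul_eq_zero_iff q] at hm ⊢
  refine hb ?_
  show b • _ = b • _
  rw [smul_zero, ← map_smul, TensorProduct.smul_tmul']
  exact hm

theorem regular_and_flat_quot [Algebra.FinitePresentation A B] [Module.FinitePresentation B M] (b : B)
    (hflat : Module.Flat A (LocalizedModule q.primeCompl M)) (hb : IsSMulRegular (FibLoc (A := A) q M) b) :
    IsSMulRegular (LocalizedModule q.primeCompl M) b ∧ Module.Flat A (LocalizedModule q.primeCompl (QuotSMulTop b M)) := by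
  have hU := uInjAt_of_fibInjAt (q := ⟨q, inferInstance⟩) hflat (fibInjAt_lsmul q b hb)
  refine ⟨fun x y hxy => hU.injective_localized ?_, hU.flat_coker hflat _ (Submodule.mkQ_surjective _) (exact_mkQ_lsmul b)⟩
  rw [map_lsmul, map_lsmul]
  exact hxy

/-- **EGA IV 11.3.8**: regular sequences on the fibre. -/
theorem isWeaklyRegular_and_flat [Algebra.FinitePresentation A B] (g : List B) :
    ∀ (M : Type u) [AddCommGroup M] [Module B M] [Module A M] [IsScalarTower A B M] [Module.FinitePresentation B M],
      Module.Flat A (LocalizedModule q.primeCompl M) → IsWeaklyRegular (FibLoc (A := A) q M) g →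
      IsWeaklyRegular (LocalizedModule q.primeCompl M) g ∧ ∀ i ≤ g.length, Module.Flat A
        (LocalizedModule q.primeCompl (M ⧸ (Ideal.span {b | b ∈ g.take i} • (⊤ : Submodule B M)))) := by
  induction g with
  | nil =>
    intro M _ _ _ _ _ hflat _
    refine ⟨IsWeaklyRegular.nil _ _, fun i _ => ?_⟩
    obtain ⟨e⟩ := nonempty_localized_equiv q.primeCompl (Submodule.quotEquivOfEqBot
      (Ideal.span {b | b ∈ ([] : List B).take i} • (⊤ : Submodule B M)) (by simp))
    exact Module.Flat.of_linearEquiv (e.restrictScalars A)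
  | cons b t ih =>
    intro M _ _ _ _ _ hflat hreg
    obtain ⟨hb, ht⟩ := (isWeaklyRegular_cons_iff _ b t).1 hreg
    obtain ⟨hbM, hflat₁⟩ := regular_and_flat_quot q b hflat hb
    let π : M →ₗ[B] QuotSMulTop b M := (b • (⊤ : Submodule B M)).mkQ
    have hπ : Surjective π := Submodule.mkQ_surjective _
    have hex : Exact (LinearMap.lsmul B M b) π := exact_mkQ_lsmul b
    have : Module.FinitePresentation B (QuotSMulTop b M) :=
      Module.finitePresentation_of_surjective π hπ (by
        rw [hex.linearMap_ker_eq, LinearMap.range_eq_map]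
        exact Module.Finite.fg_top.map _)
    let πκ := AlgebraTensorModule.rTensor A (q.comap (algebraMap A B)).ResidueField π
    have hexκ : Exact (LinearMap.lsmul B (M ⊗[A] (q.comap (algebraMap A B)).ResidueField) b) πκ := by
      have h := rTensor_exact (q.comap (algebraMap A B)).ResidueField (f := (LinearMap.lsmul B M b).restrictScalars A)
        (g := π.restrictScalars A) hex hπ
      intro x
      refine (h x).trans ?_
      have : ∀ y, ((LinearMap.lsmul B M b).restrictScalars A).rTensor (q.comap (algebraMap A B)).ResidueField y = b • y :=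
        fun y => by
          induction y using TensorProduct.induction_on with
          | zero => simp
          | add u v hu hv => rw [map_add, hu, hv, smul_add]
          | tmul c d => rw [LinearMap.rTensor_tmul, TensorProduct.smul_tmul']; rfl
      exact ⟨fun ⟨y, hy⟩ => ⟨y, (this y).symm.trans hy⟩, fun ⟨y, hy⟩ => ⟨y, (this y).trans hy⟩⟩
    obtain ⟨eF⟩ := nonempty_quotSMulTop_equiv (N := FibLoc (A := A) q M) (N' := FibLoc (A := A) q (QuotSMulTop b M))
      b ((LocalizedModule.map q.primeCompl πκ).restrictScalars B)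
      (LocalizedModule.map_surjective q.primeCompl πκ (LinearMap.rTensor_surjective _ (g := π.restrictScalars A) hπ))
      (exact_lsmul_localized q.primeCompl b πκ hexκ)
    obtain ⟨ht₁, hfl⟩ := ih (QuotSMulTop b M) hflat₁ ((LinearEquiv.isWeaklyRegular_congr eF t).1 ht)
    obtain ⟨eM⟩ := nonempty_quotSMulTop_equiv b ((LocalizedModule.map q.primeCompl π).restrictScalars B)
      (LocalizedModule.map_surjective _ π hπ) (exact_lsmul_localized _ b π hex)
    refine ⟨(isWeaklyRegular_cons_iff _ b t).2 ⟨hbM, (LinearEquiv.isWeaklyRegular_congr eM t).2 ht₁⟩, fun i hi => ?_⟩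
    cases i with
    | zero =>
      obtain ⟨e⟩ := nonempty_localized_equiv q.primeCompl (Submodule.quotEquivOfEqBot
        (Ideal.span {c | c ∈ (b :: t).take 0} • (⊤ : Submodule B M)) (by simp))
      exact Module.Flat.of_linearEquiv (e.restrictScalars A)
    | succ j =>
      let I' := Ideal.span {c | c ∈ t.take j}
      let σ := (I' • (⊤ : Submodule B (QuotSMulTop b M))).mkQ ∘ₗ π
      have hσ : LinearMap.ker σ = Ideal.span {c | c ∈ (b :: t).take (j + 1)} • (⊤ : Submodule B M) := by
        rw [LinearMap.ker_comp, Submodule.ker_mkQ,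
          show (⊤ : Submodule B (QuotSMulTop b M)) = Submodule.map π ⊤ by
            rw [Submodule.map_top, LinearMap.range_eq_top.2 hπ],
          ← Submodule.map_smul'', Submodule.comap_map_eq, Submodule.ker_mkQ,
          show {c | c ∈ (b :: t).take (j + 1)} = {b} ∪ {c | c ∈ t.take j} by ext; simp [List.take_succ_cons],
          Ideal.span_union, Submodule.sup_smul, Submodule.ideal_span_singleton_smul, sup_comm]
      obtain ⟨e⟩ := nonempty_localized_equiv q.primeCompl ((Submodule.quotEquivOfEq _ _ hσ.symm).trans
        (LinearMap.quotKerEquivOfSurjective σ ((Submodule.mkQ_surjective _).comp hπ)))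
      have := hfl j (by simpa using hi)
      exact Module.Flat.of_linearEquiv (e.restrictScalars A)

theorem isRegular_and_flat [Algebra.FinitePresentation A B] [Module.FinitePresentation B M] (g : List B)
    (hg : ∀ b ∈ g, b ∈ q) (hflat : Module.Flat A (LocalizedModule q.primeCompl M))
    (hreg : IsRegular (FibLoc (A := A) q M) g) :
    IsRegular (LocalizedModule q.primeCompl M) g ∧ ∀ i ≤ g.length, Module.Flat A
      (LocalizedModule q.primeCompl (M ⧸ (Ideal.span {b | b ∈ g.take i} • (⊤ : Submodule B M)))) := by
  obtain ⟨hw, hfl⟩ := isWeaklyRegular_and_flat q g M hflat hreg.toIsWeaklyRegular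
  refine ⟨⟨hw, fun htop => ?_⟩, hfl⟩
  have hle : Ideal.ofList g ≤ q := Ideal.span_le.2 hg
  let Bq := Localization.AtPrime q
  have hne : Nontrivial (LocalizedModule q.primeCompl M) := by
    by_contra hn
    rw [not_nontrivial_iff_subsingleton] at hn
    refine hreg.top_ne_smul ?_
    have : Subsingleton (FibLoc (A := A) q M) := by
      refine subsingleton_of_forall_eq 0 fun x => ?_
      induction x using LocalizedModule.induction_on with
      | h z s =>
        have hz : ∀ z, LocalizedModule.mkLinearMap q.primeCompl (M ⊗[A] (q.comap (algebraMap A B)).ResidueField) z = 0 := by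
          intro z
          induction z using TensorProduct.induction_on with
          | zero => simp
          | add u v hu hv => rw [map_add, hu, hv, add_zero]
          | tmul m c =>
            obtain ⟨⟨d, hd⟩, hdm⟩ := (IsLocalizedModule.eq_zero_iff q.primeCompl
              (LocalizedModule.mkLinearMap q.primeCompl M)).1 (Subsingleton.elim (LocalizedModule.mkLinearMap q.primeCompl M m) 0)
            refine (IsLocalizedModule.eq_zero_iff q.primeCompl (LocalizedModule.mkLinearMap q.primeCompl _)).2
              ⟨⟨d, hd⟩, ?_⟩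
            rw [Submonoid.smul_def] at hdm ⊢
            rw [TensorProduct.smul_tmul', hdm, zero_tmul]
        have h1 := hz z
        rw [LocalizedModule.mkLinearMap_apply] at h1
        rw [← LocalizedModule.zero_mk (S := q.primeCompl) (M := M ⊗[A] (q.comap (algebraMap A B)).ResidueField) 1] at h1 ⊢
        obtain ⟨v, hv⟩ := LocalizedModule.mk_eq.1 h1
        exact LocalizedModule.mk_eq.2 ⟨v, by simpa using hv⟩
    exact Subsingleton.elim _ _
  have : Module.Finite Bq (LocalizedModule q.primeCompl M) :=
    Module.Finite.of_isLocalizedModule q.primeCompl (LocalizedModule.mkLinearMap q.primeCompl M)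
  have hJ : (Ideal.ofList g).map (algebraMap B Bq) ≤ Ideal.jacobson ⊥ := by
    rw [IsLocalRing.jacobson_eq_maximalIdeal ⊥ bot_ne_top, ← Localization.AtPrime.map_eq_maximalIdeal]
    exact Ideal.map_mono hle
  have h2 : (⊤ : Submodule Bq (LocalizedModule q.primeCompl M)) ≤
      (Ideal.ofList g).map (algebraMap B Bq) • (⊤ : Submodule Bq (LocalizedModule q.primeCompl M)) := fun x _ => by
    have hx : x ∈ Ideal.ofList g • (⊤ : Submodule B (LocalizedModule q.primeCompl M)) := htop ▸ Submodule.mem_top
    refine Submodule.smul_induction_on hx (fun r hr y _ => ?_) fun x y hx hy => add_mem hx hy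
    rw [← algebraMap_smul Bq r y]
    exact Submodule.smul_mem_smul (Ideal.mem_map_of_mem _ hr) trivial
  have h3 := Submodule.eq_bot_of_le_smul_of_le_jacobson_bot _ _ Module.Finite.fg_top h2 hJ
  exact bot_ne_top h3.symm

end Fibre

end Groth.Agent.EGA43.InjFibre
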