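import Groth.Agent.EGA43.InjFibre.General

/-!
# Multiplication by a family of elements (EGA IV 11.3.7, 11.10)
-/

set_option autoImplicit false
set_option backward.isDefEq.respectTransparency false

universe u

open TensorProduct Function

namespace Groth.Agent.EGA43.InjFibre

/-- `m ↦ (g i • m)_i`. -/
noncomputable def mulTuple {B ι : Type u} [CommRing B] (M : Type u) [AddCommGroup M] [Module B M]
    (g : ι → B) : M →ₗ[B] (ι → M) := LinearMap.pi fun i => g i • LinearMap.id

@[simp] theorem mulTuple_apply {B ι : Type u} [CommRing B] {M : Type u} [AddCommGroup M]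
    [Module B M] (g : ι → B) (m : M) (i : ι) : mulTuple M g m i = g i • m := rfl

theorem mulTuple_eq_zero_iff {B ι : Type u} [CommRing B] {M : Type u} [AddCommGroup M]
    [Module B M] (g : ι → B) (m : M) : mulTuple M g m = 0 ↔ ∀ i, g i • m = 0 :=
  funext_iff

theorem isLocalizedModule_compLeft {B M Mq ι : Type*} [CommRing B] [AddCommGroup M] [Module B M]
    [AddCommGroup Mq] [Module B Mq] (S : Submonoid B) (f : M →ₗ[B] Mq) [IsLocalizedModule S f]
    [Fintype ι] : IsLocalizedModule S (f.compLeft ι) := by
  classical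
  refine { map_units := fun s => ?_, surj := fun y => ?_, exists_of_eq := fun {a b} e => ?_ }
  · rw [Module.End.isUnit_iff]
    have h := (Module.End.isUnit_iff _).1 (IsLocalizedModule.map_units f s)
    exact ⟨fun x y hxy => funext fun i => h.1 (congrFun hxy i),
      fun y => ⟨fun i => (h.2 (y i)).choose, funext fun i => (h.2 (y i)).choose_spec⟩⟩
  · choose c hc using fun i => IsLocalizedModule.surj S f (y i)
    refine ⟨⟨fun i => (∏ j ∈ Finset.univ.erase i, (c j).2) • (c i).1, ∏ j, (c j).2⟩,
      funext fun i => ?_⟩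
    show (∏ j, (c j).2) • y i = f ((∏ j ∈ Finset.univ.erase i, (c j).2) • (c i).1)
    rw [← Finset.prod_erase_mul _ _ (Finset.mem_univ i), mul_smul, hc, Submonoid.smul_def,
      Submonoid.smul_def, map_smul]
  · choose c hc using fun i => IsLocalizedModule.exists_of_eq (S := S) (f := f) (congrFun e i)
    refine ⟨∏ i, c i, funext fun i => ?_⟩
    rw [Pi.smul_apply, Pi.smul_apply, ← Finset.prod_erase_mul _ _ (Finset.mem_univ i), mul_smul,
      mul_smul, hc i]

theorem flat_localized_pi {A B M ι : Type u} [CommRing A] [CommRing B] [Algebra A B]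
    [AddCommGroup M] [Module B M] [Module A M] [IsScalarTower A B M] [Fintype ι] (S : Submonoid B)
    (h : Module.Flat A (LocalizedModule S M)) : Module.Flat A (LocalizedModule S (ι → M)) := by
  classical
  have := isLocalizedModule_compLeft (ι := ι) S (LocalizedModule.mkLinearMap S M)
  let e := (IsLocalizedModule.iso S ((LocalizedModule.mkLinearMap S M).compLeft ι)).restrictScalars A
  exact Module.Flat.of_linearEquiv
    (e.trans (DFinsupp.linearEquivFunOnFintype (R := A) (M := fun _ : ι => LocalizedModule S M)).symm)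

/-- **EGA IV 11.3.7** for multiplication by a family of elements. -/
theorem uInjAt_mulTuple {A B M ι : Type u} [CommRing A] [CommRing B] [Algebra A B]
    [Algebra.FinitePresentation A B] [AddCommGroup M] [Module B M] [Module A M]
    [IsScalarTower A B M] [Module.FinitePresentation B M] [Fintype ι] (g : ι → B)
    {q : PrimeSpectrum B} (hA : Module.Flat A (LocalizedModule q.asIdeal.primeCompl M))
    (h : FibInjAt A B (mulTuple M g) q) : UInjAt A B (mulTuple M g) q :=
  uInjAt_of_fibInjAt (flat_localized_pi q.asIdeal.primeCompl hA) h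

/-- On a fibre which is the whole space. -/
theorem fibInjAt_of_comap_eq_bot {A B M' M : Type u} [CommRing A] [CommRing B] [Algebra A B]
    [AddCommGroup M'] [Module B M'] [Module A M'] [IsScalarTower A B M'] [AddCommGroup M]
    [Module B M] [Module A M] [IsScalarTower A B M] {u : M' →ₗ[B] M} {q : PrimeSpectrum B}
    (hp : q.asIdeal.comap (algebraMap A B) = ⊥)
    (h : ∀ m, u m = 0 → ∃ c ∉ q.asIdeal, c • m = 0) : FibInjAt A B u q := by
  rintro m ⟨c, hc, hcm⟩
  rw [hp, Submodule.bot_smul, Submodule.mem_bot] at hcm
  obtain ⟨d, hd, hdm⟩ := h (c • m) (by rw [map_smul, hcm])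
  refine ⟨d * c, q.asIdeal.primeCompl.mul_mem hd hc, ?_⟩
  rw [mul_smul, hdm]
  exact zero_mem _

/-- Injectivity of `m ↦ (g i • m)` bounds the elements killed by powers of the `g i`. -/
theorem exists_smul_eq_zero_of_pow {B M ι : Type u} [CommRing B] [AddCommGroup M] [Module B M]
    [Fintype ι] (g : ι → B) (q : PrimeSpectrum B)
    (h : ∀ m, mulTuple M g m = 0 → ∃ c ∉ q.asIdeal, c • m = 0) :
    ∀ (n : ℕ) (N : ι → ℕ) (m : M), ∑ i, N i = n → (∀ i, g i ^ N i • m = 0) →
      ∃ c ∉ q.asIdeal, c • m = 0 := by
  classical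
  intro n
  induction n using Nat.strong_induction_on with
  | _ n ih =>
    intro N m hn hm
    by_cases h0 : ∃ i, N i = 0
    · obtain ⟨i, hi⟩ := h0
      refine ⟨1, q.asIdeal.primeCompl.one_mem, ?_⟩
      rw [one_smul]
      simpa [hi] using hm i
    push Not at h0
    have hstep : ∀ i, ∃ c ∉ q.asIdeal, c • g i • m = 0 := fun i => by
      refine ih (∑ j, Function.update N i (N i - 1) j) ?_ _ (g i • m) rfl fun j => ?_
      · rw [← hn]
        refine Finset.sum_lt_sum (fun j _ => ?_) ⟨i, Finset.mem_univ i, ?_⟩
        · rcases eq_or_ne j i with rfl | hj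
          · simp
          · simp [hj]
        · have := h0 i
          simp only [Function.update_self]
          omega
      · rcases eq_or_ne j i with rfl | hj
        · rw [Function.update_self, smul_smul, ← pow_succ, Nat.sub_add_cancel
            (Nat.one_le_iff_ne_zero.2 (h0 j))]
          exact hm j
        · rw [Function.update_of_ne hj, smul_comm, hm j, smul_zero]
    choose c hc hcm using hstep
    obtain ⟨d, hd, hdm⟩ := h ((∏ i, c i) • m) ((mulTuple_eq_zero_iff g _).2 fun i => by
      rw [← Finset.prod_erase_mul _ _ (Finset.mem_univ i), mul_smul, smul_comm (g i), smul_comm (g i),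
        hcm, smul_zero])
    refine ⟨d * ∏ i, c i, q.asIdeal.primeCompl.mul_mem hd
      (Submonoid.prod_mem _ fun i _ => hc i), ?_⟩
    rwa [mul_smul]

end Groth.Agent.EGA43.InjFibre
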